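import Mathlib
import Cfsg.Prelude.Def_Classical

/-!
# Elements of order 3 in the linear and unitary groups of degree 3 and 2 (helper991)
-/

set_option autoImplicit false

namespace Cfsg.Agent.H991

open Cfsg Matrix

theorem three_dvd_of {G : Type*} [Group G] {x : G} (h : x ^ 3 = 1) (hx : x ≠ 1) :
    3 ∣ Nat.card G := by
  have : orderOf x = 3 := orderOf_eq_prime h hx
  rw [← this]
  exact orderOf_dvd_natCard x

/-- The matrix of a 3-cycle. -/
def c3 (F : Type*) [Field F] : Matrix (Fin 3) (Fin 3) F := !![0, 0, 1; 1, 0, 0; 0, 1, 0]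

theorem c3_det (F : Type*) [Field F] : (c3 F).det = 1 := by
  simp [c3, Matrix.det_fin_three]

theorem c3_cube (F : Type*) [Field F] : c3 F * c3 F * c3 F = 1 := by
  ext i j
  fin_cases i <;> fin_cases j <;> simp [c3, Matrix.mul_apply, Fin.sum_univ_three]

/-- The special linear group of degree 3 projects onto a group with an element of order 3. -/
theorem three_dvd_psl3 (F : Type*) [Field F] : 3 ∣ Nat.card (Matrix.ProjectiveSpecialLinearGroup (Fin 3) F) := by
  let s : Matrix.SpecialLinearGroup (Fin 3) F := ⟨c3 F, c3_det F⟩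
  have hs : s ^ 3 = 1 := by
    apply Subtype.ext
    rw [pow_succ, pow_succ, pow_one]
    exact c3_cube F
  refine three_dvd_of (x := (QuotientGroup.mk s : Matrix.ProjectiveSpecialLinearGroup (Fin 3) F)) ?_ ?_
  · rw [← QuotientGroup.mk_pow, hs]; rfl
  · intro h
    have h1 : s ∈ Subgroup.center (Matrix.SpecialLinearGroup (Fin 3) F) := (QuotientGroup.eq_one_iff s).1 h
    rw [Matrix.SpecialLinearGroup.mem_center_iff] at h1
    obtain ⟨r, -, hr⟩ := h1
    have h2 := congrFun (congrFun hr 1) 0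
    simp [s, c3, Matrix.scalar_apply, Matrix.diagonal] at h2

/-- A matrix of order 3 in `SL₂`. -/
def c2 (F : Type*) [Field F] : Matrix (Fin 2) (Fin 2) F := !![0, -1; 1, -1]

theorem three_dvd_psl2 (F : Type*) [Field F] : 3 ∣ Nat.card (Matrix.ProjectiveSpecialLinearGroup (Fin 2) F) := by
  let s : Matrix.SpecialLinearGroup (Fin 2) F := ⟨c2 F, by simp [c2, Matrix.det_fin_two]⟩
  have hs : s ^ 3 = 1 := by
    apply Subtype.ext
    rw [pow_succ, pow_succ, pow_one]
    show c2 F * c2 F * c2 F = 1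
    ext i j
    fin_cases i <;> fin_cases j <;> simp [c2, Matrix.mul_apply, Fin.sum_univ_two]
  refine three_dvd_of (x := (QuotientGroup.mk s : Matrix.ProjectiveSpecialLinearGroup (Fin 2) F)) ?_ ?_
  · rw [← QuotientGroup.mk_pow, hs]; rfl
  · intro h
    have h1 : s ∈ Subgroup.center (Matrix.SpecialLinearGroup (Fin 2) F) := (QuotientGroup.eq_one_iff s).1 h
    rw [Matrix.SpecialLinearGroup.mem_center_iff] at h1
    obtain ⟨r, -, hr⟩ := h1
    have h2 := congrFun (congrFun hr 1) 0
    simp [s, c2, Matrix.scalar_apply, Matrix.diagonal] at h2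

/-- The diagonal matrix `diag(-1, -1, 1)`. -/
def d3 (F : Type*) [Field F] : Matrix (Fin 3) (Fin 3) F := !![-1, 0, 0; 0, -1, 0; 0, 0, 1]

theorem three_dvd_psu3 (F : Type*) [Field F] (q : ℕ) (hq : Odd q) (h2 : (2 : F) ≠ 0) :
    3 ∣ Nat.card (Cfsg.PSU 3 F q) := by
  let s0 : Matrix.SpecialLinearGroup (Fin 3) F := ⟨c3 F, c3_det F⟩
  have hs0 : s0 ∈ Cfsg.SU 3 F q := by
    intro u v
    change hermForm 3 F q (c3 F *ᵥ u) (c3 F *ᵥ v) = hermForm 3 F q u v
    simp [c3, hermForm, Matrix.mulVec, dotProduct, Fin.sum_univ_three]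
    ring
  let d0 : Matrix.SpecialLinearGroup (Fin 3) F := ⟨d3 F, by simp [d3, Matrix.det_fin_three]⟩
  have hd0 : d0 ∈ Cfsg.SU 3 F q := by
    intro u v
    change hermForm 3 F q (d3 F *ᵥ u) (d3 F *ᵥ v) = hermForm 3 F q u v
    simp [d3, hermForm, Matrix.mulVec, dotProduct, Fin.sum_univ_three, hq.neg_pow]
  let s : Cfsg.SU 3 F q := ⟨s0, hs0⟩
  let d : Cfsg.SU 3 F q := ⟨d0, hd0⟩
  have hs : s ^ 3 = 1 := by
    apply Subtype.ext
    apply Subtype.ext
    rw [pow_succ, pow_succ, pow_one]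
    exact c3_cube F
  refine three_dvd_of (x := (QuotientGroup.mk s : Cfsg.PSU 3 F q)) ?_ ?_
  · rw [← QuotientGroup.mk_pow, hs]; rfl
  · intro h
    have h1 : s ∈ Subgroup.center (Cfsg.SU 3 F q) := (QuotientGroup.eq_one_iff s).1 h
    have h3 := Subgroup.mem_center_iff.1 h1 d
    have h4 : d3 F * c3 F = c3 F * d3 F := congrArg (fun t : Cfsg.SU 3 F q => (t.1.1 : Matrix (Fin 3) (Fin 3) F)) h3
    have h5 := congrFun (congrFun h4 0) 2
    simp [d3, c3, Matrix.mul_apply, Fin.sum_univ_three] at h5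
    apply h2
    have : (2 : F) = 1 - (-1) := by ring
    rw [this, h5]; ring
theorem two_dvd_of {G : Type*} [Group G] {x : G} (h : x ^ 2 = 1) (hx : x ≠ 1) :
    2 ∣ Nat.card G := by
  have : orderOf x = 2 := orderOf_eq_prime h hx
  rw [← this]
  exact orderOf_dvd_natCard x

theorem two_ne_zero_of_odd (F : Type*) [Field F] [Fintype F] (h : Odd (Fintype.card F)) : (2 : F) ≠ 0 := by
  apply Ring.two_ne_zero
  intro hc
  have := FiniteField.even_card_of_char_two hc
  rw [Nat.odd_iff] at h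
  omega

theorem d3_sq (F : Type*) [Field F] : d3 F * d3 F = 1 := by
  ext i j
  fin_cases i <;> fin_cases j <;> simp [d3, Matrix.mul_apply, Fin.sum_univ_three]

theorem two_dvd_psl3 (F : Type*) [Field F] [Fintype F] (h : Odd (Fintype.card F)) :
    2 ∣ Nat.card (Matrix.ProjectiveSpecialLinearGroup (Fin 3) F) := by
  let s : Matrix.SpecialLinearGroup (Fin 3) F := ⟨d3 F, by simp [d3, Matrix.det_fin_three]⟩
  have hs : s ^ 2 = 1 := by
    apply Subtype.ext
    rw [pow_succ, pow_one]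
    exact d3_sq F
  refine two_dvd_of (x := (QuotientGroup.mk s : Matrix.ProjectiveSpecialLinearGroup (Fin 3) F)) ?_ ?_
  · rw [← QuotientGroup.mk_pow, hs]; rfl
  · intro hh
    have h1 : s ∈ Subgroup.center (Matrix.SpecialLinearGroup (Fin 3) F) := (QuotientGroup.eq_one_iff s).1 hh
    rw [Matrix.SpecialLinearGroup.mem_center_iff] at h1
    obtain ⟨r, -, hr⟩ := h1
    have h2 := congrFun (congrFun hr 0) 0
    have h3 := congrFun (congrFun hr 2) 2
    simp [s, d3, Matrix.scalar_apply, Matrix.diagonal] at h2 h3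
    apply two_ne_zero_of_odd F h
    have : (2 : F) = 1 - (-1) := by ring
    rw [this, ← h2, ← h3]; ring

end Cfsg.Agent.H991
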