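import Cfsg.Agent.StdSz.BorelCoord

/-!
# Elementary abelian subgroups of order 8 with all involutions conjugate: `Sz(8)` (helper991)

Task 43 (for S5788, S5786).
-/

set_option autoImplicit false

namespace Cfsg.Agent.H991.Eight

open Cfsg.Agent.StdSz.BorelCoord

theorem conj_p {F : Type*} [Field F] [Fintype F] {S : Type*} [Group S] (C : Data 1 F S)
    (hF : Fintype.card F = 8) {c : F} (hc : c ≠ 0) : IsConj (C.p 0 1) (C.p 0 c) := by
  have h7 : c ^ 7 = 1 := by
    have := FiniteField.pow_card_sub_one_eq_one c hc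
    rwa [hF] at this
  refine isConj_iff.2 ⟨C.h (Units.mk0 c hc ^ 3), ?_⟩
  rw [C.h_p, mul_zero]
  congr 1
  rw [mul_one, Units.val_pow_eq_pow_val, Units.val_mk0]
  calc (c ^ 3) ^ (1 + 2 ^ (1 + 1)) = (c ^ 7) ^ 2 * c := by ring
    _ = c := by rw [h7]; ring

theorem eight_of_data {F : Type*} [Field F] [Fintype F] {S : Type*} [Group S] (C : Data 1 F S)
    (hF : Fintype.card F = 8) : ∃ a b d : S,
    a * a = 1 ∧ a * b = b * a ∧ a * d = d * a ∧ b * d = d * b ∧ a ≠ 1 ∧ a ≠ b ∧ IsConj a b ∧ IsConj a d ∧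
    IsConj a (a * b) ∧ IsConj a (a * d) ∧ IsConj a (b * d) ∧ IsConj a (a * (b * d)) := by
  classical
  have : CharP F 2 := Cfsg.Agent.StdSz.EquivMaps.charP_two (n := 3) (by rw [hF]; norm_num)
  obtain ⟨x, hx⟩ : ∃ x : F, x ∉ ({0, 1} : Finset F) := by
    by_contra hcon
    push Not at hcon
    have h1 : (Finset.univ : Finset F) ⊆ {0, 1} := fun b _ => hcon b
    have h2 := Finset.card_le_card h1
    rw [Finset.card_univ, hF] at h2
    have h3 : ({0, 1} : Finset F).card ≤ 2 := Finset.card_le_two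
    omega
  rw [Finset.mem_insert, Finset.mem_singleton, not_or] at hx
  obtain ⟨hx0, hx1⟩ := hx
  have h7 : x ^ 7 = 1 := by
    have := FiniteField.pow_card_sub_one_eq_one x hx0
    rwa [hF] at this
  have h2 : (2 : F) = 0 := CharTwo.two_eq_zero
  have hx1' : x + 1 ≠ 0 := fun h => hx1 (by linear_combination h - h2)
  have hx12 : x ^ 2 + 1 ≠ 0 := by
    intro h
    apply hx1'
    have : (x + 1) ^ 2 = 0 := by linear_combination h + x * h2
    exact pow_eq_zero_iff (two_ne_zero) |>.1 this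
  refine ⟨C.p 0 1, C.p 0 x, C.p 0 (x ^ 2), ?_, ?_, ?_, ?_, ?_, ?_, conj_p C hF hx0, conj_p C hF (pow_ne_zero _ hx0),
    ?_, ?_, ?_, ?_⟩
  · rw [C.p_zero_mul, show (1 : F) + 1 = 0 by linear_combination h2, C.p_zero]
  · rw [C.p_zero_mul, C.p_zero_mul, add_comm]
  · rw [C.p_zero_mul, C.p_zero_mul, add_comm]
  · rw [C.p_zero_mul, C.p_zero_mul, add_comm]
  · rw [← C.p_zero]
    intro h
    exact one_ne_zero (C.p_inj _ _ _ _ h).2
  · intro h
    exact hx1 (C.p_inj _ _ _ _ h).2.symm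
  · rw [C.p_zero_mul]
    exact conj_p C hF (by rw [add_comm]; exact hx1')
  · rw [C.p_zero_mul]
    exact conj_p C hF (by rw [add_comm]; exact hx12)
  · rw [C.p_zero_mul]
    apply conj_p C hF
    rw [show x + x ^ 2 = x * (x + 1) by ring]
    exact mul_ne_zero hx0 hx1'
  · rw [C.p_zero_mul, C.p_zero_mul]
    apply conj_p C hF
    intro h
    -- `x ^ 3 = 1`
    have h3 : x ^ 3 = 1 := by linear_combination (x - 1) * h
    apply hx1
    calc x = x ^ 7 := by
          calc x = (x ^ 3) ^ 2 * x := by rw [h3]; ring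
            _ = x ^ 7 := by ring
      _ = 1 := h7

theorem sz_eight {F : Type*} [Field F] [Fintype F] (hF : Fintype.card F = 8) :
    ∃ a b d : ↥(Cfsg.Lie.Sz F 4),
    a * a = 1 ∧ a * b = b * a ∧ a * d = d * a ∧ b * d = d * b ∧ a ≠ 1 ∧ a ≠ b ∧ IsConj a b ∧ IsConj a d ∧
    IsConj a (a * b) ∧ IsConj a (a * d) ∧ IsConj a (b * d) ∧ IsConj a (a * (b * d)) :=
  eight_of_data (szData (m := 1) (by rw [hF]; norm_num)) hF

end Cfsg.Agent.H991.Eight
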