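import Mathlib

/-!
# The `quat_four` pattern (helper991)

Task 44 (for S5788, S5786).
-/

set_option autoImplicit false

namespace Cfsg.Agent.H991

/-- The pattern refuted by `Cfsg.Agent.H909.TwoCov.quat_four`. -/
def QF (X : Type*) [Group X] : Prop := ∃ i j z y : X, i * i = z ∧ j * j = z ∧ j * i * j⁻¹ = i⁻¹ ∧ z ≠ 1 ∧
    y * z * y⁻¹ ≠ z ∧ y * (y * z * y⁻¹) * y⁻¹ = z * (y * z * y⁻¹)

theorem QF.intro {X : Type*} [Group X] {i j z y b : X} (h1 : i * i = z) (h2 : j * j = z)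
    (h3 : i * (j * i) = j) (h4 : z ≠ 1) (h5 : y * z = b * y) (h6 : b ≠ z) (h7 : y * b = z * b * y) : QF X := by
  have hb : y * z * y⁻¹ = b := mul_inv_eq_iff_eq_mul.2 h5
  refine ⟨i, j, z, y, h1, h2, ?_, h4, by rwa [hb], ?_⟩
  · rw [mul_inv_eq_iff_eq_mul]
    exact eq_inv_mul_iff_mul_eq.2 h3
  · rw [hb]
    exact mul_inv_eq_iff_eq_mul.2 h7

theorem QF.map {X Y : Type*} [Group X] [Group Y] (f : X →* Y) {i j z y : X} (h1 : i * i = z) (h2 : j * j = z)
    (h3 : j * i * j⁻¹ = i⁻¹) (h6 : y * (y * z * y⁻¹) * y⁻¹ = z * (y * z * y⁻¹))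
    (hz : f z ≠ 1) (hzz : f (y * z * y⁻¹) ≠ f z) : QF Y := by
  refine ⟨f i, f j, f z, f y, by rw [← map_mul, h1], by rw [← map_mul, h2], ?_, hz, ?_, ?_⟩
  · rw [← map_inv, ← map_mul, ← map_mul, h3, map_inv]
  · intro h
    exact hzz (by rw [map_mul, map_mul, map_inv, h])
  · simp only [← map_inv, ← map_mul]
    rw [h6]

theorem QF.of_injective {X Y : Type*} [Group X] [Group Y] (e : X →* Y) (he : Function.Injective e)
    (h : QF X) : QF Y := by
  obtain ⟨i, j, z, y, h1, h2, h3, h4, h5, h6⟩ := h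
  exact QF.map e h1 h2 h3 h6 (fun h => h4 (he (by rw [map_one]; exact h))) (fun h => h5 (he h))

theorem QF.of_equiv {X Y : Type*} [Group X] [Group Y] (e : X ≃* Y) (h : QF X) : QF Y :=
  h.of_injective e.toMonoidHom e.injective

theorem QF.quot_center {X : Type*} [Group X] (h : QF X) : QF (X ⧸ Subgroup.center X) := by
  obtain ⟨i, j, z, y, h1, h2, h3, h4, h5, h6⟩ := h
  have hz2 : z * z = 1 := by
    have e1 : j * z * j⁻¹ = z⁻¹ := by
      calc j * z * j⁻¹ = (j * i * j⁻¹) * (j * i * j⁻¹) := by rw [← h1]; group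
        _ = z⁻¹ := by rw [h3, ← h1]; group
    have e2 : j * z * j⁻¹ = z := by rw [← h2]; group
    rw [e2] at e1
    calc z * z = z * z⁻¹ := by rw [← e1]
      _ = 1 := mul_inv_cancel z
  have hzi : z⁻¹ = z := inv_eq_of_mul_eq_one_left hz2
  set b := y * z * y⁻¹ with hb
  have hb2 : b * b = 1 := by
    calc b * b = y * (z * z) * y⁻¹ := by rw [hb]; group
      _ = 1 := by rw [hz2]; group
  have hbi : b⁻¹ = b := inv_eq_of_mul_eq_one_left hb2
  have hzb2 : (z * b) * (z * b) = 1 := by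
    rw [← h6]
    calc y * b * y⁻¹ * (y * b * y⁻¹) = y * (b * b) * y⁻¹ := by group
      _ = 1 := by rw [hb2]; group
  have hcomm : z * b = b * z := by
    have : (z * b)⁻¹ = z * b := inv_eq_of_mul_eq_one_left hzb2
    rw [← this, mul_inv_rev, hzi, hbi]
  refine QF.map (QuotientGroup.mk' _) h1 h2 h3 h6 ?_ ?_
  · intro h
    rw [QuotientGroup.mk'_apply, QuotientGroup.eq_one_iff, Subgroup.mem_center_iff] at h
    apply h5
    rw [hb, h y, mul_inv_cancel_right]
  · intro h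
    rw [QuotientGroup.mk'_apply, QuotientGroup.mk'_apply, eq_comm, QuotientGroup.eq,
      Subgroup.mem_center_iff] at h
    have h7 := h y
    rw [hzi] at h7
    -- `y (z b) y⁻¹ = b (z b) = z`
    have h8 : y * (z * b) * y⁻¹ = z := by
      calc y * (z * b) * y⁻¹ = (y * z * y⁻¹) * (y * b * y⁻¹) := by group
        _ = b * (z * b) := by rw [h6]
        _ = z := by rw [hcomm, ← mul_assoc, hb2, one_mul]
    rw [h7, mul_inv_cancel_right] at h8
    apply h4
    have h9 : b = 1 := mul_eq_left.1 h8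
    calc z = y⁻¹ * b * y := by rw [hb]; group
      _ = 1 := by rw [h9]; group

open Matrix

/-- Block embedding `SL₃ → SL_n`. -/
def blkSL {K : Type*} [Field K] {m n : ℕ} (e : Fin 3 ⊕ Fin m ≃ Fin n) :
    SpecialLinearGroup (Fin 3) K →* SpecialLinearGroup (Fin n) K where
  toFun A := ⟨(fromBlocks A.1 0 0 1).submatrix e.symm e.symm, by
    rw [det_submatrix_equiv_self, det_fromBlocks_zero₂₁, det_one, mul_one]
    exact A.2⟩
  map_one' := Subtype.ext (by
    show (fromBlocks (1 : Matrix (Fin 3) (Fin 3) K) 0 0 1).submatrix e.symm e.symm = 1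
    rw [fromBlocks_one, submatrix_one_equiv])
  map_mul' A B := Subtype.ext (by
    show (fromBlocks (A.1 * B.1) 0 0 1).submatrix e.symm e.symm =
      (fromBlocks A.1 0 0 1).submatrix e.symm e.symm * (fromBlocks B.1 0 0 1).submatrix e.symm e.symm
    rw [submatrix_mul_equiv, fromBlocks_multiply]
    simp)

theorem blkSL_injective {K : Type*} [Field K] {m n : ℕ} (e : Fin 3 ⊕ Fin m ≃ Fin n) :
    Function.Injective (blkSL (K := K) e) := by
  intro A B h
  have h1 := congrArg Subtype.val h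
  change (fromBlocks A.1 0 0 1).submatrix e.symm e.symm = (fromBlocks B.1 0 0 1).submatrix e.symm e.symm at h1
  apply Subtype.ext
  ext i j
  have h2 := congrFun (congrFun h1 (e (Sum.inl i))) (e (Sum.inl j))
  simpa using h2

section three

variable {K : Type*} [Field K]

/-- the elements -/
def mi : SpecialLinearGroup (Fin 3) K := ⟨!![0, 1, 0; -1, 0, 0; 0, 0, 1], by simp [det_fin_three]⟩

/-- the elements -/
def mz : SpecialLinearGroup (Fin 3) K := ⟨!![-1, 0, 0; 0, -1, 0; 0, 0, 1], by simp [det_fin_three]⟩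

/-- the elements -/
def mb : SpecialLinearGroup (Fin 3) K := ⟨!![1, 0, 0; 0, -1, 0; 0, 0, -1], by simp [det_fin_three]⟩

/-- the elements -/
def my : SpecialLinearGroup (Fin 3) K := ⟨!![0, 0, 1; 1, 0, 0; 0, 1, 0], by simp [det_fin_three]⟩

/-- the elements -/
def mj (a b : K) (h : a ^ 2 + b ^ 2 = -1) : SpecialLinearGroup (Fin 3) K :=
  ⟨!![a, b, 0; b, -a, 0; 0, 0, 1], by
    simp only [det_fin_three, of_apply, cons_val', cons_val_zero, cons_val_one, cons_val_two]
    simp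
    linear_combination -h⟩

theorem mi_mul : (mi : SpecialLinearGroup (Fin 3) K) * mi = mz := by
  apply Subtype.ext
  show !![0, 1, 0; -1, 0, 0; 0, 0, 1] * !![0, 1, 0; -1, 0, 0; 0, 0, (1 : K)] = !![-1, 0, 0; 0, -1, 0; 0, 0, 1]
  ext i j
  fin_cases i <;> fin_cases j <;> simp [Matrix.mul_apply, Fin.sum_univ_three]

theorem mj_mul {a b : K} (h : a ^ 2 + b ^ 2 = -1) : mj a b h * mj a b h = mz := by
  apply Subtype.ext
  show !![a, b, 0; b, -a, 0; 0, 0, 1] * !![a, b, 0; b, -a, 0; 0, 0, (1 : K)] = !![-1, 0, 0; 0, -1, 0; 0, 0, 1]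
  ext i j
  fin_cases i <;> fin_cases j <;> simp [Matrix.mul_apply, Fin.sum_univ_three]
  · linear_combination h
  · ring
  · ring
  · linear_combination h

theorem mi_mj {a b : K} (h : a ^ 2 + b ^ 2 = -1) : mi * (mj a b h * mi) = mj a b h := by
  apply Subtype.ext
  show !![0, 1, 0; -1, 0, 0; 0, 0, 1] * (!![a, b, 0; b, -a, 0; 0, 0, (1 : K)] *
    !![0, 1, 0; -1, 0, 0; 0, 0, 1]) = !![a, b, 0; b, -a, 0; 0, 0, (1 : K)]
  ext i j
  fin_cases i <;> fin_cases j <;> simp [Matrix.mul_apply, Fin.sum_univ_three]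

theorem my_mz : (my : SpecialLinearGroup (Fin 3) K) * mz = mb * my := by
  apply Subtype.ext
  show !![0, 0, 1; 1, 0, 0; 0, 1, 0] * !![-1, 0, 0; 0, -1, 0; 0, 0, (1 : K)] =
    !![1, 0, 0; 0, -1, 0; 0, 0, -1] * !![0, 0, 1; 1, 0, 0; 0, 1, 0]
  ext i j
  fin_cases i <;> fin_cases j <;> simp [Matrix.mul_apply, Fin.sum_univ_three]

theorem my_mb : (my : SpecialLinearGroup (Fin 3) K) * mb = mz * mb * my := by
  apply Subtype.ext
  show !![0, 0, 1; 1, 0, 0; 0, 1, 0] * !![1, 0, 0; 0, -1, 0; 0, 0, (-1 : K)] =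
    !![-1, 0, 0; 0, -1, 0; 0, 0, 1] * !![1, 0, 0; 0, -1, 0; 0, 0, -1] * !![0, 0, 1; 1, 0, 0; 0, 1, 0]
  ext i j
  fin_cases i <;> fin_cases j <;> simp [Matrix.mul_apply, Fin.sum_univ_three]

theorem mz_ne_one (h2 : (2 : K) ≠ 0) : (mz : SpecialLinearGroup (Fin 3) K) ≠ 1 := by
  intro h
  have h1 : (-1 : K) = 1 := by
    have := congrArg (fun A : SpecialLinearGroup (Fin 3) K => A.1 0 0) h
    simpa [mz] using this
  apply h2
  linear_combination -h1

theorem mb_ne_mz (h2 : (2 : K) ≠ 0) : (mb : SpecialLinearGroup (Fin 3) K) ≠ mz := by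
  intro h
  have h1 : (1 : K) = -1 := by
    have := congrArg (fun A : SpecialLinearGroup (Fin 3) K => A.1 0 0) h
    simpa [mz, mb] using this
  apply h2
  linear_combination h1

theorem exists_sq_add_sq [Finite K] (h2 : (2 : K) ≠ 0) (c : K) : ∃ a b : K, a ^ 2 + b ^ 2 = c := by
  have := Fintype.ofFinite K
  have hodd : Fintype.card K % 2 = 1 := by
    have h := FiniteField.odd_card_of_char_ne_two (F := K) (fun h => h2 (by
      have := ringChar.of_eq h
      exact CharP.cast_eq_zero K 2 ▸ by norm_num))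
    omega
  obtain ⟨a, b, hab⟩ := FiniteField.exists_root_sum_quadratic (R := K)
    (f := Polynomial.X ^ 2) (g := Polynomial.X ^ 2 - Polynomial.C c)
    (Polynomial.degree_X_pow 2) (Polynomial.degree_X_pow_sub_C (by norm_num) c) hodd
  refine ⟨a, b, ?_⟩
  simp at hab
  linear_combination hab

end three

theorem qf_sl3 {K : Type*} [Field K] [Finite K] (h2 : (2 : K) ≠ 0) : QF (SpecialLinearGroup (Fin 3) K) := by
  obtain ⟨a, b, h⟩ := exists_sq_add_sq h2 (-1 : K)
  exact QF.intro mi_mul (mj_mul h) (mi_mj h) (mz_ne_one h2) my_mz (mb_ne_mz h2) my_mb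

theorem two_ne_of_odd_card {K : Type*} [Field K] [Fintype K] (h : Odd (Fintype.card K)) : (2 : K) ≠ 0 := by
  intro h2
  have h3 : ringChar K ∣ 2 := ringChar.dvd (by exact_mod_cast h2)
  have h4 : ringChar K ≠ 1 := CharP.ringChar_ne_one
  have h5 : ringChar K = 2 := (Nat.dvd_prime Nat.prime_two).1 h3 |>.resolve_left h4
  have h6 := (FiniteField.even_card_iff_char_two (F := K)).1 h5
  obtain ⟨k, hk⟩ := h
  omega

theorem qf_psl {K : Type*} [Field K] [Fintype K] (h : Odd (Fintype.card K)) (n : ℕ) (hn : 3 ≤ n) :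
    QF (Matrix.ProjectiveSpecialLinearGroup (Fin n) K) := by
  obtain ⟨m, rfl⟩ := Nat.exists_eq_add_of_le hn
  exact ((qf_sl3 (two_ne_of_odd_card h)).of_injective (blkSL finSumFinEquiv) (blkSL_injective _)).quot_center

end Cfsg.Agent.H991
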