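import Cfsg.Agent.H991.QuatFour
import Cfsg.Agent.CoThreeStd.M12.Model

/-!
# The `quat_four` pattern in `M₁₂` (helper991)

Task 44 (for S5788, S5786).
-/

set_option autoImplicit false

namespace Cfsg.Agent.H991

open Cfsg.Agent.CoThreeStd.M12

theorem qf_g12 : QF G12 := by
  have hone : (1 : G12) = el [] := rfl
  refine ⟨el [3, 2, 1], el [4, 5, 3, 1, 0, 5, 4, 0], el [3, 2, 1, 3, 2, 1], el [2, 1], ?_, ?_, ?_, ?_, ?_, ?_⟩
  · rw [← el_append]
    exact el_eq (by decide +kernel)
  · rw [← el_append]
    exact el_eq (by decide +kernel)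
  · rw [← el_reverse, ← el_reverse, ← el_append, ← el_append]
    exact el_eq (by decide +kernel)
  · rw [hone]
    intro h
    rw [el_eq_iff] at h
    revert h
    decide +kernel
  · rw [← el_reverse, ← el_append, ← el_append]
    intro h
    rw [el_eq_iff] at h
    revert h
    decide +kernel
  · rw [← el_reverse]
    simp only [← el_append]
    exact el_eq (by decide +kernel)

theorem qf_m12 {X : Type*} [Group X] (h : Cfsg.Spor.IsoM12 X) : QF X := by
  obtain ⟨e⟩ := h
  exact QF.of_equiv (e.trans equiv).symm qf_g12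

end Cfsg.Agent.H991
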