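import Cfsg.Agent.H991.QuatFour
import Cfsg.Agent.LieClassical.HermBasic

/-!
# The `quat_four` pattern in unitary groups (helper991)

Task 44 (for S5788, S5786).
-/

set_option autoImplicit false

namespace Cfsg.Agent.H991

open Matrix Cfsg
open Cfsg.Agent.LieClassical.HermBasic

variable {F : Type*} [Field F] {q : ℕ} [Fintype F]

/-- The fixed field. -/
def fixF (hF : Fintype.card F = q ^ 2) : Subfield F where
  carrier := {x | x ^ q = x}
  mul_mem' := fun {a b} (ha : a ^ q = a) (hb : b ^ q = b) => by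
    change (a * b) ^ q = a * b
    rw [mul_pow, ha, hb]
  one_mem' := one_pow q
  add_mem' := fun {a b} (ha : a ^ q = a) (hb : b ^ q = b) => by
    change (a + b) ^ q = a + b
    rw [add_pow_q hF, ha, hb]
  zero_mem' := zero_pow_q hF
  neg_mem' := fun {a} (ha : a ^ q = a) => by
    change (-a) ^ q = -a
    rw [neg_pow_q hF, ha]
  inv_mem' := fun a (ha : a ^ q = a) => by
    change (a⁻¹) ^ q = a⁻¹
    rw [inv_pow, ha]

theorem exists_ab (hF : Fintype.card F = q ^ 2) (h2 : (2 : F) ≠ 0) :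
    ∃ a b : F, a ^ 2 + b ^ 2 = -1 ∧ a ^ q = -a ∧ b ^ q = -b := by
  obtain ⟨s, hs0, hs⟩ := exists_trace_zero_ne hF
  have hs' : s ^ q = -s := by linear_combination hs
  have h2' : (2 : fixF hF) ≠ 0 := fun h => h2 (by
    have := congrArg (fixF hF).subtype h
    rwa [map_ofNat, map_zero] at this)
  have hc : (-(s ^ 2)⁻¹) ^ q = -(s ^ 2)⁻¹ := by
    rw [neg_pow_q hF, inv_pow, ← pow_mul, mul_comm, pow_mul, hs', neg_sq]
  obtain ⟨x, y, hxy⟩ := exists_sq_add_sq h2' ⟨-(s ^ 2)⁻¹, hc⟩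
  have hxy' : (x : F) ^ 2 + (y : F) ^ 2 = -(s ^ 2)⁻¹ := by
    have := congrArg Subtype.val hxy
    exact this
  refine ⟨s * x, s * y, ?_, ?_, ?_⟩
  · have : (s * (x : F)) ^ 2 + (s * (y : F)) ^ 2 = s ^ 2 * ((x : F) ^ 2 + (y : F) ^ 2) := by ring
    rw [this, hxy', mul_neg, mul_inv_cancel₀ (pow_ne_zero _ hs0)]
  · rw [mul_pow, hs', show (x : F) ^ q = x from x.2]; ring
  · rw [mul_pow, hs', show (y : F) ^ q = y from y.2]; ring

omit [Fintype F] in
theorem herm3 (u v : Fin 3 → F) : hermForm 3 F q u v = u 0 * v 0 ^ q + u 1 * v 1 ^ q + u 2 * v 2 ^ q := by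
  rw [herm_def, Fin.sum_univ_three]

omit [Fintype F] in
theorem mulVec3 (A : Matrix (Fin 3) (Fin 3) F) (u : Fin 3 → F) (i : Fin 3) :
    A.mulVec u i = A i 0 * u 0 + A i 1 * u 1 + A i 2 * u 2 := by
  rw [Matrix.mulVec, dotProduct, Fin.sum_univ_three]

theorem mi_mem (hF : Fintype.card F = q ^ 2) : (mi : SpecialLinearGroup (Fin 3) F) ∈ SU 3 F q := by
  rw [mem_SU_iff]
  intro u v
  simp only [herm3, mulVec3, mi]
  simp [neg_pow_q hF]
  ring

omit [Fintype F] in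
theorem my_mem : (my : SpecialLinearGroup (Fin 3) F) ∈ SU 3 F q := by
  rw [mem_SU_iff]
  intro u v
  simp only [herm3, mulVec3, my]
  simp
  ring

theorem mj_mem (hF : Fintype.card F = q ^ 2) {a b : F} (h : a ^ 2 + b ^ 2 = -1) (ha : a ^ q = -a)
    (hb : b ^ q = -b) : mj a b h ∈ SU 3 F q := by
  rw [mem_SU_iff]
  intro u v
  simp only [herm3, mulVec3, mj]
  simp [add_pow_q hF, neg_pow_q hF, mul_pow, ha, hb]
  linear_combination (-(u 0 * v 0 ^ q) - u 1 * v 1 ^ q) * h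

theorem qf_su3 (hF : Fintype.card F = q ^ 2) (h2 : (2 : F) ≠ 0) : QF (SU 3 F q) := by
  obtain ⟨a, b, h, ha, hb⟩ := exists_ab hF h2
  have hmi := mi_mem hF
  have hmy : (my : SpecialLinearGroup (Fin 3) F) ∈ SU 3 F q := my_mem
  have hmj := mj_mem hF h ha hb
  have hmz : (mz : SpecialLinearGroup (Fin 3) F) ∈ SU 3 F q := by
    rw [← mi_mul]; exact mul_mem hmi hmi
  have hmb : (mb : SpecialLinearGroup (Fin 3) F) ∈ SU 3 F q := by
    have : (mb : SpecialLinearGroup (Fin 3) F) = my * mz * my⁻¹ :=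
      (mul_inv_eq_iff_eq_mul.2 my_mz).symm
    rw [this]; exact mul_mem (mul_mem hmy hmz) (inv_mem hmy)
  exact QF.intro (i := ⟨mi, hmi⟩) (j := ⟨mj a b h, hmj⟩) (z := ⟨mz, hmz⟩) (y := ⟨my, hmy⟩) (b := ⟨mb, hmb⟩)
    (Subtype.ext mi_mul) (Subtype.ext (mj_mul h)) (Subtype.ext (mi_mj h))
    (fun h => mz_ne_one h2 (congrArg Subtype.val h)) (Subtype.ext my_mz)
    (fun h => mb_ne_mz h2 (congrArg Subtype.val h)) (Subtype.ext my_mb)

omit [Fintype F] in
theorem blkSL_mem {m n : ℕ} (e : Fin 3 ⊕ Fin m ≃ Fin n) {A : SpecialLinearGroup (Fin 3) F}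
    (hA : A ∈ SU 3 F q) : blkSL e A ∈ SU n F q := by
  rw [mem_SU_iff] at hA ⊢
  have key : ∀ u v : Fin n → F, hermForm n F q u v =
      hermForm 3 F q (fun i => u (e (Sum.inl i))) (fun i => v (e (Sum.inl i))) +
        ∑ i : Fin m, u (e (Sum.inr i)) * v (e (Sum.inr i)) ^ q := by
    intro u v
    rw [herm_def, herm_def, ← Equiv.sum_comp e, Fintype.sum_sum_type]
  have e1 : ∀ (u : Fin n → F) (x : Fin 3 ⊕ Fin m),
      ((blkSL e A).1.mulVec u) (e x) = (fromBlocks A.1 0 0 1).mulVec (fun y => u (e y)) x := by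
    intro u x
    show ((fromBlocks A.1 0 0 1).submatrix e.symm e.symm).mulVec u (e x) = _
    rw [submatrix_mulVec_equiv]
    simp [Function.comp_def]
  have e2 : ∀ (u : Fin n → F) (i : Fin 3), ((blkSL e A).1.mulVec u) (e (Sum.inl i)) =
      A.1.mulVec (fun i => u (e (Sum.inl i))) i := by
    intro u i
    rw [e1, fromBlocks_mulVec]
    simp [Function.comp_def]
  have e3 : ∀ (u : Fin n → F) (i : Fin m), ((blkSL e A).1.mulVec u) (e (Sum.inr i)) =
      u (e (Sum.inr i)) := by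
    intro u i
    rw [e1, fromBlocks_mulVec]
    simp [Function.comp_def]
  intro u v
  rw [key, key u v]
  simp only [e2, e3]
  congr 1
  exact hA _ _

theorem qf_su (hF : Fintype.card F = q ^ 2) (h2 : (2 : F) ≠ 0) (n : ℕ) (hn : 3 ≤ n) : QF (SU n F q) := by
  obtain ⟨m, rfl⟩ := Nat.exists_eq_add_of_le hn
  refine (qf_su3 hF h2).of_injective
    (((blkSL finSumFinEquiv).comp (SU 3 F q).subtype).codRestrict (SU (3 + m) F q)
      fun A => blkSL_mem _ A.2) ?_
  intro A B h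
  exact Subtype.ext (blkSL_injective _ (congrArg Subtype.val h))

theorem qf_psu (hF : Fintype.card F = q ^ 2) (h : Odd q) (n : ℕ) (hn : 3 ≤ n) : QF (PSU n F q) :=
  (qf_su hF (two_ne_of_odd_card (by rw [hF]; exact h.pow)) n hn).quot_center

end Cfsg.Agent.H991
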