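import Cfsg.Agent.H991.Sp4Field
import Cfsg.Agent.H909.SpDouble
import Cfsg.Agent.LieClassical.FieldTransfer

/-!
# `PSp_4(K)` inside `Sp_4(F)` (helper991)

Task 45 (for S5788, S5786): a perfect subgroup `P` of `Sp_4(F)`, absolutely irreducible and not realisable over a
proper subfield, with `P / ±1 ≅ PSp_4(K)`, `K` finite of odd order, is `Sp_4(F)`.
-/

set_option autoImplicit false

namespace Cfsg.Agent.H991.Sp4

open Cfsg Cfsg.Geo Matrix Module
open Cfsg.Agent.ClassicalGeometry.SympBasic Cfsg.Agent.H909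

universe u v

section real

variable {F : Type u} [Field F] {P : Subgroup (GL I4 F)}

theorem ac_mem_span {P : Subgroup (GL I4 F)} (e : I4 → F) {g : GL I4 F} (hg : g ∈ P) :
    (Submodule.span F {x | ∃ h ∈ P, x = ac h e}).map (Matrix.toLin' (g : Matrix I4 I4 F)) ≤
      Submodule.span F {x | ∃ h ∈ P, x = ac h e} := by
  rw [Submodule.map_span, Submodule.span_le]
  rintro _ ⟨_, ⟨h, hh, rfl⟩, rfl⟩
  apply Submodule.subset_span
  refine ⟨g * h, P.mul_mem hg hh, ?_⟩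
  rw [Matrix.toLin'_apply, ac_mul]
  rfl

/-- a basis in an orbit -/
theorem exists_basis (hirr : ActsIrreducibly (matrixSet P)) {e : I4 → F} (he : e ≠ 0) :
    ∃ β : I4 → GL I4 F, (∀ i, β i ∈ P) ∧ LinearIndependent F (fun i => ac (β i) e) := by
  classical
  set O : Set (I4 → F) := {x | ∃ h ∈ P, x = ac h e} with hO
  have hspan : Submodule.span F O = ⊤ := by
    rcases hirr (Submodule.span F O) (by
      rintro _ ⟨g, hg, rfl⟩
      exact ac_mem_span e hg) with h | h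
    · exfalso
      apply he
      have : e ∈ Submodule.span F O := Submodule.subset_span ⟨1, one_mem _, (ac_one e).symm⟩
      rw [h, Submodule.mem_bot] at this
      exact this
    · exact h
  obtain ⟨b, hbO, hbs, hbl⟩ := exists_linearIndependent F O
  rw [hspan] at hbs
  let B : Basis b F (I4 → F) := Basis.mk hbl (by rw [Subtype.range_coe, hbs])
  have : Fintype b := FiniteDimensional.fintypeBasisIndex B
  have hcard : Fintype.card b = Fintype.card I4 := by
    rw [← Module.finrank_eq_card_basis B, Module.finrank_fintype_fun_eq_card]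
  let f : I4 ≃ b := Fintype.equivOfCardEq hcard.symm
  choose β hβ hβe using fun i : I4 => hbO (f i).2
  refine ⟨β, hβ, ?_⟩
  have h1 : (fun i => ac (β i) e) = (fun x : b => (x : I4 → F)) ∘ f := by
    funext i
    exact (hβe i).symm
  rw [h1]
  exact hbl.comp f f.injective

theorem realisable (hP : P ≤ spGL 2 F) (hirr : ActsIrreducibly (matrixSet P)) {e : I4 → F} (he : e ≠ 0) {κ : F}
    (hκ : κ ≠ 0) (F₁ : Subfield F) (h : ∀ g ∈ P, κ * sympForm 2 F (ac g e) e ∈ F₁) :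
    RealisableOver F₁ (matrixSet P) := by
  classical
  obtain ⟨β, hβ, hli⟩ := exists_basis hirr he
  have h' : ∀ g ∈ P, ∀ k ∈ P, κ * sympForm 2 F (ac g e) (ac k e) ∈ F₁ := by
    intro g hg k hk
    have h1 : sympForm 2 F (ac g e) (ac k e) = sympForm 2 F (ac (k⁻¹ * g) e) e := by
      rw [ac_mul]
      exact iso_inv_left (hP hk) (ac g e) e
    rw [h1]
    exact h _ (P.mul_mem (P.inv_mem hk) hg)
  set Bm : Matrix I4 I4 F := Matrix.of fun i j => ac (β j) e i with hBm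
  have hcol : ∀ j, Bm.col j = ac (β j) e := fun j => rfl
  have hunit : IsUnit Bm := by
    rw [← Matrix.linearIndependent_cols_iff_isUnit]
    exact hli
  obtain ⟨B, hB⟩ := hunit
  have hBcol : ∀ j, Bm *ᵥ (Pi.single j 1) = ac (β j) e := by
    intro j
    rw [Matrix.mulVec_single_one]
    rfl
  -- the Gram matrices
  have gram : ∀ M : Matrix I4 I4 F, ∀ i j, (κ • ((M * Bm)ᵀ * Matrix.J (Fin 2) F * Bm)) i j =
      κ * sympForm 2 F (M *ᵥ ac (β i) e) (ac (β j) e) := by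
    intro M i j
    rw [Matrix.smul_apply, smul_eq_mul]
    congr 1
    have h1 : ((M * Bm)ᵀ * Matrix.J (Fin 2) F * Bm) i j =
        (Pi.single i 1) ⬝ᵥ (((M * Bm)ᵀ * Matrix.J (Fin 2) F * Bm) *ᵥ (Pi.single j 1)) := by
      rw [Matrix.mulVec_single_one, single_one_dotProduct]
      rfl
    rw [h1, ← mulVec_mulVec, hBcol, ← mulVec_mulVec, Matrix.mulVec_transpose, dotProduct_comm,
      ← Matrix.dotProduct_mulVec, dotProduct_comm, ← mulVec_mulVec, hBcol, sympForm_def]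
  set Bi : Matrix I4 I4 F := ((B⁻¹ : GL I4 F) : Matrix I4 I4 F) with hBi_def
  have hBi : Bm * Bi = 1 := by
    rw [← hB, hBi_def, ← Units.val_mul, mul_inv_cancel, Units.val_one]
  refine ⟨B⁻¹, ?_⟩
  rintro _ ⟨g, hg, rfl⟩
  rw [inv_inv, hB, ← hBi_def]
  set M : Matrix I4 I4 F := Bi * (g : Matrix I4 I4 F) * Bm with hM
  have hBM : Bm * M = (g : Matrix I4 I4 F) * Bm := by
    rw [hM, ← mul_assoc, ← mul_assoc, hBi, one_mul]
  set Γ : Matrix I4 I4 F := κ • ((1 * Bm)ᵀ * Matrix.J (Fin 2) F * Bm) with hΓ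
  set Δ : Matrix I4 I4 F := κ • (((g : Matrix I4 I4 F) * Bm)ᵀ * Matrix.J (Fin 2) F * Bm) with hΔ
  have hMΓ : Mᵀ * Γ = Δ := by
    rw [hΓ, hΔ, ← hBM, Matrix.transpose_mul Bm M, one_mul, mul_smul_comm]
    simp only [mul_assoc]
  have hΓ1 : ∀ i j, Γ i j ∈ F₁ := by
    intro i j
    rw [hΓ, gram, Matrix.one_mulVec]
    exact h' _ (hβ i) _ (hβ j)
  have hΔ1 : ∀ i j, Δ i j ∈ F₁ := by
    intro i j
    rw [hΔ, gram]
    have : (g : Matrix I4 I4 F) *ᵥ ac (β i) e = ac (g * β i) e := by rw [ac_mul]; rfl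
    rw [this]
    exact h' _ (P.mul_mem hg (hβ i)) _ (hβ j)
  let Γ0 : Matrix I4 I4 F₁ := Matrix.of fun i j => ⟨Γ i j, hΓ1 i j⟩
  let Δ0 : Matrix I4 I4 F₁ := Matrix.of fun i j => ⟨Δ i j, hΔ1 i j⟩
  have eΓ : Γ0.map F₁.subtype = Γ := rfl
  have eΔ : Δ0.map F₁.subtype = Δ := rfl
  have hJ : IsUnit (Matrix.J (Fin 2) F).det := Matrix.isUnit_det_J (Fin 2) F
  have hdetΓ : Γ.det ≠ 0 := by
    rw [hΓ, one_mul, Matrix.det_smul, Matrix.det_mul, Matrix.det_mul, Matrix.det_transpose]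
    have hb : Bm.det ≠ 0 := by
      rw [← hB]; exact (Matrix.isUnits_det_units B).ne_zero
    exact mul_ne_zero (pow_ne_zero _ hκ) (mul_ne_zero (mul_ne_zero hb hJ.ne_zero) hb)
  have hdetΓ0 : IsUnit Γ0.det := by
    rw [isUnit_iff_ne_zero]
    intro h0
    apply hdetΓ
    rw [← eΓ, ← RingHom.mapMatrix_apply, ← RingHom.map_det, h0, map_zero]
  have hM0 : (Δ0 * Γ0⁻¹).map F₁.subtype = Mᵀ := by
    have h1 : (Δ0 * Γ0⁻¹).map F₁.subtype * Γ = Mᵀ * Γ := by
      rw [hMΓ, ← eΓ, ← Matrix.map_mul, mul_assoc, Matrix.nonsing_inv_mul _ hdetΓ0, mul_one, eΔ]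
    have h2 : IsUnit Γ.det := isUnit_iff_ne_zero.2 hdetΓ
    have h3 := congrArg (fun X => X * Γ⁻¹) h1
    simpa only [mul_assoc, Matrix.mul_nonsing_inv _ h2, mul_one] using h3
  intro i j
  have h4 : M i j = F₁.subtype ((Δ0 * Γ0⁻¹) j i) := by
    have := congrFun (congrFun hM0 j) i
    rw [Matrix.map_apply, Matrix.transpose_apply] at this
    exact this.symm
  rw [h4]
  exact ((Δ0 * Γ0⁻¹) j i).2

end real

open Cfsg.Agent.H909.SpDouble in
/-- the correspondence -/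
def Lr {F : Type u} [Field F] {P : Subgroup (GL I4 F)} {K : Type v} [Field K]
    (e : (P ⧸ Zs P) ≃* Cfsg.PSp 2 K) (g : GL I4 F) (s : SK K) : Prop :=
  ∃ hg : g ∈ P, e (QuotientGroup.mk ⟨g, hg⟩) = QuotientGroup.mk s

open Cfsg.Agent.H909.SpDouble in
theorem cov {F : Type u} [Field F] [Finite F] {P : Subgroup (GL I4 F)} (h : Ctx P) {K : Type v} [Field K]
    (e : (P ⧸ Zs P) ≃* Cfsg.PSp 2 K) : Cov P (Lr e) where
  mem := fun h => h.1
  one := ⟨one_mem _, by
    have : (⟨1, one_mem P⟩ : P) = 1 := rfl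
    rw [this, QuotientGroup.mk_one, map_one, QuotientGroup.mk_one]⟩
  mul := by
    rintro g s h t ⟨hg, h1⟩ ⟨hh, h2⟩
    refine ⟨mul_mem hg hh, ?_⟩
    have : (⟨g * h, mul_mem hg hh⟩ : P) = ⟨g, hg⟩ * ⟨h, hh⟩ := rfl
    rw [this, QuotientGroup.mk_mul, map_mul, h1, h2, QuotientGroup.mk_mul]
  inv := by
    rintro g s ⟨hg, h1⟩
    refine ⟨inv_mem hg, ?_⟩
    have : (⟨g⁻¹, inv_mem hg⟩ : P) = (⟨g, hg⟩ : P)⁻¹ := rfl
    rw [this, QuotientGroup.mk_inv, map_inv, h1, QuotientGroup.mk_inv]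
  ex := by
    intro s
    obtain ⟨x, hx⟩ := QuotientGroup.mk_surjective (e.symm (QuotientGroup.mk s))
    refine ⟨x.1, x.2, ?_⟩
    have : (⟨x.1, x.2⟩ : P) = x := rfl
    rw [this, hx, MulEquiv.apply_symm_apply]
  surj := by
    intro g hg
    obtain ⟨s, hs⟩ := QuotientGroup.mk_surjective (e (QuotientGroup.mk ⟨g, hg⟩))
    exact ⟨s, hg, hs.symm⟩
  uniq := by
    rintro g k s ⟨hg, h1⟩ ⟨hk, h2⟩
    have h3 : (QuotientGroup.mk ⟨g, hg⟩ : P ⧸ Zs P) = QuotientGroup.mk ⟨k, hk⟩ := e.injective (by rw [h1, h2])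
    rw [QuotientGroup.eq, Subgroup.mem_subgroupOf] at h3
    rcases scalar_cases (h.le (mul_mem (inv_mem hg) hk)) h3 with h4 | h4
    · left
      exact inv_mul_eq_one.1 h4
    · right
      have h5 : k = g * -1 := by rw [← h4, mul_inv_cancel_left]
      rw [h5, mul_neg, mul_one, neg_neg]
  neg := by
    rintro g s ⟨hg, h1⟩
    have hn : -g ∈ P := by
      rw [← neg_one_mul]; exact mul_mem h.neg_one_mem hg
    refine ⟨hn, ?_⟩
    rw [← h1]
    congr 1
    rw [QuotientGroup.eq, Subgroup.mem_subgroupOf]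
    have : (((⟨-g, hn⟩ : P)⁻¹ * ⟨g, hg⟩ : P) : GL I4 F) = -1 := by
      show (-g)⁻¹ * g = -1
      rw [inv_neg, neg_mul, inv_mul_cancel]
    rw [this]
    exact neg_one_scalar
  ker := by
    rintro s ⟨hg, h1⟩
    have : (⟨1, hg⟩ : P) = 1 := rfl
    rw [this, QuotientGroup.mk_one, map_one] at h1
    exact (QuotientGroup.eq_one_iff s).1 h1.symm
  cen := by
    intro s hs
    refine ⟨one_mem _, ?_⟩
    have : (⟨1, one_mem P⟩ : P) = 1 := rfl
    rw [this, QuotientGroup.mk_one, map_one]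
    exact ((QuotientGroup.eq_one_iff s).2 hs).symm

/-- `Sp_4` as a subgroup of `GL_4` -/
theorem card_spGL (F : Type u) [Field F] : Nat.card (spGL 2 F) = Nat.card (SK F) := by
  refine Nat.card_congr (Equiv.ofBijective (fun g => ⟨(g.1 : Matrix I4 I4 F), mem_spGL_iff_symplectic.1 g.2⟩)
    ⟨?_, ?_⟩)
  · intro g k h
    exact Subtype.ext (Units.ext (congrArg Subtype.val h))
  · intro A
    obtain ⟨B, hB⟩ : ∃ B : GL I4 F, (B : Matrix I4 I4 F) = A.1 := by
      have : IsUnit A.1 := (Matrix.isUnit_iff_isUnit_det _).2 (SymplecticGroup.symplectic_det A.2)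
      exact this
    exact ⟨⟨B, mem_spGL_iff_symplectic.2 (by rw [hB]; exact A.2)⟩, Subtype.ext hB⟩

open Cfsg.Agent.H909.SpDouble in
theorem sp4_all {F : Type u} [Field F] [Fintype F] {P : Subgroup (GL (Fin 2 ⊕ Fin 2) F)}
    (h : Cfsg.Agent.H909.SpDouble.Ctx P)
    (habs : Cfsg.Geo.ActsAbsolutelyIrreducibly (Cfsg.Geo.matrixSet P))
    (hno : ∀ F₀ : Subfield F, F₀ ≠ ⊤ → ¬ Cfsg.Geo.RealisableOver F₀ (Cfsg.Geo.matrixSet P))
    {K : Type v} [Field K] [Fintype K] (hK : Odd (Fintype.card K))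
    (e : (P ⧸ Cfsg.Agent.H909.SpDouble.Zs P) ≃* Cfsg.PSp 2 K) : P = Cfsg.spGL 2 F := by
  classical
  set r := ringChar K with hr_def
  have hchar : CharP K r := ringChar.charP K
  have h2K := two_ne_of_odd_card hK
  have hr : Odd r := by
    have hp : r.Prime := CharP.char_is_prime K r
    apply hp.odd_of_ne_two
    intro h2
    apply h2K
    have : ((2 : ℕ) : K) = 0 := by rw [← h2]; exact CharP.cast_eq_zero K r
    exact_mod_cast this
  obtain ⟨φ, v, κ, hv, hκ, hφ⟩ := exists_field (cov h e) (K := K) h.le h.two (r := r) hr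
  have htop : φ.fieldRange = ⊤ := by
    by_contra hne
    exact hno _ hne (realisable h.le habs.1 hv hκ _ hφ)
  have hsurj : Function.Surjective φ := RingHom.fieldRange_eq_top_iff.1 htop
  let E : K ≃+* F := RingEquiv.ofBijective φ ⟨φ.injective, hsurj⟩
  have h1 : Nat.card (SK K) = Nat.card (SK F) :=
    Nat.card_congr (Cfsg.Agent.LieClassical.FieldTransfer.spCongr (Fin 2) E).toEquiv
  have h2 : Nat.card P = 2 * Nat.card (P ⧸ Zs P) := by
    have h3 := Subgroup.card_eq_card_quotient_mul_card_subgroup (Zs P)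
    have h4 : Nat.card (Zs P) = 2 := by
      have := h.card_ker
      rwa [QuotientGroup.ker_mk'] at this
    rw [h3, h4, mul_comm]
  have h5 : Nat.card (SK K) = 2 * Nat.card (P ⧸ Zs P) := by
    have h3 := Subgroup.card_eq_card_quotient_mul_card_subgroup (Subgroup.center (SK K))
    have h4 := Cfsg.Agent.LieClassical.SympCenter.card_center (F := K) (m := 2) (by norm_num)
    have h6 : Nat.gcd 2 (Fintype.card K - 1) = 2 := by
      apply Nat.gcd_eq_left
      obtain ⟨k, hk⟩ := hK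
      rw [hk]
      exact ⟨k, by omega⟩
    rw [h3, h4, h6, mul_comm, Nat.card_congr e.toEquiv]
  apply le_antisymm h.le
  have h7 : Nat.card P = Nat.card (spGL 2 F) := by rw [h2, ← h5, h1, card_spGL]
  exact (Subgroup.eq_of_le_of_card_ge h.le h7.ge).ge

end Cfsg.Agent.H991.Sp4
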