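import Cfsg.Agent.H573.Spor.BFive
import Cfsg.Agent.H524.SporBaby
import Cfsg.Agent.H524.RegTool
import Cfsg.Agent.H149.Sp.HN
import Cfsg.Agent.H149.Sp.Baby

/-!
# Elements of orders 5 and 7 of the Baby Monster with known centralizers in the Monster
-/

set_option autoImplicit false
set_option maxRecDepth 100000

namespace Cfsg.Agent.H991.RegBaby

open Subgroup Cfsg
open Cfsg.Agent.LThreeMB (fr XX Zx self KChart.Cent KChart.pi KChart.chart)
open Cfsg.Agent.MonsterX Cfsg.Agent.MonsterX.Model Cfsg.Agent.MonsterX.MainSimple Cfsg.Agent.MonsterX.MainPack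
open Cfsg.Agent.MonsterX.MainBasic Cfsg.Agent.MonsterU Cfsg.Agent.MonsterU.Lam2
open Cfsg.Agent.MonsterP Cfsg.Agent.MonsterN
open Cfsg.Agent.LThreeB (XT mem_XT centXT centXT')
open Cfsg.Agent.H573.Spor

/-- an element of odd prime order of `C(t)` and its image in `C(t) / Z` -/
theorem image_elt {C B : Type*} [Group C] [Group B] [Finite C] (h2 : Nat.card (center C) = 2)
    (e : (C ⧸ center C) ≃* B) {r : ℕ} (hr : r.Prime) (hr2 : r ≠ 2) {x : C} (hx : orderOf x = r) :
    ∃ b : B, orderOf b = r ∧ Nat.card (centralizer ({b} : Set B)) ∣ Nat.card (centralizer ({x} : Set C)) := by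
  have hodd : Odd r := hr.odd_of_ne_two hr2
  have hx1 : x ^ r = 1 := by rw [← hx, pow_orderOf_eq_one]
  have hi := index_centralizer_mk (p := r) hodd h2 hx1
  have hfB : Finite B := Finite.of_equiv _ e.toEquiv
  set xb : C ⧸ center C := QuotientGroup.mk x with hxb
  have hxr : orderOf xb = r := by
    refine (Nat.dvd_prime hr).1 (orderOf_dvd_of_pow_eq_one ?_) |>.resolve_left ?_
    · rw [hxb, ← QuotientGroup.mk_pow, hx1]; rfl
    · intro h1
      have h3 : x ∈ center C := (QuotientGroup.eq_one_iff x).1 (orderOf_eq_one_iff.1 h1)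
      have h4 : orderOf x ∣ 2 := by
        rw [← h2, ← Subgroup.orderOf_mk x h3]
        exact orderOf_dvd_natCard _
      rw [hx] at h4
      exact hr2 ((Nat.prime_dvd_prime_iff_eq hr Nat.prime_two).1 h4)
  refine ⟨e xb, by rw [MulEquiv.orderOf_eq, hxr], ?_⟩
  have h5 : Nat.card (centralizer ({e xb} : Set B)) = Nat.card (centralizer ({xb} : Set (C ⧸ center C))) := by
    have h6 : centralizer ({e xb} : Set B) = (centralizer ({xb} : Set (C ⧸ center C))).map e.toMonoidHom := by
      ext g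
      rw [mem_map, mem_centralizer_singleton_iff]
      constructor
      · intro hg
        refine ⟨e.symm g, mem_centralizer_singleton_iff.2 (e.injective ?_), e.apply_symm_apply g⟩
        rw [map_mul, map_mul, e.apply_symm_apply, hg]
      · rintro ⟨c, hc, rfl⟩
        have := mem_centralizer_singleton_iff.1 hc
        show e c * e _ = e _ * e c
        rw [← map_mul, this, map_mul]
    rw [h6]
    exact card_map_of_injective e.injective
  rw [h5]
  have h7 := (centralizer ({x} : Set C)).card_mul_index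
  have h8 := (centralizer ({xb} : Set (C ⧸ center C))).card_mul_index
  rw [hi] at h7
  have h9 := Subgroup.card_eq_card_quotient_mul_card_subgroup (center C)
  rw [h2] at h9
  have h10 : 0 < (centralizer ({xb} : Set (C ⧸ center C))).index := Nat.pos_of_ne_zero index_ne_zero_of_finite
  refine ⟨2, Nat.eq_of_mul_eq_mul_right h10 ?_⟩
  rw [h7, h9, ← h8]
  ring

/-- the data in the Monster: a pair of commuting elements of orders 5 and 2 -/
theorem exists_data : ∃ (x t : ↥InstData.M.G), orderOf x = 5 ∧ Cfsg.Spor.IsoHN (XX x) ∧ orderOf t = 2 ∧ x * t = t * x ∧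
    Nat.card (center ↥(centralizer ({t} : Set ↥InstData.M.G))) = 2 ∧
    Nonempty ((↥(centralizer ({t} : Set ↥InstData.M.G)) ⧸ center ↥(centralizer ({t} : Set ↥InstData.M.G))) ≃*
      Spor.BabyMonster) := by
  have := Monster.finite
  obtain ⟨x, p, hp, hx, hHN, hxt⟩ := Monster.exists_pair
  obtain ⟨⟨h2, -, ⟨e⟩⟩, -⟩ := ModelB.fieldsKS LitFin.all KDone.lnk KDone.lft (NodesGrp.prel LitFin.H)
    (NodesNe.ne LitFin.H) LitFin.conj_ten Cfsg.Agent.S1704.result hp
  have ht : orderOf (KDone.K.ι p) = 2 := by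
    have : Fact (Nat.Prime 2) := ⟨Nat.prime_two⟩
    refine orderOf_eq_prime ?_ ?_
    · rw [← map_pow, pow_two, KDone.lft.sh_sq p hp, map_one]
    · intro h1
      have h3 : p = 1 := InvTwo.ι_inj KDone.lft (h1.trans (map_one _).symm)
      have h4 := (TwoCls.mem_Sh_iff KDone.lft p).1 hp
      rw [h3, TwoCls.clP_one] at h4
      exact CloseLat.ne_zero_of_two h4 rfl
  exact ⟨x, KDone.K.ι p, hx, hHN, ht, hxt, h2, ⟨e⟩⟩

/-- the order of `C(x) ∩ C(t)` -/
theorem dvd_XT {x t : ↥InstData.M.G} (hx : orderOf x = 5) (h : Cfsg.Spor.IsoHN (XX x)) (ht : orderOf t = 2)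
    (hxt : x * t = t * x) : Nat.card ↥(XT x t) ∣ 5 * 177408000 ∨ Nat.card ↥(XT x t) ∣ 5 * 3686400 := by
  have := Monster.finite
  obtain ⟨t', ht'⟩ : ∃ t' : ↥(centralizer ({x} : Set ↥InstData.M.G)), (t' : ↥InstData.M.G) = t :=
    ⟨⟨t, mem_centralizer_singleton_iff.2 hxt.symm⟩, rfl⟩
  have h1 : Nat.card ↥(XT x t) = Nat.card ↥(centralizer ({t'} : Set ↥(centralizer ({x} : Set ↥InstData.M.G)))) := by
    rw [Nat.card_congr (centXT' t').toEquiv, ht']
  have h2 := card_dvd_XX t'
  rw [hx] at h2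
  have ho : orderOf (QuotientGroup.mk t' : XX x) = 2 := by
    have : Fact (Nat.Prime 2) := ⟨Nat.prime_two⟩
    have ho' : orderOf t' = 2 := by rw [← Subgroup.orderOf_coe, ht', ht]
    refine orderOf_eq_prime ?_ ?_
    · have h3 : t' ^ 2 = 1 := by rw [← ho', pow_orderOf_eq_one]
      exact congrArg (QuotientGroup.mk (s := Zx x)) h3
    · intro h3
      have h4 : t' ∈ Zx x := (QuotientGroup.eq_one_iff t').1 h3
      have h5 : orderOf t' ∣ Nat.card (Zx x) := by
        have h6 := orderOf_dvd_natCard (⟨t', h4⟩ : Zx x)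
        rwa [Subgroup.orderOf_mk] at h6
      have h7 : Nat.card (Zx x) = 5 := by
        rw [Zx, Nat.card_zpowers, ← hx]
        exact Subgroup.orderOf_mk _ _
      rw [h7, ho'] at h5
      omega
  obtain ⟨e⟩ := h
  have ho2 : orderOf (e (QuotientGroup.mk t' : XX x)) = 2 := by rw [MulEquiv.orderOf_eq, ho]
  have h3 : Nat.card ↥(centralizer ({(QuotientGroup.mk t' : XX x)} : Set (XX x))) =
      Nat.card ↥(centralizer ({e (QuotientGroup.mk t' : XX x)} : Set Cfsg.Spor.HN)) := by
    refine Nat.card_congr ((Subgroup.equivMapOfInjective _ e.toMonoidHom e.injective).trans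
      (MulEquiv.subgroupCongr ?_)).toEquiv
    ext g
    rw [mem_map, mem_centralizer_singleton_iff]
    constructor
    · rintro ⟨c, hc, rfl⟩
      have := mem_centralizer_singleton_iff.1 hc
      show e c * e _ = e _ * e c
      rw [← map_mul, this, map_mul]
    · intro hg
      refine ⟨e.symm g, mem_centralizer_singleton_iff.2 (e.injective ?_), e.apply_symm_apply g⟩
      rw [map_mul, map_mul, e.apply_symm_apply, hg]
  rw [h3] at h2
  rw [h1]
  rcases Cfsg.Agent.SigZeroHN.card_centralizer_cases ho2 with ⟨-, h5⟩ | ⟨-, h5⟩ <;> rw [h5] at h2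
  · exact Or.inl h2
  · exact Or.inr h2

/-- the element of order 5 of the Baby Monster -/
theorem exists_five : ∃ b : Spor.BabyMonster, orderOf b = 5 ∧
    (Nat.card (centralizer ({b} : Set Spor.BabyMonster)) ∣ 5 * 177408000 ∨
      Nat.card (centralizer ({b} : Set Spor.BabyMonster)) ∣ 5 * 3686400) := by
  have := Monster.finite
  obtain ⟨x, t, hx, hHN, ht, hxt, h2, ⟨e⟩⟩ := exists_data
  obtain ⟨x', hx'⟩ : ∃ x' : ↥(centralizer ({t} : Set ↥InstData.M.G)), (x' : ↥InstData.M.G) = x :=
    ⟨⟨x, mem_centralizer_singleton_iff.2 hxt⟩, rfl⟩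
  have hx5 : orderOf x' = 5 := by rw [← Subgroup.orderOf_coe, hx', hx]
  obtain ⟨b, hb, hcb⟩ := image_elt h2 e Nat.prime_five (by norm_num) hx5
  rw [← Nat.card_congr (centXT x').toEquiv, hx'] at hcb
  refine ⟨b, hb, ?_⟩
  rcases dvd_XT hx hHN ht hxt with h | h
  · exact Or.inl (hcb.trans h)
  · exact Or.inr (hcb.trans h)

/-- the element of order 7 of the Baby Monster -/
theorem exists_seven : ∃ b : Spor.BabyMonster, orderOf b = 7 ∧
    Nat.card (centralizer ({b} : Set Spor.BabyMonster)) ∣ 4030387200 * 7 := by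
  have := Monster.finite
  obtain ⟨-, t, -, -, ht, -, h2, ⟨e⟩⟩ := exists_data
  have hct : Nat.card ↥(centralizer ({t} : Set ↥InstData.M.G)) = 4154781481226426191177580544000000 * 2 := by
    rw [Subgroup.card_eq_card_quotient_mul_card_subgroup (center ↥(centralizer ({t} : Set ↥InstData.M.G))),
      Nat.card_congr e.toEquiv, card_baby, h2]
  have hf7 : Fact (Nat.Prime 7) := ⟨by norm_num⟩
  obtain ⟨x, hx⟩ := exists_prime_orderOf_dvd_card' (G := centralizer ({t} : Set ↥InstData.M.G)) 7 (by rw [hct]; norm_num)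
  obtain ⟨b, hb, hcb⟩ := image_elt h2 e (by norm_num : (7 : ℕ).Prime) (by norm_num) hx
  refine ⟨b, hb, hcb.trans ?_⟩
  have hcx := H149.Sp.isoHe_of_not_conj (x := (x : ↥InstData.M.G)) (t := t) (by rw [orderOf_coe, hx]) ht
    (mem_centralizer_singleton_iff.1 x.2) ?_
  · rw [← hcx, ← Nat.card_congr (centXT x).toEquiv]
    refine card_dvd_of_le fun g hg => ?_
    exact mem_centralizer_singleton_iff.2 (mem_XT.1 hg).1
  · intro g hg
    have h19 := LitInst.nineteen KDone.lnk CTwoTab.BInst.all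
    have h1 := SigZeroHN.card_centralizer_conj (isConj_iff.2 ⟨g, hg⟩)
    rw [h1, hct] at h19
    norm_num at h19

end Cfsg.Agent.H991.RegBaby
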