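import Cfsg.Agent.H378.RankOne
import Cfsg.Agent.OddOrderLocal.CyclicSub

/-!
# Braid relations and elements of order 3 (helper991)

`u v u = v u v`, `u ≠ v`:

* `Br.three_dvd` : `3` divides the order of `u v`;
* `Br.order_sq` : if `(u v) ^ 6 = 1` then `(u v) ^ 2` has order `3`;
* `sylow_three` : two commuting such pairs give a noncyclic Sylow 3-subgroup;
* `Swap.braid` : if `u v u` swaps the root groups of `u` and `v` then `u v u = v u v`.
-/

set_option autoImplicit false

namespace Cfsg.Agent.H991.BraidThree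

open Subgroup Cfsg.Agent.H378.RankOne

section Abs

variable {Y : Type*} [Group Y]

/-- a braid pair -/
structure Br (u v : Y) : Prop where
  br : u * v * u = v * u * v
  ne : u ≠ v

namespace Br

variable {u v : Y} (h : Br u v)
include h

theorem not_comm : ¬ Commute (u * v) u := by
  intro hc
  apply h.ne
  have h1 : u * v * u = u * (u * v) := hc.eq
  have h2 : v * u = u * v := mul_left_cancel (a := u) (by rw [← mul_assoc, h1])
  have h3 : u * (u * v) = v * (u * v) := by
    rw [← h1, h.br, mul_assoc]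
  exact mul_right_cancel h3

/-- `n = u v u` swaps `u` and `v` -/
theorem n_u : u * v * u * u = v * (u * v * u) := by
  calc u * v * u * u = v * u * v * u := by rw [h.br]
    _ = v * (u * v * u) := by group

theorem n_v : u * v * u * v = u * (u * v * u) := by
  calc u * v * u * v = u * (v * u * v) := by group
    _ = u * (u * v * u) := by rw [h.br]

theorem cube : (u * v) ^ 3 = (u * v * u) * (u * v * u) := by
  calc (u * v) ^ 3 = (u * v * u) * (v * u * v) := by rw [pow_succ, pow_two]; group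
    _ = _ := by rw [h.br]

theorem cube_comm : Commute ((u * v) ^ 3) u := by
  rw [h.cube]
  show (u * v * u) * (u * v * u) * u = u * ((u * v * u) * (u * v * u))
  calc (u * v * u) * (u * v * u) * u = (u * v * u) * (u * v * u * u) := by group
    _ = (u * v * u) * (v * (u * v * u)) := by rw [h.n_u]
    _ = (u * v * u * v) * (u * v * u) := by group
    _ = u * (u * v * u) * (u * v * u) := by rw [h.n_v]
    _ = _ := by group

/-- **`3` divides the order of `u v`.** -/
theorem three_dvd : 3 ∣ orderOf (u * v) := by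
  by_contra h3
  have hcop : Nat.Coprime 3 (orderOf (u * v)) := (Nat.Prime.coprime_iff_not_dvd Nat.prime_three).2 h3
  obtain ⟨m, hm⟩ := exists_pow_eq_self_of_coprime hcop
  apply h.not_comm
  rw [← hm]
  exact h.cube_comm.pow_left m

theorem order_sq (h6 : (u * v) ^ 6 = 1) : orderOf ((u * v) ^ 2) = 3 := by
  have h3 := h.three_dvd
  have : Fact (Nat.Prime 3) := ⟨Nat.prime_three⟩
  refine orderOf_eq_prime (by rw [← pow_mul, h6]) ?_
  intro h4
  have h5 := h3.trans (orderOf_dvd_of_pow_eq_one h4)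
  omega

theorem sq_not_comm : ¬ Commute ((u * v) ^ 2) u := by
  intro hc
  apply h.not_comm
  have e : u * v = (u * v) ^ 3 * ((u * v) ^ 2)⁻¹ := by
    rw [eq_mul_inv_iff_mul_eq, ← pow_succ']
  rw [e]
  exact h.cube_comm.mul_left hc.inv_left

end Br

theorem Br.map {Z : Type*} [Group Z] {u v : Y} (h : Br u v) (φ : Y →* Z) (hφ : Function.Injective φ) :
    Br (φ u) (φ v) where
  br := by rw [← map_mul, ← map_mul, ← map_mul, ← map_mul, h.br]
  ne := fun h1 => h.ne (hφ h1)

theorem Br.of_map {Z : Type*} [Group Z] {u v : Y} (φ : Y →* Z) (hφ : Function.Injective φ) (h : Br (φ u) (φ v)) :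
    Br u v where
  br := hφ (by rw [map_mul, map_mul, map_mul, map_mul, h.br])
  ne := fun h1 => h.ne (by rw [h1])

/-- **Two commuting braid pairs give a noncyclic Sylow 3-subgroup.** -/
theorem sylow_three [Finite Y] {u v u' v' : Y} (h : Br u v) (h' : Br u' v') (h6 : (u * v) ^ 6 = 1)
    (h6' : (u' * v') ^ 6 = 1) (c1 : Commute u u') (c2 : Commute u v') (c3 : Commute v u') (c4 : Commute v v') :
    ∃ P : Sylow 3 Y, ¬ IsCyclic P := by
  have : Fact (Nat.Prime 3) := ⟨Nat.prime_three⟩
  set a := (u * v) ^ 2 with ha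
  set b := (u' * v') ^ 2 with hb
  have oa : orderOf a = 3 := h.order_sq h6
  have ob : orderOf b = 3 := h'.order_sq h6'
  have hau : Commute a u' := (c1.mul_left c3).pow_left 2
  have hab : Commute a b := ((c1.mul_left c3).mul_right (c2.mul_left c4)).pow_pow 2 2
  have hnot : b ∉ zpowers a := by
    rintro ⟨n, hn⟩
    apply h'.sq_not_comm
    rw [← hb, ← hn]
    exact hau.zpow_left n
  have hpa : IsPGroup 3 (zpowers a) := IsPGroup.of_card (n := 1) (by rw [Nat.card_zpowers, oa, pow_one])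
  have hpb : IsPGroup 3 (zpowers b) := IsPGroup.of_card (n := 1) (by rw [Nat.card_zpowers, ob, pow_one])
  have hle : zpowers b ≤ normalizer (zpowers a : Subgroup Y) := by
    rw [zpowers_le]
    rw [mem_normalizer_iff]
    intro x
    have hbz : ∀ x ∈ zpowers a, b * x * b⁻¹ = x := by
      rintro _ ⟨n, rfl⟩
      have : Commute b (a ^ n) := (hab.symm.zpow_right n)
      rw [mul_inv_eq_iff_eq_mul]
      exact this.eq
    constructor
    · intro hx
      rw [hbz x hx]; exact hx
    · intro hx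
      have h1 : b⁻¹ * (b * x * b⁻¹) * b = x := by group
      obtain ⟨n, hn⟩ := hx
      have h2 : Commute b (a ^ n) := (hab.symm.zpow_right n)
      have h3 : b * x * b⁻¹ = a ^ n := hn.symm
      rw [h3] at h1
      have h4 : b⁻¹ * a ^ n * b = a ^ n := by
        rw [mul_assoc, ← h2.eq]; group
      rw [← h1, h4]
      exact ⟨n, rfl⟩
  have hp : IsPGroup 3 ↥(zpowers a ⊔ zpowers b) := by
    rw [sup_comm]
    exact IsPGroup.to_sup_of_normal_right' hpb hpa hle
  obtain ⟨P, hP⟩ := hp.exists_le_sylow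
  refine ⟨P, fun hc => hnot ?_⟩
  have haP : a ∈ P := hP (mem_sup_left (mem_zpowers a))
  have hbP : b ∈ P := hP (mem_sup_right (mem_zpowers b))
  have hA : zpowers (⟨a, haP⟩ : P) = zpowers (⟨b, hbP⟩ : P) := by
    apply OddOrderLocal.CyclicSub.eq_of_card_eq_of_isCyclic
    rw [Nat.card_zpowers, Nat.card_zpowers, ← Subgroup.orderOf_coe, ← Subgroup.orderOf_coe]
    show orderOf a = orderOf b
    rw [oa, ob]
  have h1 : (⟨b, hbP⟩ : P) ∈ zpowers (⟨a, haP⟩ : P) := by rw [hA]; exact mem_zpowers _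
  obtain ⟨n, hn⟩ := h1
  exact ⟨n, congrArg Subtype.val hn⟩

end Abs

section Swap

variable {Y : Type*} [Group Y]

/-- `n u n⁻¹ = v` -/
theorem swap_conj {A B : Subgroup Y} {u v : Y} (h : Swap A B (u * v * u)) (hu : u ∈ A) (hv : v ∈ B) :
    (u * v * u) * u * (u * v * u)⁻¹ = v := by
  have h2 : (u * v * u) * u * (u * v * u)⁻¹ ∈ B := (h.ab u).2 hu
  have h1 : (u * v * u)⁻¹ * u * (u * v * u) ∈ B := by
    rw [← h.ba]
    have e : (u * v * u) * ((u * v * u)⁻¹ * u * (u * v * u)) * (u * v * u)⁻¹ = u := by group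
    rw [e]; exact hu
  set v₂ := (u * v * u) * u * (u * v * u)⁻¹ with hv2
  set v₁ := (u * v * u)⁻¹ * u * (u * v * u) with hv1
  -- `w = v₂⁻¹ v`
  have hwB : v₂⁻¹ * v ∈ B := mul_mem (inv_mem h2) hv
  have hkey : v * (v₂⁻¹ * v) * v⁻¹ ∈ A := by
    have hb : (v₁ * v⁻¹)⁻¹ ∈ B := inv_mem (mul_mem h1 (inv_mem hv))
    have hc := (h.ba _).2 hb
    have e : v * (v₂⁻¹ * v) * v⁻¹ = u⁻¹ * ((u * v * u) * (v₁ * v⁻¹)⁻¹ * (u * v * u)⁻¹) * u := by
      rw [hv2, hv1]; group
    rw [e]
    exact mul_mem (mul_mem (inv_mem hu) hc) hu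
  have h3 : v * (v₂⁻¹ * v) * v⁻¹ = 1 := by
    refine h.nor _ (mul_mem (mul_mem hv hwB) (inv_mem hv)) fun y hy => ?_
    exact mul_mem (mul_mem hkey hy) (inv_mem hkey)
  have h4 : v₂⁻¹ * v = 1 := by
    have e : v₂⁻¹ * v = v⁻¹ * (v * (v₂⁻¹ * v) * v⁻¹) * v := by group
    rw [e, h3]; group
  exact inv_mul_eq_one.1 h4

theorem swap_braid {A B : Subgroup Y} {u v : Y} (h : Swap A B (u * v * u)) (hu : u ∈ A) (hv : v ∈ B) (hu1 : u ≠ 1) :
    Br u v where
  br := by
    have h1 := swap_conj h hu hv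
    rw [mul_inv_eq_iff_eq_mul] at h1
    have h2 : u * v * u * u = v * u * v * u := by rw [h1]; group
    exact mul_right_cancel h2
  ne := by
    rintro rfl
    exact hu1 (h.nor u hv fun y hy => mul_mem (mul_mem hu hy) (inv_mem hu))

end Swap

end Cfsg.Agent.H991.BraidThree
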