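import Cfsg.Agent.H991.PglAdj3
import Cfsg.Agent.OddHalf.NI.ModelChev
import Cfsg.Agent.H240.QuadExc
import Cfsg.Agent.H367.SpecU33
import Cfsg.Agent.S1057

/-!
# Elements of order divisible by 12, noncyclic Sylow 3-subgroups (helper991)

* `noncyclic_three` : two orthogonal roots give a noncyclic Sylow 3-subgroup;
* `twelve_odd` : odd characteristic; `twelve_even` : characteristic 2, type `A2 × A1`; `twelve_G2_even`;
* `twelve_G2`, ..., `sylow_G2`, ...
-/

set_option autoImplicit false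
set_option linter.unusedSectionVars false

namespace Cfsg.Agent.H991.PglTwelve

open CoxeterSystem Subgroup Cfsg Cfsg.Lie Cfsg.Lie.ChevalleyDatum
open Cfsg.Agent.ChevalleyStructure Cfsg.Agent.ChevalleyStructure.Elts Cfsg.Agent.ChevalleyStructure.CoxeterGeom
  Cfsg.Agent.ChevalleyStructure.CoxeterGeomTypes Cfsg.Agent.ChevalleyStructure.NPerm
open Cfsg.Agent.Tits.Roots Cfsg.Agent.Tits.Core Cfsg.Agent.Nodes.Reps Cfsg.Agent.Nodes.BNOf
  Cfsg.Agent.Nodes.RGDChev Cfsg.Agent.Nodes.Bruhat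
open Cfsg.Agent.KFacts.RgdField Cfsg.Agent.KFacts.RgdChevCoord Cfsg.Agent.BpExc.TorCent Cfsg.Agent.BpExc.TorChev
open Cfsg.Agent.BpExc.Tow Cfsg.Agent.BpExc.TowChev Cfsg.Agent.BpExc.FamExt Cfsg.Agent.BpExc.FamUntw
  Cfsg.Agent.BpExc.FamInst Cfsg.Agent.BpExc.LangFr Cfsg.Agent.BpExc.FamField Cfsg.Agent.BpExc.RowsUntw
open Cfsg.Agent.H378 Cfsg.Agent.H378.RankOne Cfsg.Agent.H378.SmallTor
open Cfsg.Agent.H240.QuadExc (okComm okOne okOrth comm_of_ok one_of_ok)
open Cfsg.Agent.H991.BraidThree Cfsg.Agent.H991.PglAdj3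
open Cfsg.Agent.FixBN.FieldRGD (uu vv dd ww)
open scoped MatrixGroups commutatorElement

universe u v

section SL

variable {K : Type*} [Field K]

theorem sl_br : uu (1 : K) * vv (-1) * uu 1 = vv (-1) * uu 1 * vv (-1) := by
  apply Subtype.ext
  show !![(1 : K), 1; 0, 1] * !![1, 0; -1, 1] * !![1, 1; 0, 1] = !![1, 0; -1, 1] * !![1, 1; 0, 1] * !![1, 0; -1, 1]
  rw [Matrix.mul_fin_two, Matrix.mul_fin_two, Matrix.mul_fin_two, Matrix.mul_fin_two]
  congr 1
  ext i j
  fin_cases i <;> fin_cases j <;> simp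

theorem sl_n : uu (1 : K) * vv (-1) * uu 1 = ww 1 one_ne_zero := by
  apply Subtype.ext
  show !![(1 : K), 1; 0, 1] * !![1, 0; -1, 1] * !![1, 1; 0, 1] = !![0, 1; -1⁻¹, 0]
  rw [Matrix.mul_fin_two, Matrix.mul_fin_two]
  congr 1
  ext i j
  fin_cases i <;> fin_cases j <;> simp

theorem ww_sq : ww (1 : K) one_ne_zero ^ 2 = dd (-1) (neg_ne_zero.2 one_ne_zero) := by
  rw [pow_two]
  apply Subtype.ext
  show !![(0 : K), 1; -1⁻¹, 0] * !![(0 : K), 1; -1⁻¹, 0] = !![(-1 : K), 0; 0, (-1)⁻¹]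
  rw [Matrix.mul_fin_two]
  congr 1
  ext i j
  fin_cases i <;> fin_cases j <;> simp

theorem dd_sq : dd (-1 : K) (neg_ne_zero.2 one_ne_zero) ^ 2 = 1 := by
  rw [pow_two]
  apply Subtype.ext
  show !![(-1 : K), 0; 0, (-1)⁻¹] * !![(-1 : K), 0; 0, (-1)⁻¹] = (1 : Matrix (Fin 2) (Fin 2) K)
  rw [Matrix.mul_fin_two, Matrix.one_fin_two]
  congr 1
  ext i j
  fin_cases i <;> fin_cases j <;> simp

theorem ww_four : ww (1 : K) one_ne_zero ^ 4 = 1 := by
  rw [show 4 = 2 * 2 from rfl, pow_mul, ww_sq, dd_sq]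

end SL

variable {D : ChevalleyDatum} {l : ℕ} {M : CoxeterMatrix (Fin l)} (hp : IsType D l M)
  {W : Type*} [Group W] [Finite W] (cs : CoxeterSystem M W) {F : Type u} [Field F] [Finite F]

include cs in
/-- **The standard braid pair of a root.** -/
theorem root_br {a : ℕ} (ha : a < D.nroots) :
    ∃ φ : SL(2, F) →* ↥(D.group F),
      Br (xc hp (vec D l a) (1 : F)) (xc hp (-(vec D l a)) (-1 : F)) ∧
      (xc hp (vec D l a) (1 : F) * xc hp (-(vec D l a)) (-1 : F)) ^ 6 = 1 ∧
      (∀ c hc, ((φ (dd c hc) : ↥(D.group F)) : GL D.Idx F) = hG hp.inList a c) ∧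
      φ (ww 1 one_ne_zero) = xc hp (vec D l a) (1 : F) * xc hp (-(vec D l a)) (-1 : F) * xc hp (vec D l a) (1 : F) := by
  obtain ⟨φ, h1, h2, h3, h4, -⟩ := Cfsg.Agent.OddHalf.NI.ModelChev.exists_sl hp (K := F) ha
  obtain ⟨p, _, _, -⟩ := exists_charP F
  have hk := locFin_of_finite F
  have C := coordsL hp cs hk p
  have hr : IsRoot cs hp.isCartan (vec D l a) := isRoot_vec hp cs ha
  have hu : xc hp (vec D l a) (1 : F) ∈ XX D l F (vec D l a) := (RankOne.mem_XX hp ha).2 ⟨1, rfl⟩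
  have hu1 : xc hp (vec D l a) (1 : F) ≠ 1 := (C.coord _ hr).ne_one one_ne_zero
  have hw : φ (ww 1 one_ne_zero) =
      xc hp (vec D l a) (1 : F) * xc hp (-(vec D l a)) (-1 : F) * xc hp (vec D l a) (1 : F) := by
    rw [← sl_n, map_mul, map_mul, h1, h2]
  have hbr : Br (xc hp (vec D l a) (1 : F)) (xc hp (-(vec D l a)) (-1 : F)) := by
    refine ⟨?_, ?_⟩
    · rw [← h1, ← h2, ← map_mul, ← map_mul, ← map_mul, ← map_mul, sl_br]
    · intro he
      obtain ⟨v, hv, hS⟩ := exists_swap hp cs hk p hr hu hu1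
      apply hu1
      have hu' : xc hp (vec D l a) (1 : F) ∈ XX D l F (-(vec D l a)) := by
        rw [he]
        exact ((C.coord _ hr.neg).mem _).2 ⟨_, rfl⟩
      exact hS.nor _ hu' fun y hy => mul_mem (mul_mem hu hy) (inv_mem hu)
  refine ⟨φ, hbr, ?_, h4, hw⟩
  rw [show 6 = 3 * 2 from rfl, pow_mul, hbr.cube, ← hw, ← map_mul, ← map_pow, ← pow_two, ← pow_mul, ww_four, map_one]

theorem comm_xc {a b : ℕ} (ha : a < D.nroots) (hb : b < D.nroots) (h : okComm D a b = true) (s t : F) :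
    Commute (xc hp (vec D l a) s) (xc hp (vec D l b) t) := by
  have h1 := comm_of_ok (F := F) hp.inList h s t
  apply Subtype.ext
  rw [Subgroup.coe_mul, Subgroup.coe_mul, coe_xc hp ha, coe_xc hp hb]
  exact h1.symm.eq

/-- orthogonal roots -/
structure OK (D : ChevalleyDatum) (a b : ℕ) : Prop where
  ha : a < D.nroots
  hb : b < D.nroots
  orth : okOrth D a b = true

theorem comm_orth {a b : ℕ} (h : OK D a b) (s t : F) :
    Commute (xc hp (vec D l a) s) (xc hp (vec D l b) t) ∧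
    Commute (xc hp (vec D l a) s) (xc hp (-(vec D l b)) t) ∧
    Commute (xc hp (-(vec D l a)) s) (xc hp (vec D l b) t) ∧
    Commute (xc hp (-(vec D l a)) s) (xc hp (-(vec D l b)) t) := by
  have h0 := h.orth
  simp only [okOrth, Bool.and_eq_true] at h0
  obtain ⟨⟨⟨h1, h2⟩, h3⟩, h4⟩ := h0
  have ha' := neg_lt hp.inList h.ha
  have hb' := neg_lt hp.inList h.hb
  rw [← vec_neg hp h.ha, ← vec_neg hp h.hb]
  exact ⟨comm_xc hp h.ha h.hb h1 s t, comm_xc hp h.ha hb' h2 s t, comm_xc hp ha' h.hb h3 s t,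
    comm_xc hp ha' hb' h4 s t⟩

include cs hp in
/-- **A noncyclic Sylow 3-subgroup from two orthogonal roots.** -/
theorem noncyclic_three {a b : ℕ} (h : OK D a b) : ∃ P : Sylow 3 ↥(D.group F), ¬ IsCyclic P := by
  obtain ⟨-, h1, h2, -⟩ := root_br hp cs (F := F) h.ha
  obtain ⟨-, h3, h4, -⟩ := root_br hp cs (F := F) h.hb
  exact sylow_three h1 h3 h2 h4 (comm_orth hp h 1 1).1 (comm_orth hp h 1 (-1)).2.1 (comm_orth hp h (-1) 1).2.2.1
    (comm_orth hp h (-1) (-1)).2.2.2

include cs hp in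
/-- **An element of order divisible by 12, odd characteristic.** -/
theorem twelve_odd {j : Fin l} {b s : ℕ} (h : OK D (D.simple j) b) (hs : s < D.nroots) (hodd : D.cartan j s % 2 = 1)
    (h2 : (-1 : F) ≠ 1) : ∃ g : ↥(D.group F), 12 ∣ orderOf g := by
  obtain ⟨φ, h1, -, h4, h5⟩ := root_br hp cs (F := F) h.ha
  obtain ⟨-, h3, -, -⟩ := root_br hp cs (F := F) h.hb
  have hd : φ (dd (-1) (neg_ne_zero.2 one_ne_zero)) = hc hp j (-1 : F) := Subtype.ext (h4 _ _)
  have hd1 : hc hp j (-1 : F) ≠ 1 := by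
    refine hc_ne_one hp j (neg_ne_zero.2 one_ne_zero) hs ?_
    rw [(Int.odd_iff.2 hodd).neg_one_zpow]
    exact h2
  have ho : orderOf (φ (ww 1 one_ne_zero)) = 2 ^ (1 + 1) := by
    apply orderOf_eq_prime_pow
    · rw [pow_one, ← map_pow, ww_sq, hd]
      exact hd1
    · rw [← map_pow]
      show φ (ww 1 one_ne_zero ^ 4) = 1
      rw [ww_four, map_one]
  have hc : ∀ y : ↥(D.group F), (∀ s : F, Commute (xc hp (vec D l (D.simple j)) s) y) →
      (∀ s : F, Commute (xc hp (-(vec D l (D.simple j))) s) y) → Commute (φ (ww 1 one_ne_zero)) y := by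
    intro y hy1 hy2
    rw [h5]
    exact ((hy1 _).mul_left (hy2 _)).mul_left (hy1 _)
  have hcc : Commute (φ (ww 1 one_ne_zero)) (xc hp (vec D l b) (1 : F) * xc hp (-(vec D l b)) (-1 : F)) :=
    hc _ (fun s => (comm_orth hp h s 1).1.mul_right (comm_orth hp h s (-1)).2.1)
      (fun s => (comm_orth hp h s 1).2.2.1.mul_right (comm_orth hp h s (-1)).2.2.2)
  exact mul_dvd_of_comm (a := 4) (b := 3) (by norm_num) (by rw [ho]; norm_num) h3.three_dvd hcc (orderOf_pos _).ne'
    (orderOf_pos _).ne'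

/-- type `A2 × A1`: `[x_b, x_a] = x_k`, `c` orthogonal to `a` and `b` -/
structure OKE (D : ChevalleyDatum) (a b k c : ℕ) : Prop where
  one : okOne D a b k = true
  ca : OK D c a
  cb : OK D c b
  hk : k < D.nroots

include cs hp in
/-- **An element of order divisible by 12, characteristic 2, `A2 × A1`.** -/
theorem twelve_even {a b k c : ℕ} (h : OKE D a b k c) [CharP F 2] : ∃ g : ↥(D.group F), 12 ∣ orderOf g := by
  have hk := locFin_of_finite F
  have : Fact (Nat.Prime 2) := ⟨Nat.prime_two⟩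
  have C := coordsL hp cs hk 2
  obtain ⟨-, h3, -, -⟩ := root_br hp cs (F := F) h.ca.ha
  obtain ⟨c0, hc0, hcc⟩ := one_of_ok (F := F) hp.inList h.one
  have hc1 : c0 = 1 := by
    rcases hc0 with h1 | h1
    · exact h1
    · rw [h1]
      exact CharTwo.neg_eq 1
  have hA : ∀ (r : ℕ) (_ : r < D.nroots), xc hp (vec D l r) (1 : F) ^ 2 = 1 := fun r hr =>
    RootTor.X_pow hp cs 2 (isRoot_vec hp cs hr) ((RankOne.mem_XX hp hr).2 ⟨1, rfl⟩)
  have e : (xc hp (vec D l b) (1 : F) * xc hp (vec D l a) (1 : F)) ^ 2 = xc hp (vec D l k) (1 : F) := by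
    have i1 := inv_eq_of_mul_eq_one_right (by rw [← pow_two]; exact hA a h.ca.hb :
      xc hp (vec D l a) (1 : F) * xc hp (vec D l a) 1 = 1)
    have i2 := inv_eq_of_mul_eq_one_right (by rw [← pow_two]; exact hA b h.cb.hb :
      xc hp (vec D l b) (1 : F) * xc hp (vec D l b) 1 = 1)
    have e2 : (xc hp (vec D l b) (1 : F) * xc hp (vec D l a) (1 : F)) ^ 2 =
        ⁅xc hp (vec D l b) (1 : F), xc hp (vec D l a) (1 : F)⁆ := by
      rw [commutatorElement_def, i1, i2, pow_two]
      group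
    rw [e2]
    apply Subtype.ext
    rw [coe_xc hp h.hk]
    have e3 := hcc 1 1
    rw [hc1, one_mul, one_mul] at e3
    rw [← e3, ← coe_xc hp h.ca.hb, ← coe_xc hp h.cb.hb]
    rfl
  have ho : orderOf (xc hp (vec D l b) (1 : F) * xc hp (vec D l a) (1 : F)) = 2 ^ (1 + 1) := by
    apply orderOf_eq_prime_pow
    · rw [pow_one, e]
      exact (C.coord _ (isRoot_vec hp cs h.hk)).ne_one one_ne_zero
    · show _ ^ (2 * 2) = _
      rw [pow_mul, e]
      exact hA k h.hk
  have hcc : Commute (xc hp (vec D l c) (1 : F) * xc hp (-(vec D l c)) (-1 : F))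
      (xc hp (vec D l b) (1 : F) * xc hp (vec D l a) (1 : F)) :=
    ((comm_orth hp h.cb 1 1).1.mul_left (comm_orth hp h.cb (-1) 1).2.2.1).mul_right
      ((comm_orth hp h.ca 1 1).1.mul_left (comm_orth hp h.ca (-1) 1).2.2.1)
  exact mul_dvd_of_comm (a := 4) (b := 3) (by norm_num) (by rw [ho]; norm_num) h3.three_dvd hcc.symm
    (orderOf_pos _).ne' (orderOf_pos _).ne'

/-! ### the types -/

theorem neg_one_ne_one {p : ℕ} [CharP F p] (hp2 : p ≠ 2) : (-1 : F) ≠ 1 := by
  intro h1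
  have h2 : ((2 : ℕ) : F) = 0 := by
    have : (1 : F) + 1 = 0 := by nth_rw 1 [← h1]; exact neg_add_cancel 1
    rw [Nat.cast_ofNat, ← one_add_one_eq_two]; exact this
  rw [CharP.cast_eq_zero_iff F p] at h2
  rcases (Nat.dvd_prime Nat.prime_two).1 h2 with h3 | h3
  · have : ((1 : ℕ) : F) = 0 := by rw [CharP.cast_eq_zero_iff F p, h3]
    rw [Nat.cast_one] at this
    exact one_ne_zero this
  · exact hp2 h3

theorem okG2 : OK chevG2 (chevG2.simple ((0 : Fin 2) : ℕ)) 0 where
  ha := by decide +kernel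
  hb := by decide +kernel
  orth := by decide +kernel

theorem okF4 : OK chevF4 (chevF4.simple ((0 : Fin 4) : ℕ)) 0 where
  ha := by decide +kernel
  hb := by decide +kernel
  orth := by decide +kernel

theorem okE6 : OK chevE6 (chevE6.simple ((0 : Fin 6) : ℕ)) 0 where
  ha := by decide +kernel
  hb := by decide +kernel
  orth := by decide +kernel

theorem okE7 : OK chevE7 (chevE7.simple ((0 : Fin 7) : ℕ)) 2 where
  ha := by decide +kernel
  hb := by decide +kernel
  orth := by decide +kernel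

theorem okE8 : OK chevE8 (chevE8.simple ((0 : Fin 8) : ℕ)) 0 where
  ha := by decide +kernel
  hb := by decide +kernel
  orth := by decide +kernel

theorem okeF4 : OKE chevF4 33 27 34 24 where
  one := by decide +kernel
  ca := ⟨by decide +kernel, by decide +kernel, by decide +kernel⟩
  cb := ⟨by decide +kernel, by decide +kernel, by decide +kernel⟩
  hk := by decide +kernel

theorem okeE6 : OKE chevE6 56 42 57 46 where
  one := by decide +kernel
  ca := ⟨by decide +kernel, by decide +kernel, by decide +kernel⟩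
  cb := ⟨by decide +kernel, by decide +kernel, by decide +kernel⟩
  hk := by decide +kernel

theorem okeE7 : OKE chevE7 93 73 94 78 where
  one := by decide +kernel
  ca := ⟨by decide +kernel, by decide +kernel, by decide +kernel⟩
  cb := ⟨by decide +kernel, by decide +kernel, by decide +kernel⟩
  hk := by decide +kernel

theorem okeE8 : OKE chevE8 162 135 163 141 where
  one := by decide +kernel
  ca := ⟨by decide +kernel, by decide +kernel, by decide +kernel⟩
  cb := ⟨by decide +kernel, by decide +kernel, by decide +kernel⟩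
  hk := by decide +kernel

/-- **Noncyclic Sylow 3-subgroups.** -/
theorem sylow_G2 (F : Type u) [Field F] [Finite F] : ∃ P : Sylow 3 ↥(chevG2.group F), ¬ IsCyclic P := by
  let cs : CoxeterSystem CoxeterMatrix.G₂ CoxeterMatrix.G₂.Group := CoxeterMatrix.G₂.toCoxeterSystem
  have := finite_W g2T cs
  exact noncyclic_three g2T cs okG2

theorem nine_card : Fintype.card Cfsg.Agent.ChevalleyStructure.NineField.F9 = 9 :=
  Cfsg.Agent.ChevalleyStructure.NineField.F9.card_F9

/-- `G2(2)` has an element of order 12 -/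
theorem twelve_G2_two : ∃ g : ↥(chevG2.group (ZMod 2)), orderOf g = 12 := by
  obtain ⟨e⟩ := Cfsg.Agent.S1057.result (F := ZMod 2) (K := Cfsg.Agent.ChevalleyStructure.NineField.F9)
    (ZMod.card 2) nine_card
  have h1 : 12 ∈ Set.range (orderOf : Cfsg.PSU 3 Cfsg.Agent.ChevalleyStructure.NineField.F9 3 → ℕ) := by
    rw [Cfsg.Agent.H367.SpecU33.range_orderOf nine_card]
    simp
  obtain ⟨x, hx⟩ := h1
  refine ⟨((e.symm x : ↥(commutator ↥(chevG2.group (ZMod 2)))) : ↥(chevG2.group (ZMod 2))), ?_⟩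
  rw [Subgroup.orderOf_coe, MulEquiv.orderOf_eq, hx]

/-- **Elements of order divisible by 12**, `G2(q)`, all `q ≥ 2`. -/
theorem twelve_G2 (F : Type u) [Field F] [Finite F] : ∃ g : ↥(chevG2.group F), 12 ∣ orderOf g := by
  let cs : CoxeterSystem CoxeterMatrix.G₂ CoxeterMatrix.G₂.Group := CoxeterMatrix.G₂.toCoxeterSystem
  have := finite_W g2T cs
  obtain ⟨p, _, _, -⟩ := exists_charP F
  by_cases hp2 : p = 2
  · subst hp2
    obtain ⟨x, hx⟩ := twelve_G2_two
    let f : ZMod 2 →+* F := ZMod.castHom dvd_rfl F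
    refine ⟨GpExc.Field.emb g2T.inList f x, ?_⟩
    rw [orderOf_injective _ (GpExc.Field.emb_injective g2T.inList f), hx]
  · exact twelve_odd g2T cs okG2 (s := 1) (by decide +kernel) (by decide +kernel) (neg_one_ne_one hp2)

/-- **Noncyclic Sylow 3-subgroups.** -/
theorem sylow_F4 (F : Type u) [Field F] [Finite F] : ∃ P : Sylow 3 ↥(chevF4.group F), ¬ IsCyclic P := by
  let cs : CoxeterSystem CoxeterMatrix.F₄ CoxeterMatrix.F₄.Group := CoxeterMatrix.F₄.toCoxeterSystem
  have := finite_W f4T cs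
  exact noncyclic_three f4T cs okF4

/-- **Elements of order divisible by 12.** -/
theorem twelve_F4 (F : Type u) [Field F] [Finite F] : ∃ g : ↥(chevF4.group F), 12 ∣ orderOf g := by
  let cs : CoxeterSystem CoxeterMatrix.F₄ CoxeterMatrix.F₄.Group := CoxeterMatrix.F₄.toCoxeterSystem
  have := finite_W f4T cs
  obtain ⟨p, _, _, -⟩ := exists_charP F
  by_cases hp2 : p = 2
  · subst hp2
    exact twelve_even f4T cs okeF4
  · exact twelve_odd f4T cs okF4 (s := 3) (by decide +kernel) (by decide +kernel) (neg_one_ne_one hp2)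

/-- **Noncyclic Sylow 3-subgroups.** -/
theorem sylow_E6 (F : Type u) [Field F] [Finite F] : ∃ P : Sylow 3 ↥(chevE6.group F), ¬ IsCyclic P := by
  let cs : CoxeterSystem CoxeterMatrix.E₆ CoxeterMatrix.E₆.Group := CoxeterMatrix.E₆.toCoxeterSystem
  have := finite_W e6T cs
  exact noncyclic_three e6T cs okE6

/-- **Elements of order divisible by 12.** -/
theorem twelve_E6 (F : Type u) [Field F] [Finite F] : ∃ g : ↥(chevE6.group F), 12 ∣ orderOf g := by
  let cs : CoxeterSystem CoxeterMatrix.E₆ CoxeterMatrix.E₆.Group := CoxeterMatrix.E₆.toCoxeterSystem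
  have := finite_W e6T cs
  obtain ⟨p, _, _, -⟩ := exists_charP F
  by_cases hp2 : p = 2
  · subst hp2
    exact twelve_even e6T cs okeE6
  · exact twelve_odd e6T cs okE6 (s := 5) (by decide +kernel) (by decide +kernel) (neg_one_ne_one hp2)

/-- **Noncyclic Sylow 3-subgroups.** -/
theorem sylow_E7 (F : Type u) [Field F] [Finite F] : ∃ P : Sylow 3 ↥(chevE7.group F), ¬ IsCyclic P := by
  let cs : CoxeterSystem CoxeterMatrix.E₇ CoxeterMatrix.E₇.Group := CoxeterMatrix.E₇.toCoxeterSystem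
  have := finite_W e7T cs
  exact noncyclic_three e7T cs okE7

/-- **Elements of order divisible by 12.** -/
theorem twelve_E7 (F : Type u) [Field F] [Finite F] : ∃ g : ↥(chevE7.group F), 12 ∣ orderOf g := by
  let cs : CoxeterSystem CoxeterMatrix.E₇ CoxeterMatrix.E₇.Group := CoxeterMatrix.E₇.toCoxeterSystem
  have := finite_W e7T cs
  obtain ⟨p, _, _, -⟩ := exists_charP F
  by_cases hp2 : p = 2
  · subst hp2
    exact twelve_even e7T cs okeE7
  · exact twelve_odd e7T cs okE7 (s := 0) (by decide +kernel) (by decide +kernel) (neg_one_ne_one hp2)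

/-- **Noncyclic Sylow 3-subgroups.** -/
theorem sylow_E8 (F : Type u) [Field F] [Finite F] : ∃ P : Sylow 3 ↥(chevE8.group F), ¬ IsCyclic P := by
  let cs : CoxeterSystem CoxeterMatrix.E₈ CoxeterMatrix.E₈.Group := CoxeterMatrix.E₈.toCoxeterSystem
  have := finite_W e8T cs
  exact noncyclic_three e8T cs okE8

/-- **Elements of order divisible by 12.** -/
theorem twelve_E8 (F : Type u) [Field F] [Finite F] : ∃ g : ↥(chevE8.group F), 12 ∣ orderOf g := by
  let cs : CoxeterSystem CoxeterMatrix.E₈ CoxeterMatrix.E₈.Group := CoxeterMatrix.E₈.toCoxeterSystem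
  have := finite_W e8T cs
  obtain ⟨p, _, _, -⟩ := exists_charP F
  by_cases hp2 : p = 2
  · subst hp2
    exact twelve_even e8T cs okeE8
  · exact twelve_odd e8T cs okE8 (s := 6) (by decide +kernel) (by decide +kernel) (neg_one_ne_one hp2)

end Cfsg.Agent.H991.PglTwelve
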