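import Cfsg.Agent.H991.TwFAb.Main
import Cfsg.Agent.H378.TwRowsF
import Cfsg.Agent.KFacts.TwF4.Inst
import Cfsg.Agent.S1068

/-!
# `|A|³ < |G|` for the abelian subgroups `A` of `G = ²F₄(q)`, `q ≥ 8` (helper991, task 825 of helper498)
-/

set_option autoImplicit false
set_option linter.unusedSectionVars false

namespace Cfsg.Agent.H991.Ab2F4

open Cfsg Cfsg.Lie Cfsg.Agent.H498.Ab Cfsg.Agent.KFacts.TwF4

theorem ab3_twisted {K : Type} [Field K] [Fintype K] {m : ℕ} (hm : 1 ≤ m) (hK : Fintype.card K = 2 ^ (2 * m + 1)) :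
    Ab3 ↥(twistedF4 K (2 ^ m)) := by
  have hchar := Cfsg.Agent.ChevalleyStructure.TwF4.Twisted.charP_two hK
  obtain ⟨φ, hφ⟩ := ChevalleyStructure.TwF4.TwistedFix.exists_rln hK
  have hq : Nat.card K = 2 ^ (2 * m + 1) := by rw [Nat.card_eq_fintype_card]; exact hK
  intro A hA
  refine TwFAb.ab_full (Inst.full hK hφ) rfl hm hq ?_ ?_ A (comm_iff.1 hA)
  · rw [S1068.result hK, hq]
    rfl
  · intro x r hr hx hd
    have h8 : 1 ≤ Nat.card K := Nat.card_pos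
    have hle : Nat.card K ^ 2 ≤ Nat.card K ^ 4 := Nat.pow_le_pow_right h8 (by norm_num)
    have hz : ((Nat.card K ^ 4 - Nat.card K ^ 2 + 1 : ℕ) : ℤ) = (Nat.card K : ℤ) ^ 4 - (Nat.card K : ℤ) ^ 2 + 1 := by
      push_cast [Nat.cast_sub hle]; ring
    have hod := H378.TwRows.od_of_c12 (q := Nat.card K) hr (by
      rw [H493.PGCyc.pv_c12, ← hz]
      exact_mod_cast hd)
    have h1 := (H378.TwRowsF.cent_2F4 hK hr hx hod).2
    rw [H378.TwRows.eval_cyc12, ← hz, Int.natAbs_natCast] at h1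
    refine (Nat.le_of_dvd (by omega) h1).trans ?_
    have h2 : 1 ≤ Nat.card K ^ 2 := Nat.one_le_pow _ _ h8
    omega

/-- **the row `²F₄(q)` of S2501** -/
theorem ab3_2F4 {G : Type*} [Group G] [Finite G] [IsSimpleGroup G] (h : Cfsg.Lie.Iso2F4 G) : Ab3 G := by
  obtain ⟨K, _, _, m, hm, hK, ⟨e⟩⟩ := h
  exact (ab3_twisted hm hK).congr e.symm

end Cfsg.Agent.H991.Ab2F4
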