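import Cfsg.Agent.H991.RegBabyElt
import Cfsg.Agent.H524.SporBaby
import Cfsg.Agent.H524.RegTool
import Cfsg.Agent.H149.Sp.HN
import Cfsg.Agent.H149.Sp.Baby

/-!
# `RegAll` for the Baby Monster (for S4129)

* an involution of the class `2A` (`q = 3, 5`), an element of order 8 commuting with no element of order 7 or `≥ 11`,
  elements of orders 31, 47 (`q = 2`): the rows `p ≠ 2`;
* `p = 2`: an element of order 5 whose centralizer in the Monster is `5 × HN` (`q ≠ 11`) and an element of order 7 whose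
  centralizer in the Monster is `7 × He` (`q = 11`).
-/

set_option autoImplicit false
set_option maxRecDepth 100000

namespace Cfsg.Agent.H991.RegBaby

open Subgroup Cfsg Cfsg.Lie Cfsg.Agent.Bimonster Cfsg.Agent.BabyU Cfsg.Agent.TwoESix.Cover
open Cfsg.Agent.MonsterX.KSide Cfsg.Agent.MonsterX.KLift Cfsg.Agent.MonsterX.KModel
open Cfsg.Agent.MonsterX.Model Cfsg.Agent.MonsterX.MainPack Cfsg.Agent.MonsterX.MainSimple
open Cfsg.Agent.MonsterX.MainBasic Cfsg.Agent.MonsterU.Assembly Cfsg.Agent.MonsterN Cfsg.Agent.MonsterN.Lit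
open Cfsg.Agent.MonsterN.LitInst Cfsg.Agent.MonsterU.Lam2 Cfsg.Agent.MonsterU.TwoCls
open Cfsg.Agent.BabyComp Cfsg.Agent.BabyComp.Main Cfsg.Agent.BabyComp.BaseTwo Cfsg.Agent.R01.Lifts
open Cfsg.Agent.H524.DirRed Cfsg.Agent.H524.LargeEight Cfsg.Agent.H524.CoKey Cfsg.Agent.H524.SporTool
open Cfsg.Agent.H524.RegTool

/-- the involution of the class `2A` and the element of order eight -/
theorem two_elements : (∃ t : Spor.BabyMonster, orderOf t = 2 ∧
      Nat.card (centralizer ({t} : Set Spor.BabyMonster)) = 306129918735099415756800) ∧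
    ∃ u : Spor.BabyMonster, orderOf u = 2 ^ 3 ∧ ∀ p : ℕ, p.Prime → (p = 7 ∨ 11 ≤ p) → ∀ x : Spor.BabyMonster,
      orderOf x = p → ¬ Commute x u := by
  have hN := Cfsg.Agent.H573.Spor.card_baby
  refine CTwoTab.BInst.elim ?_
  intro K _ _ hK hF _ _ _ _ q y h π f₁ f₂ f₃ f₄ M₁' hq h10 DK Fc hz hcz hcd hL hc5 big hq5 hcard Bs' hr
  have ht2 : orderOf (q (y 5)) = 2 := by
    refine orderOf_eq_prime ?_ ?_
    · rw [pow_two, ← map_mul, h.sq 5 (by norm_num) (by norm_num), map_one]
    · intro e
      rw [e] at hcard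
      have h6 : centralizer ({1} : Set Spor.BabyMonster) = ⊤ := by
        rw [eq_top_iff]
        intro g _
        rw [mem_centralizer_singleton_iff, mul_one, one_mul]
      rw [h6, card_top, hN] at hcard
      norm_num at hcard
  have hcent : Cfsg.Agent.LThreeMB.KChart.Cent Cfsg.Agent.MonsterX.KDone.K := fun g hg =>
    Cfsg.Agent.MonsterN.LitInst.hcent Cfsg.Agent.MonsterX.KDone.lnk CTwoTab.BInst.all g hg
  have hch := Cfsg.Agent.LThreeMB.KChart.chart Cfsg.Agent.MonsterX.KDone.lft hcent
  have htype : IsType 2 (Cfsg.Agent.LThreeMB.KChart.eta Cfsg.Agent.MonsterX.KDone.lft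
      (Cfsg.Agent.MonsterX.KDone.K.ι Cfsg.Agent.MonsterX.KLinkInst.x₀)) := by
    rw [Cfsg.Agent.LThreeMB.KChart.eta_ι]
    exact (Cfsg.Agent.MonsterU.TwoCls.mem_Sh_iff _ _).1 Cfsg.Agent.MonsterX.KDone.lnk.x₀_mem
  exact ⟨⟨q (y 5), ht2, hcard⟩, not_comm_b hch ⟨_, rfl⟩ htype hq⟩

theorem regAll_model : RegAll Spor.BabyMonster := by
  have hN := Cfsg.Agent.H573.Spor.card_baby
  have hfin : Finite Spor.BabyMonster := Nat.finite_of_card_ne_zero (by rw [hN]; norm_num)
  obtain ⟨⟨t, ht, hct⟩, u, hu, key⟩ := two_elements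
  have h31 : H393.Iso.NA 31 Spor.BabyMonster := H149.Sp.na_b_model_all (by norm_num) (by norm_num) (by norm_num) (by norm_num)
  have h47 : H393.Iso.NA 47 Spor.BabyMonster := H149.Sp.na_b_model_all (by norm_num) (by norm_num) (by norm_num) (by norm_num)
  intro p q hp hq hpq hd
  have hqc : q = 2 ∨ q = 3 ∨ q = 5 ∨ q = 7 ∨ q = 11 ∨ q = 13 ∨ q = 17 ∨ q = 19 ∨ q = 23 ∨ q = 31 ∨ q = 47 := by
    have h1 : q ∈ Nat.primeFactors (Nat.card Spor.BabyMonster) := Nat.mem_primeFactors.2 ⟨hq, hd, by rw [hN]; norm_num⟩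
    rw [hN, show (4154781481226426191177580544000000 : ℕ) = 2 ^ 41 * (3 ^ 13 * (5 ^ 6 * (7 ^ 2 * (11 * (13 * (17 * (19 *
      (23 * (31 * 47))))))))) by norm_num, Nat.primeFactors_mul (by norm_num) (by norm_num),
      Nat.primeFactors_mul (by norm_num) (by norm_num), Nat.primeFactors_mul (by norm_num) (by norm_num),
      Nat.primeFactors_mul (by norm_num) (by norm_num), Nat.primeFactors_mul (by norm_num) (by norm_num),
      Nat.primeFactors_mul (by norm_num) (by norm_num), Nat.primeFactors_mul (by norm_num) (by norm_num),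
      Nat.primeFactors_mul (by norm_num) (by norm_num), Nat.primeFactors_mul (by norm_num) (by norm_num),
      Nat.primeFactors_mul (by norm_num) (by norm_num),
      Nat.primeFactors_pow _ (by norm_num), Nat.primeFactors_pow _ (by norm_num), Nat.primeFactors_pow _ (by norm_num),
      Nat.primeFactors_pow _ (by norm_num), Nat.Prime.primeFactors (by norm_num : (2 : ℕ).Prime),
      Nat.Prime.primeFactors (by norm_num : (3 : ℕ).Prime), Nat.Prime.primeFactors (by norm_num : (5 : ℕ).Prime),
      Nat.Prime.primeFactors (by norm_num : (7 : ℕ).Prime), Nat.Prime.primeFactors (by norm_num : (11 : ℕ).Prime),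
      Nat.Prime.primeFactors (by norm_num : (13 : ℕ).Prime), Nat.Prime.primeFactors (by norm_num : (17 : ℕ).Prime),
      Nat.Prime.primeFactors (by norm_num : (19 : ℕ).Prime), Nat.Prime.primeFactors (by norm_num : (23 : ℕ).Prime),
      Nat.Prime.primeFactors (by norm_num : (31 : ℕ).Prime), Nat.Prime.primeFactors (by norm_num : (47 : ℕ).Prime)] at h1
    simp at h1; omega
  by_cases hp2 : p = 2
  · subst hp2
    by_cases hq11 : q = 11
    · subst hq11
      obtain ⟨b, hb, hcb⟩ := exists_seven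
      exact RegB.of_dvd (a := 1) hq (by rw [hb]; norm_num) hcb (by rw [hN]; norm_num) (by norm_num)
    · obtain ⟨b, hb, hcb⟩ := exists_five
      have hgen : ∀ a : ℕ, q ^ a ∣ Nat.card Spor.BabyMonster → ¬ q ^ a ∣ 5 * 177408000 → ¬ q ^ a ∣ 5 * 3686400 →
          RegB Spor.BabyMonster 2 q := by
        intro a ha h1 h2
        rcases hcb with h | h
        · exact RegB.of_dvd hq (by rw [hb]; norm_num) h ha h1
        · exact RegB.of_dvd hq (by rw [hb]; norm_num) h ha h2
      rcases hqc with rfl | rfl | rfl | rfl | rfl | rfl | rfl | rfl | rfl | rfl | rfl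
      · exact absurd rfl hpq
      · exact hgen 13 (by rw [hN]; norm_num) (by norm_num) (by norm_num)
      · exact hgen 6 (by rw [hN]; norm_num) (by norm_num) (by norm_num)
      · exact hgen 2 (by rw [hN]; norm_num) (by norm_num) (by norm_num)
      · exact absurd rfl hq11
      all_goals exact hgen 1 (by rw [hN]; norm_num) (by norm_num) (by norm_num)
  · have hpu : ¬ p ∣ orderOf u := by
      rw [hu]
      exact fun h => hp2 ((Nat.prime_dvd_prime_iff_eq hp Nat.prime_two).1 (hp.dvd_of_dvd_pow h))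
    have hpt : ¬ p ∣ orderOf t := by
      rw [ht]
      exact fun h => hp2 ((Nat.prime_dvd_prime_iff_eq hp Nat.prime_two).1 h)
    have hgen : (q = 7 ∨ 11 ≤ q) → RegB Spor.BabyMonster p q := by
      intro h7
      refine RegB.of_pow (a := 1) hq hpu (by rwa [pow_one]) fun hc => ?_
      rw [pow_one] at hc
      have : Fact q.Prime := ⟨hq⟩
      obtain ⟨x, hx⟩ := exists_prime_orderOf_dvd_card' q hc
      exact key q hq h7 x (by rw [Subgroup.orderOf_coe, hx]) (mem_centralizer_singleton_iff.1 x.2)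
    rcases hqc with rfl | rfl | rfl | rfl | rfl | rfl | rfl | rfl | rfl | rfl | rfl
    · by_cases hp47 : p = 47
      · subst hp47
        exact RegB.two_of_na hp (by norm_num : (31 : ℕ).Prime) (by norm_num) (by norm_num) (by rw [hN]; norm_num)
          (by rw [hN]; norm_num) h31
      · exact RegB.two_of_na hp (by norm_num : (47 : ℕ).Prime) (Ne.symm hp47) (by norm_num) (by rw [hN]; norm_num)
          (by rw [hN]; norm_num) h47
    · exact RegB.of_dvd (a := 13) hq hpt (dvd_of_eq hct) (by rw [hN]; norm_num) (by norm_num)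
    · exact RegB.of_dvd (a := 6) hq hpt (dvd_of_eq hct) (by rw [hN]; norm_num) (by norm_num)
    all_goals exact hgen (by norm_num)

/-- **Task 2210.** -/
theorem regAll_b {G : Type*} [Group G] [Finite G] (h : Cfsg.Spor.IsoB G) : RegAll G := by
  obtain ⟨e⟩ := h
  exact regAll_model.congr e.symm

end Cfsg.Agent.H991.RegBaby
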