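import Cfsg.Agent.H584.NC.PIBasic
import Cfsg.Agent.BpAlt.Row

/-!
# S4386: degree 5 (helper991, task 516)
-/

set_option autoImplicit false

namespace Cfsg.Agent.H991.NCF

open Subgroup Cfsg.Agent.H584.NC

universe u

theorem card_ge {S : Type u} [Group S] [Finite S] (h : ¬ Group.IsSolvable S) : 60 ≤ Nat.card S := by
  by_contra hcon
  exact h (Cfsg.Agent.BpAlt.solvable_of_lt _ S rfl (by omega))

/-- a simple group which is not solvable has trivial image in a commutative group -/
theorem hom_trivial {S : Type u} [Group S] (hs : IsSimpleGroup S) (h : ¬ Group.IsSolvable S) {A : Type*} [CommGroup A]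
    (f : S →* A) (x : S) : f x = 1 := by
  rcases (inferInstance : f.ker.Normal).eq_bot_or_eq_top with h1 | h1
  · exfalso
    apply h
    exact Group.isSolvable_of_isSolvable_injective ((MonoidHom.ker_eq_bot_iff f).1 h1)
  · have : x ∈ f.ker := by rw [h1]; exact mem_top x
    exact this

theorem five {G : Type u} [Group G] [Finite G] {S M : Subgroup G} (h : PI S M 5) :
    Nonempty (G ≃* alternatingGroup (Fin 5)) ∨ (S.index = 2 ∧ Nonempty (S ≃* alternatingGroup (Fin 5))) := by
  classical
  have hf := h.faithful h.M_ne_top h.sup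
  have hcard : Nat.card (G ⧸ M) = 5 := h.card_points
  have hfin : Finite (G ⧸ M) := inferInstance
  have e : (G ⧸ M) ≃ Fin 5 := Finite.equivFinOfCardEq hcard
  let f : G →* Equiv.Perm (Fin 5) := e.permCongrHom.toMonoidHom.comp (MulAction.toPermHom G (G ⧸ M))
  have hfi : Function.Injective f := e.permCongrHom.injective.comp MulAction.toPerm_injective
  have hS : ∀ x ∈ S, f x ∈ alternatingGroup (Fin 5) := by
    intro x hx
    exact hom_trivial h.simple h.nonsol ((Equiv.Perm.sign.comp f).comp S.subtype) ⟨x, hx⟩
  let g : S →* alternatingGroup (Fin 5) := (f.comp S.subtype).codRestrict _ (fun x => hS x x.2)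
  have hgi : Function.Injective g := by
    intro a b hab
    exact Subtype.ext (hfi (congrArg Subtype.val hab))
  have h60 : Nat.card (alternatingGroup (Fin 5)) = 60 := by
    rw [nat_card_alternatingGroup, Nat.card_eq_fintype_card (α := Fin 5), Fintype.card_fin]
    rfl
  have hgb : Function.Bijective g := by
    rw [Nat.bijective_iff_injective_and_card]
    refine ⟨hgi, ?_⟩
    have h1 := card_ge h.nonsol
    have h2 := Nat.card_le_card_of_injective g hgi
    omega
  have eS : S ≃* alternatingGroup (Fin 5) := MulEquiv.ofBijective g hgb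
  have hGle : Nat.card G ≤ 120 := by
    have h1 := Nat.card_le_card_of_injective f hfi
    rw [Nat.card_perm, Nat.card_eq_fintype_card (α := Fin 5), Fintype.card_fin] at h1
    exact h1
  have hSc : Nat.card S = 60 := by rw [Nat.card_congr eS.toEquiv, h60]
  have hidx := S.card_mul_index
  rw [hSc] at hidx
  have hpos := Nat.card_pos (α := G)
  have : S.index = 1 ∨ S.index = 2 := by
    rcases Nat.lt_or_ge S.index 3 with h1 | h1
    · interval_cases hi : S.index
      · omega
      · exact Or.inl rfl
      · exact Or.inr rfl
    · omega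
  rcases this with h1 | h1
  · left
    rw [index_eq_one] at h1
    subst h1
    exact ⟨topEquiv.symm.trans eS⟩
  · exact Or.inr ⟨h1, ⟨eS⟩⟩

end Cfsg.Agent.H991.NCF
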