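import Cfsg.Agent.H584.NC.PIBasic
import Cfsg.Agent.H991.NCFive
import Cfsg.Agent.StandardComponent.AltAut
import Cfsg.Agent.OddCyclic.EmpFFAlt
import Cfsg.Agent.S0254
import Mathlib.GroupTheory.Perm.ViaEmbedding

/-!
# S4386: alternating groups (helper991, tasks 514, 515)
-/

set_option autoImplicit false

namespace Cfsg.Agent.H991.NCF

open Subgroup Cfsg.Agent.H584.NC

universe u

/-- an element of order three of `A_4` -/
def x4 : alternatingGroup (Fin 4) := ⟨Equiv.swap 0 1 * Equiv.swap 1 2, Equiv.Perm.mem_alternatingGroup.2 (by decide)⟩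

/-- an element of order two of `A_4` -/
def y4 : alternatingGroup (Fin 4) := ⟨Equiv.swap 0 1 * Equiv.swap 2 3, Equiv.Perm.mem_alternatingGroup.2 (by decide)⟩

/-- the four-group of `A_4` -/
def Y4 : Subgroup (alternatingGroup (Fin 4)) where
  carrier := {x | x * x = 1}
  one_mem' := by decide
  mul_mem' := by
    intro a b
    revert a b
    decide
  inv_mem' := by
    intro a
    revert a
    decide

theorem orderOf_x4 : orderOf x4 = 3 := by
  apply orderOf_eq_prime
  · decide
  · decide

/-- `A_4` is not 2-nilpotent. -/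
theorem not_nc_A4 : ¬ NC (alternatingGroup (Fin 4)) := by
  intro h
  have hY : IsPGroup 2 Y4 := by
    intro y
    exact ⟨1, Subtype.ext (by rw [pow_one, pow_two]; exact y.2)⟩
  have h1 := h.comm hY (x := x4) (y := y4)
    (by rw [orderOf_x4]; norm_num)
    (by
      intro y hy
      change y * y = 1 at hy
      change x4 * y * x4⁻¹ * (x4 * y * x4⁻¹) = (1 : alternatingGroup (Fin 4))
      calc _ = x4 * (y * y) * x4⁻¹ := by group
        _ = 1 := by rw [hy]; group)
    (by
      change y4 * y4 = 1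
      decide)
  revert h1
  decide

section emb

variable {Ω : Type u} [Fintype Ω] [DecidableEq Ω]

/-- the embedding of `A_4` -/
noncomputable def emb4 (ι : Fin 4 ↪ Ω) : alternatingGroup (Fin 4) →* alternatingGroup Ω :=
  ((Equiv.Perm.viaEmbeddingHom ι).comp (alternatingGroup (Fin 4)).subtype).codRestrict _ (by
    intro x
    change Equiv.Perm.sign (Equiv.Perm.viaEmbeddingHom ι (x : Equiv.Perm (Fin 4))) = 1
    rw [Equiv.Perm.viaEmbeddingHom_apply]
    unfold Equiv.Perm.viaEmbedding
    rw [Equiv.Perm.sign_extendDomain]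
    exact x.2)

theorem emb4_injective (ι : Fin 4 ↪ Ω) : Function.Injective (emb4 ι) := by
  intro a b h
  exact Subtype.ext (Equiv.Perm.viaEmbeddingHom_injective ι (congrArg Subtype.val h))

theorem emb4_apply (ι : Fin 4 ↪ Ω) (a : alternatingGroup (Fin 4)) {x : Ω} (hx : x ∉ Set.range ι) :
    (emb4 ι a : Equiv.Perm Ω) x = x := by
  change Equiv.Perm.viaEmbeddingHom ι (a : Equiv.Perm (Fin 4)) x = x
  rw [Equiv.Perm.viaEmbeddingHom_apply]
  exact Equiv.Perm.viaEmbedding_apply_of_notMem _ ι x hx

/-- transitivity of the alternating group -/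
theorem alt_transitive (h3 : 3 ≤ Fintype.card Ω) (a b : Ω) : ∃ t : alternatingGroup Ω, (t : Equiv.Perm Ω) a = b := by
  by_cases hab : a = b
  · exact ⟨1, hab⟩
  · obtain ⟨c, hc⟩ : ∃ c, c ∉ ({a, b} : Finset Ω) := by
      by_contra hcon
      push Not at hcon
      have h1 := Finset.card_le_card (fun x _ => hcon x : (Finset.univ : Finset Ω) ⊆ {a, b})
      have h2 := Finset.card_le_two (a := a) (b := b)
      rw [Finset.card_univ] at h1
      omega
    rw [Finset.mem_insert, Finset.mem_singleton, not_or] at hc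
    refine ⟨⟨Equiv.swap a c * Equiv.swap a b, ?_⟩, ?_⟩
    · change Equiv.Perm.sign _ = 1
      rw [map_mul, Equiv.Perm.sign_swap hab, Equiv.Perm.sign_swap (Ne.symm hc.1)]
      rfl
    · change Equiv.swap a c (Equiv.swap a b a) = b
      rw [Equiv.swap_apply_left, Equiv.swap_apply_of_ne_of_ne (Ne.symm hab) (Ne.symm hc.2)]

end emb

theorem altLoc {S : Type u} [Group S] [Finite S] (h : Loc S) (hS : Cfsg.IsAlternating S) : IsL2 S := by
  classical
  obtain ⟨n, hn, ⟨e⟩⟩ := hS
  by_cases h6 : n = 6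
  · subst h6
    have : Fact (Nat.Prime 3) := ⟨by norm_num⟩
    let _ := Fintype.ofFinite (GaloisField 3 2)
    have hc : Fintype.card (GaloisField 3 2) = 9 := by
      rw [← Nat.card_eq_fintype_card, GaloisField.card 3 2 (by norm_num)]
      norm_num
    obtain ⟨e'⟩ := S0254.result hc
    exact ⟨GaloisField 3 2, inferInstance, inferInstance, Or.inl ⟨3, 1, by norm_num, by norm_num, le_rfl, by
      rw [hc]; norm_num⟩, ⟨e.trans e'.symm⟩⟩
  exfalso
  have hconj : ∀ a : MulAut (alternatingGroup (Fin n)), ∃ σ : Equiv.Perm (Fin n), ∀ x : alternatingGroup (Fin n),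
      (a x : Equiv.Perm (Fin n)) = σ * x * σ⁻¹ := by
    intro a
    by_cases h5 : n = 5
    · subst h5
      exact Cfsg.Agent.OddCyclic.EmpFFAlt.exists_conj a
    · obtain ⟨m, rfl⟩ : ∃ m, n = m + 2 := ⟨n - 2, by omega⟩
      exact Cfsg.Agent.StandardComponent.AltAut.exists_conj (by omega) a
  obtain ⟨p, hp⟩ : ∃ p : Fin n, p = ⟨0, by omega⟩ := ⟨_, rfl⟩
  let H0 : Subgroup (alternatingGroup (Fin n)) :=
    { carrier := {x | (x : Equiv.Perm (Fin n)) p = p}
      one_mem' := rfl
      mul_mem' := by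
        intro a b (ha : (a : Equiv.Perm (Fin n)) p = p) (hb : (b : Equiv.Perm (Fin n)) p = p)
        change (a : Equiv.Perm (Fin n)) ((b : Equiv.Perm (Fin n)) p) = p
        rw [hb, ha]
      inv_mem' := by
        intro a (ha : (a : Equiv.Perm (Fin n)) p = p)
        change (a : Equiv.Perm (Fin n))⁻¹ p = p
        rw [Equiv.Perm.inv_eq_iff_eq]
        exact ha.symm }
  have hH0 : ∀ x, x ∈ H0 ↔ (x : Equiv.Perm (Fin n)) p = p := fun _ => Iff.rfl
  have hcard : 3 ≤ Fintype.card (Fin n) := by rw [Fintype.card_fin]; omega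
  have hnc : NC (H0.comap e.toMonoidHom) := by
    refine h.star _ ?_ ?_
    · intro h1
      obtain ⟨t, ht⟩ := alt_transitive hcard p ⟨1, by omega⟩
      have h2 : e.symm t ∈ H0.comap e.toMonoidHom := by rw [h1]; exact mem_top _
      rw [mem_comap, hH0] at h2
      change ((e (e.symm t) : alternatingGroup (Fin n)) : Equiv.Perm (Fin n)) p = p at h2
      rw [e.apply_symm_apply, ht, hp] at h2
      simp at h2
    · intro α
      obtain ⟨σ, hσ⟩ := hconj ((e.symm.trans α).trans e)
      obtain ⟨t, ht⟩ := alt_transitive hcard p (σ p)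
      refine ⟨e.symm t, ?_⟩
      ext x
      have key : ∀ g : Equiv.Perm (Fin n), ((g * (e x : Equiv.Perm (Fin n)) * g⁻¹) p = p ↔
          (e x : Equiv.Perm (Fin n)) (g⁻¹ p) = g⁻¹ p) := by
        intro g
        change g ((e x : Equiv.Perm (Fin n)) (g⁻¹ p)) = p ↔ _
        rw [← Equiv.Perm.eq_inv_iff_eq]
      have e1 : x ∈ (H0.comap e.toMonoidHom).map α.toMonoidHom ↔ (e x : Equiv.Perm (Fin n)) (σ p) = σ p := by
        rw [mem_map_equiv, mem_comap, hH0]
        have e2 : ((e (α.symm x) : alternatingGroup (Fin n)) : Equiv.Perm (Fin n)) =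
            σ⁻¹ * (e x : Equiv.Perm (Fin n)) * σ⁻¹⁻¹ := by
          have e3 := hσ (e (α.symm x))
          change ((e (α (e.symm (e (α.symm x)))) : alternatingGroup (Fin n)) : Equiv.Perm (Fin n)) = _ at e3
          rw [e.symm_apply_apply, MulEquiv.apply_symm_apply] at e3
          rw [e3]
          group
        change ((e (α.symm x) : alternatingGroup (Fin n)) : Equiv.Perm (Fin n)) p = p ↔ _
        rw [e2, key, inv_inv]
      have e1' : x ∈ (H0.comap e.toMonoidHom).map (MulAut.conj (e.symm t)).toMonoidHom ↔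
          (e x : Equiv.Perm (Fin n)) (t.1 p) = t.1 p := by
        rw [mem_map_equiv, mem_comap, hH0]
        change ((e ((MulAut.conj (e.symm t))⁻¹ x) : alternatingGroup (Fin n)) : Equiv.Perm (Fin n)) p = p ↔ _
        rw [MulAut.conj_inv_apply, map_mul, map_mul, map_inv, e.apply_symm_apply]
        change (t.1⁻¹ * (e x : Equiv.Perm (Fin n)) * t.1) p = p ↔ _
        have := key t.1⁻¹
        rwa [inv_inv] at this
      rw [e1, e1', ht]
  -- `A_4`
  let ι : Fin 4 ↪ Fin n := ⟨fun i => ⟨i.1 + 1, by omega⟩, fun i j h => by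
    have := congrArg Fin.val h
    simp only at this
    exact Fin.ext (by omega)⟩
  apply not_nc_A4
  refine NC.of_injective (G := ↥(H0.comap e.toMonoidHom))
    ((e.symm.toMonoidHom.comp (emb4 ι)).codRestrict (H0.comap e.toMonoidHom) ?_) ?_ hnc
  · intro x
    rw [mem_comap, hH0]
    change ((e (e.symm (emb4 ι x)) : alternatingGroup (Fin n)) : Equiv.Perm (Fin n)) p = p
    rw [e.apply_symm_apply]
    refine emb4_apply ι x ?_
    rintro ⟨i, hi⟩
    have := congrArg Fin.val hi
    rw [hp] at this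
    exact absurd this (Nat.succ_ne_zero _)
  · intro a b hab
    exact emb4_injective ι (e.symm.injective (congrArg Subtype.val hab))

end Cfsg.Agent.H991.NCF
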