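import Cfsg.Agent.H584.NC.Basic
import Cfsg.Agent.TitsK.ParB
import Cfsg.Agent.TitsK.Inst

/-!
# S4386: the Tits group (helper991, task 517)
-/

set_option autoImplicit false

namespace Cfsg.Agent.H991.NCF

open Subgroup Cfsg.Agent.H584.NC Cfsg.Agent.TitsK
open Cfsg.Agent.FourTwo.Base (LL)

universe u


theorem conj_comm_aux {G : Type*} [Group G] {g a b : G} (h : a * b = b * a) :
    g * a * g⁻¹ * (g * b * g⁻¹) = g * b * g⁻¹ * (g * a * g⁻¹) := by
  calc g * a * g⁻¹ * (g * b * g⁻¹) = g * (a * b) * g⁻¹ := by group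
    _ = g * (b * a) * g⁻¹ := by rw [h]
    _ = _ := by group

theorem comm_of_conj_aux {G : Type*} [Group G] {x z : G} (h : x * z * x⁻¹ = z) : x * z = z * x :=
  mul_inv_eq_iff_eq_mul.1 h

theorem end_aux {G : Type*} [Group G] {x j z : G} (h5 : x ^ 5 = 1) (hz : z * z = 1) (hj : j * j = z)
    (hjx : j * x = x * j) (h : x * x = 1 ∨ (j * x) * (j * x) = 1) : x = 1 := by
  have key : x * x * (x * x) = 1 → x = 1 := by
    intro h1
    calc x = x ^ 5 * (x * x * (x * x))⁻¹ := by group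
      _ = 1 := by rw [h5, h1, inv_one, mul_one]
  rcases h with h | h
  · exact key (by rw [h, mul_one])
  · have h3 : z * (x * x) = 1 := by
      rw [← h, ← hj]
      calc (j * j) * (x * x) = j * (j * x) * x := by simp only [mul_assoc]
        _ = j * (x * j) * x := by rw [hjx]
        _ = _ := by simp only [mul_assoc]
    have h4 : x * x = z := by
      calc x * x = (z * z) * (x * x) := by rw [hz, one_mul]
        _ = z * (z * (x * x)) := by rw [mul_assoc]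
        _ = z := by rw [h3, mul_one]
    exact key (by rw [h4, hz])

/-- the argument in an abstract group -/
theorem tits_aux {S : Type u} [Group S] [Finite S] (h : Loc S) {L : Type*} [Group L] {UT TT AA : Subgroup L}
    {xf z : L} (e : S ≃* ↥TT) (isPGroup_UT : IsPGroup 2 UT) (odd_ST : ¬ 2 ∣ (UT ⊓ TT).relIndex TT)
    (cent_S : ∀ u ∈ UT, (∀ c ∈ UT ⊓ TT, u * c = c * u) → u = 1 ∨ u = z) (xf_mem_TT : xf ∈ TT)
    (xf_pow5 : xf ^ 5 = 1) (z_conj : xf * z * xf⁻¹ = z) (AA_le_UT : AA ≤ UT) (AA_le_TT : AA ≤ TT)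
    (hzA : ∀ a ∈ AA, a * z = z * a) (hxA : ∀ a ∈ AA, xf * a * xf⁻¹ ∈ AA) : ∀ a ∈ AA, xf * a = a * xf := by
  have hfin : Finite ↥TT := Finite.of_equiv S e.toEquiv
  obtain ⟨w, Q, hw2, hwQ, hwc, hnc⟩ := h.exists_z
  have hf2 := Fact.mk Nat.prime_two
  -- the Sylow subgroup
  have hP : IsPGroup 2 ((UT ⊓ TT).subgroupOf TT) :=
    (isPGroup_UT.to_le inf_le_left).comap_of_injective TT.subtype (Subgroup.subtype_injective _)
  let P1 : Sylow 2 ↥TT := hP.toSylow odd_ST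
  let P2 : Sylow 2 ↥TT := Q.mapSurjective (f := e.toMonoidHom) e.surjective
  obtain ⟨g, hg⟩ := MulAction.exists_smul_eq ↥TT P2 P1
  have hmemP2 : ∀ x ∈ Q, g * e x * g⁻¹ ∈ P1 := by
    intro x hx
    rw [← hg]
    change g * e x * g⁻¹ ∈ ((g • P2 : Sylow 2 ↥TT) : Subgroup ↥TT)
    rw [Sylow.coe_subgroup_smul]
    exact ⟨e x, ⟨x, hx, rfl⟩, rfl⟩
  have hmemP1 : ∀ y ∈ P1, ∃ x ∈ Q, g * e x * g⁻¹ = y := by
    intro y hy
    have hy' : y ∈ ((g • P2 : Sylow 2 ↥TT) : Subgroup ↥TT) := by rw [hg]; exact hy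
    rw [Sylow.coe_subgroup_smul] at hy'
    obtain ⟨_, ⟨x, hx, rfl⟩, rfl⟩ := hy'
    exact ⟨x, hx, rfl⟩
  have hmem1 : ∀ y : ↥TT, y ∈ P1 ↔ (y : L) ∈ UT ⊓ TT := fun y => Iff.rfl
  obtain ⟨z', hz'⟩ : ∃ z' : ↥TT, z' = g * e w * g⁻¹ := ⟨_, rfl⟩
  have hz1 : (z' : L) = 1 ∨ (z' : L) = z := by
    have h1 : (z' : L) ∈ UT ⊓ TT := (hmem1 _).1 (hz' ▸ hmemP2 w hwQ)
    refine cent_S _ h1.1 ?_
    intro c hc
    obtain ⟨x, hx, hxc⟩ := hmemP1 ⟨c, hc.2⟩ ((hmem1 _).2 hc)
    have h3 : z' * ⟨c, hc.2⟩ = ⟨c, hc.2⟩ * z' := by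
      rw [← hxc, hz']
      have := congrArg e (hwc x hx)
      rw [map_mul, map_mul] at this
      exact conj_comm_aux this
    exact congrArg Subtype.val h3
  have hz2 : (z' : L) = z := by
    refine hz1.resolve_left ?_
    intro h1
    have h2 : z' = 1 := Subtype.ext h1
    rw [hz'] at h2
    have h3 : e w = 1 := by
      calc e w = g⁻¹ * (g * e w * g⁻¹) * g := by group
        _ = 1 := by rw [h2]; group
    have h4 : w = 1 := e.injective (h3.trans (map_one e).symm)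
    rw [h4, orderOf_one] at hw2
    omega
  -- the pull back
  have hback : ∀ y : ↥TT, ∃ x : S, g * e x * g⁻¹ = y := by
    intro y
    obtain ⟨x, hx⟩ := e.surjective (g⁻¹ * y * g)
    exact ⟨x, by rw [hx]; group⟩
  let ρ : S →* L := (TT.subtype.comp (MulAut.conj g).toMonoidHom).comp e.toMonoidHom
  have hρ : ∀ x, ρ x = ((g * e x * g⁻¹ : ↥TT) : L) := fun _ => rfl
  have hρi : Function.Injective ρ := by
    intro a b hab
    exact e.injective ((MulAut.conj g).injective (Subtype.ext hab))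
  have hρw : ρ w = z := by rw [hρ, ← hz', hz2]
  obtain ⟨x, hx⟩ := hback ⟨xf, xf_mem_TT⟩
  have hρx : ρ x = xf := by rw [hρ, hx]
  have hx5 : x ^ 5 = 1 := hρi (by rw [map_pow, hρx, xf_pow5, map_one])
  have hxo : ¬ 2 ∣ orderOf x := by
    intro h1
    have h2 := h1.trans (orderOf_dvd_of_pow_eq_one hx5)
    omega
  have hxz : x ∈ centralizer ({w} : Set S) := by
    rw [mem_centralizer_singleton_iff]
    apply hρi
    rw [map_mul, map_mul, hρx, hρw]
    exact comm_of_conj_aux z_conj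
  have hY : IsPGroup 2 (AA.comap ρ) := (isPGroup_UT.to_le AA_le_UT).comap_of_injective ρ hρi
  have hYle : AA.comap ρ ≤ centralizer ({w} : Set S) := by
    intro y hy
    rw [mem_centralizer_singleton_iff]
    apply hρi
    rw [map_mul, map_mul, hρw]
    exact hzA _ hy
  have hcomm := fun y hy => hnc.comm' hYle hY hxz hxo (fun y hy => by
    rw [mem_comap] at hy ⊢
    rw [map_mul, map_mul, map_inv, hρx]
    exact hxA _ hy) (y := y) hy
  intro a ha
  obtain ⟨y, hy⟩ := hback ⟨a, AA_le_TT ha⟩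
  have h1 : ρ y = a := by rw [hρ, hy]
  have h2 := hcomm y (by rw [mem_comap, h1]; exact ha)
  have h3 := congrArg ρ h2
  rwa [map_mul, map_mul, hρx, h1] at h3

theorem not_tits {S : Type u} [Group S] [Finite S] (h : Loc S) : ¬ Cfsg.Lie.IsoTits S := by
  rintro ⟨e0⟩
  obtain ⟨f⟩ := Cfsg.Agent.TitsK.exists_equiv
  have hall := tits_aux h (e0.trans f) isPGroup_UT odd_ST tdata.cent_S xf_mem_TT xf_pow5 (z_conj_Pz xf_mem_Pz)
    AA_le_UT AA_le_TT (fun a ha => AA_comm ha z_mem_AA) (fun a ha => xf_conj_AA ha)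
  refine xf_ne (end_aux xf_pow5 z_sq jf_sq jf_comm_xf ?_)
  rcases cent_AA xf_mem_HT hall with h1 | h1
  · exact Or.inl (AA_sq h1)
  · exact Or.inr (AA_sq h1)

end Cfsg.Agent.H991.NCF
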