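import Cfsg.Agent.H991.NCAlt

/-!
# S4386: alternating groups of prime degree (helper991, task 515)
-/

set_option autoImplicit false

namespace Cfsg.Agent.H991.NCF

open Subgroup Cfsg.Agent.H584.NC
open scoped Pointwise

universe u

section alt

variable {Ω : Type u} [Fintype Ω] [DecidableEq Ω]

theorem exists_notMem {T : Finset Ω} {k : ℕ} (hT : T.card ≤ k) (h : k < Fintype.card Ω) : ∃ c, c ∉ T := by
  by_contra hcon
  push Not at hcon
  have h1 := Finset.card_le_card (fun x _ => hcon x : (Finset.univ : Finset Ω) ⊆ T)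
  rw [Finset.card_univ] at h1
  omega

/-- an even permutation with the same values at two points -/
theorem even_two (h4 : 4 ≤ Fintype.card Ω) (g : Equiv.Perm Ω) (a b : Ω) :
    ∃ t : alternatingGroup Ω, (t : Equiv.Perm Ω) a = g a ∧ (t : Equiv.Perm Ω) b = g b := by
  rcases Int.units_eq_one_or (Equiv.Perm.sign g) with h | h
  · exact ⟨⟨g, h⟩, rfl, rfl⟩
  · obtain ⟨c, hc⟩ := exists_notMem (T := {a, b}) Finset.card_le_two (by omega)
    obtain ⟨d, hd⟩ := exists_notMem (T := {a, b, c}) Finset.card_le_three (by omega)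
    simp only [Finset.mem_insert, Finset.mem_singleton, not_or] at hc hd
    refine ⟨⟨g * Equiv.swap c d, ?_⟩, ?_, ?_⟩
    · change Equiv.Perm.sign _ = 1
      rw [map_mul, h, Equiv.Perm.sign_swap (Ne.symm hd.2.2)]
      rfl
    · change g (Equiv.swap c d a) = g a
      rw [Equiv.swap_apply_of_ne_of_ne (Ne.symm hc.1) (Ne.symm hd.1)]
    · change g (Equiv.swap c d b) = g b
      rw [Equiv.swap_apply_of_ne_of_ne (Ne.symm hc.2) (Ne.symm hd.2.1)]

end alt

theorem altPI {G : Type u} [Group G] [Finite G] {S M : Subgroup G} {r : ℕ} (h : PI S M r)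
    (e : Nonempty (S ≃* alternatingGroup (Fin r))) : r = 5 := by
  classical
  obtain ⟨e⟩ := e
  by_contra h5
  have hr2 := h.prime.two_le
  have hntr : Nontrivial (Fin r) := Fin.nontrivial_iff_two_le.2 hr2
  have hS60 := card_ge h.nonsol
  have hScard : Nat.card S = r.factorial / 2 := by
    rw [Nat.card_congr e.toEquiv, nat_card_alternatingGroup, Nat.card_eq_fintype_card (α := Fin r), Fintype.card_fin]
  have hr7 : 7 ≤ r := by
    by_contra hcon
    have hr := h.prime
    have : r ≤ 6 := by omega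
    rw [hScard] at hS60
    interval_cases r
    · norm_num [Nat.factorial] at hS60
    · norm_num [Nat.factorial] at hS60
    · exact absurd hr (by norm_num)
    · exact h5 rfl
    · exact absurd hr (by norm_num)
  have := h.faithful h.M_ne_top h.sup
  have hcard : Nat.card (G ⧸ M) = r := h.card_points
  let _ : Fintype (G ⧸ M) := Fintype.ofFinite _
  have hfc : Fintype.card (G ⧸ M) = r := by rw [← Nat.card_eq_fintype_card]; exact hcard
  have hnt : Nontrivial (G ⧸ M) := Fintype.one_lt_card_iff_nontrivial.1 (by omega)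
  -- `S` is the alternating group
  let f : S →* alternatingGroup (G ⧸ M) := ((MulAction.toPermHom G (G ⧸ M)).comp S.subtype).codRestrict _ (by
    intro x
    exact hom_trivial h.simple h.nonsol ((Equiv.Perm.sign.comp (MulAction.toPermHom G (G ⧸ M))).comp S.subtype) x)
  have hfi : Function.Injective f := by
    intro a b hab
    have h1 : MulAction.toPermHom G (G ⧸ M) a = MulAction.toPermHom G (G ⧸ M) b := congrArg Subtype.val hab
    exact Subtype.ext (MulAction.toPerm_injective h1)
  have hfb : Function.Bijective f := by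
    rw [Nat.bijective_iff_injective_and_card]
    refine ⟨hfi, ?_⟩
    rw [hScard, nat_card_alternatingGroup, hcard]
  let Ψ : S ≃* alternatingGroup (G ⧸ M) := MulEquiv.ofBijective f hfb
  have hΨ : ∀ (t : alternatingGroup (G ⧸ M)) (x : G ⧸ M), ((Ψ.symm t : S) : G) • x = (t : Equiv.Perm (G ⧸ M)) x := by
    intro t x
    have h1 : Ψ (Ψ.symm t) = t := Ψ.apply_symm_apply t
    have h2 : (f (Ψ.symm t) : Equiv.Perm (G ⧸ M)) = t := congrArg Subtype.val h1
    rw [← h2]
    rfl
  -- a pair of points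
  obtain ⟨a, b, hab⟩ := exists_pair_ne (G ⧸ M)
  have hpair : ∀ (g : G) (x y : G ⧸ M), g • ({x, y} : Finset (G ⧸ M)) = {g • x, g • y} := by
    intro g x y
    rw [Finset.smul_finset_insert, Finset.smul_finset_singleton]
  have htwo : ∀ (g : G) (x y : G ⧸ M), ∃ s ∈ S, s • x = g • x ∧ s • y = g • y := by
    intro g x y
    obtain ⟨t, h1, h2⟩ := even_two (by omega) (MulAction.toPermHom G (G ⧸ M) g) x y
    exact ⟨Ψ.symm t, (Ψ.symm t).2, by rw [hΨ, h1]; rfl, by rw [hΨ, h2]; rfl⟩
  obtain ⟨H, hH⟩ : ∃ H, H = MulAction.stabilizer G ({a, b} : Finset (G ⧸ M)) := ⟨_, rfl⟩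
  have hmem : ∀ g, g ∈ H ↔ ({g • a, g • b} : Finset (G ⧸ M)) = {a, b} := by
    intro g
    rw [hH, MulAction.mem_stabilizer_iff, hpair]
  have hsup : S ⊔ H = ⊤ := by
    rw [hH]
    apply PI.sup_of_orbit
    intro g
    obtain ⟨s, hs, h1, h2⟩ := htwo g a b
    exact ⟨s, hs, by rw [hpair, hpair, h1, h2]⟩
  -- elements of `H` from even permutations
  have hHt : ∀ t : alternatingGroup (G ⧸ M), ({(t : Equiv.Perm (G ⧸ M)) a, (t : Equiv.Perm (G ⧸ M)) b} :
      Finset (G ⧸ M)) = {a, b} → ((Ψ.symm t : S) : G) ∈ H := by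
    intro t ht
    rw [hmem, hΨ, hΨ]
    exact ht
  obtain ⟨c, hc⟩ := exists_notMem (T := ({a, b} : Finset (G ⧸ M))) Finset.card_le_two (by omega)
  simp only [Finset.mem_insert, Finset.mem_singleton, not_or] at hc
  have hne : H ≠ ⊤ := by
    intro h1
    have hne2 : Nontrivial (G ⧸ M) := hnt
    obtain ⟨t, h2⟩ := alt_transitive (by omega) a c
    have h3 : ((Ψ.symm t : S) : G) ∈ H := by rw [h1]; exact mem_top _
    rw [hmem, hΨ, h2] at h3
    have h4 : c ∈ ({a, b} : Finset (G ⧸ M)) := by rw [← h3]; simp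
    simp only [Finset.mem_insert, Finset.mem_singleton] at h4
    tauto
  have hnc : ¬ NC H := by
    intro h1
    -- four other points
    have h2 : 4 ≤ (Finset.univ \ ({a, b} : Finset (G ⧸ M))).card := by
      have h3 := Finset.le_card_sdiff ({a, b} : Finset (G ⧸ M)) Finset.univ
      have h4 := Finset.card_le_two (a := a) (b := b)
      rw [Finset.card_univ] at h3
      omega
    obtain ⟨T, hT, hTc⟩ := Finset.exists_subset_card_eq h2
    let κ : Fin 4 ↪ G ⧸ M := (T.equivFinOfCardEq hTc).symm.toEmbedding.trans (Function.Embedding.subtype _)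
    have hκ : ∀ x ∈ ({a, b} : Finset (G ⧸ M)), x ∉ Set.range κ := by
      rintro x hx ⟨i, rfl⟩
      have := hT ((T.equivFinOfCardEq hTc).symm i).2
      rw [Finset.mem_sdiff] at this
      exact this.2 hx
    apply not_nc_A4
    refine NC.of_injective (G := ↥H)
      ((S.subtype.comp (Ψ.symm.toMonoidHom.comp (emb4 κ))).codRestrict H ?_) ?_ h1
    · intro x
      apply hHt
      rw [emb4_apply κ x (hκ a (by simp)), emb4_apply κ x (hκ b (by simp))]
    · intro x y hxy
      have h6 := congrArg (fun z : H => (z : G)) hxy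
      exact emb4_injective κ (Ψ.symm.injective (Subtype.ext h6))
  obtain ⟨K, hK, hHK, hsupK, hKi, hKr⟩ := h.exists_over hnc hsup hne
  have hKt := h.not_transitive hKr
  -- `H` swaps `a` and `b` and is transitive on the other points
  have hswap : ∃ w ∈ H, w • a = b ∧ w • b = a := by
    obtain ⟨d, hd⟩ := exists_notMem (T := ({a, b, c} : Finset (G ⧸ M))) Finset.card_le_three (by omega)
    simp only [Finset.mem_insert, Finset.mem_singleton, not_or] at hd
    have ht : Equiv.swap a b * Equiv.swap c d ∈ alternatingGroup (G ⧸ M) := by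
      rw [Equiv.Perm.mem_alternatingGroup, map_mul, Equiv.Perm.sign_swap hab, Equiv.Perm.sign_swap (Ne.symm hd.2.2)]
      rfl
    have e1 : (Equiv.swap a b * Equiv.swap c d) a = b := by
      change Equiv.swap a b (Equiv.swap c d a) = b
      rw [Equiv.swap_apply_of_ne_of_ne (Ne.symm hc.1) (Ne.symm hd.1), Equiv.swap_apply_left]
    have e2 : (Equiv.swap a b * Equiv.swap c d) b = a := by
      change Equiv.swap a b (Equiv.swap c d b) = a
      rw [Equiv.swap_apply_of_ne_of_ne (Ne.symm hc.2) (Ne.symm hd.2.1), Equiv.swap_apply_right]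
    refine ⟨(Ψ.symm ⟨_, ht⟩ : S), hHt _ ?_, ?_, ?_⟩
    · change ({(Equiv.swap a b * Equiv.swap c d) a, (Equiv.swap a b * Equiv.swap c d) b} : Finset (G ⧸ M)) = _
      rw [e1, e2, Finset.pair_comm]
    · rw [hΨ]; exact e1
    · rw [hΨ]; exact e2
  have htr : ∀ y y' : G ⧸ M, y ∉ ({a, b} : Finset (G ⧸ M)) → y' ∉ ({a, b} : Finset (G ⧸ M)) →
      ∃ w ∈ H, w • y = y' := by
    intro y y' hy hy'
    by_cases hyy : y = y'
    · exact ⟨1, one_mem _, by rw [one_smul, hyy]⟩
    obtain ⟨d, hd⟩ := exists_notMem (T := ({a, b, y, y'} : Finset (G ⧸ M))) Finset.card_le_four (by omega)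
    simp only [Finset.mem_insert, Finset.mem_singleton, not_or] at hd hy hy'
    have ht : Equiv.swap y d * Equiv.swap y y' ∈ alternatingGroup (G ⧸ M) := by
      rw [Equiv.Perm.mem_alternatingGroup, map_mul, Equiv.Perm.sign_swap hyy, Equiv.Perm.sign_swap (Ne.symm hd.2.2.1)]
      rfl
    have e1 : (Equiv.swap y d * Equiv.swap y y') a = a := by
      change Equiv.swap y d (Equiv.swap y y' a) = a
      rw [Equiv.swap_apply_of_ne_of_ne (Ne.symm hy.1) (Ne.symm hy'.1),
        Equiv.swap_apply_of_ne_of_ne (Ne.symm hy.1) (Ne.symm hd.1)]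
    have e2 : (Equiv.swap y d * Equiv.swap y y') b = b := by
      change Equiv.swap y d (Equiv.swap y y' b) = b
      rw [Equiv.swap_apply_of_ne_of_ne (Ne.symm hy.2) (Ne.symm hy'.2),
        Equiv.swap_apply_of_ne_of_ne (Ne.symm hy.2) (Ne.symm hd.2.1)]
    have e3 : (Equiv.swap y d * Equiv.swap y y') y = y' := by
      change Equiv.swap y d (Equiv.swap y y' y) = y'
      rw [Equiv.swap_apply_left, Equiv.swap_apply_of_ne_of_ne (Ne.symm hyy) (Ne.symm hd.2.2.2)]
    refine ⟨(Ψ.symm ⟨_, ht⟩ : S), hHt _ ?_, ?_⟩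
    · change ({(Equiv.swap y d * Equiv.swap y y') a, (Equiv.swap y d * Equiv.swap y y') b} : Finset (G ⧸ M)) = _
      rw [e1, e2]
    · rw [hΨ]; exact e3
  -- `K = H`
  have hKH : K ≤ H := by
    intro k hk
    by_contra hkH
    apply hKt
    obtain ⟨w, hwH, hwa, hwb⟩ := hswap
    have h1 : ∃ k' ∈ K, k' • a ∉ ({a, b} : Finset (G ⧸ M)) := by
      by_contra hcon
      push Not at hcon
      apply hkH
      have h2 := hcon k hk
      have h3 := hcon (k * w) (K.mul_mem hk (hHK hwH))
      rw [mul_smul, hwa] at h3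
      rw [hmem]
      have h4 : k • a ≠ k • b := fun h => hab (smul_left_cancel k h)
      simp only [Finset.mem_insert, Finset.mem_singleton] at h2 h3
      rcases h2 with h2 | h2 <;> rcases h3 with h3 | h3
      · exact absurd (h2.trans h3.symm) h4
      · rw [h2, h3]
      · rw [h2, h3, Finset.pair_comm]
      · exact absurd (h2.trans h3.symm) h4
    obtain ⟨k', hk', hk'a⟩ := h1
    have key : ∀ y : G ⧸ M, ∃ s : K, s • a = y := by
      intro y
      by_cases hy : y ∈ ({a, b} : Finset (G ⧸ M))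
      · simp only [Finset.mem_insert, Finset.mem_singleton] at hy
        rcases hy with rfl | rfl
        · exact ⟨1, one_smul _ _⟩
        · exact ⟨⟨w, hHK hwH⟩, hwa⟩
      · obtain ⟨v, hv, hvy⟩ := htr _ _ hk'a hy
        refine ⟨⟨v * k', K.mul_mem (hHK hv) hk'⟩, ?_⟩
        change (v * k') • a = y
        rw [mul_smul, hvy]
    constructor
    intro x y
    obtain ⟨s, rfl⟩ := key x
    obtain ⟨t, rfl⟩ := key y
    exact ⟨t * s⁻¹, by rw [mul_smul, inv_smul_smul]⟩
  have hKe : K = H := le_antisymm hKH hHK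
  -- the index
  rw [hKe, hH] at hKi
  rw [MulAction.index_stabilizer] at hKi
  have h1 : ((Finset.powersetCard 2 (Finset.univ : Finset (G ⧸ M)) : Finset (Finset (G ⧸ M))) :
      Set (Finset (G ⧸ M))) ⊆ MulAction.orbit G ({a, b} : Finset (G ⧸ M)) := by
    intro T hT
    rw [Finset.mem_coe, Finset.mem_powersetCard] at hT
    obtain ⟨x, y, hxy, rfl⟩ := Finset.card_eq_two.1 hT.2
    obtain ⟨t, h2, h3⟩ := even_two (by omega) (Equiv.swap (Equiv.swap a x b) y * Equiv.swap a x) a b
    have e1 : (t : Equiv.Perm (G ⧸ M)) a = x := by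
      rw [h2]
      change Equiv.swap (Equiv.swap a x b) y (Equiv.swap a x a) = x
      rw [Equiv.swap_apply_left]
      apply Equiv.swap_apply_of_ne_of_ne _ hxy
      intro h4
      apply hab
      apply (Equiv.swap a x).injective
      rw [Equiv.swap_apply_left]
      exact h4
    have e2 : (t : Equiv.Perm (G ⧸ M)) b = y := by
      rw [h3]
      change Equiv.swap (Equiv.swap a x b) y (Equiv.swap a x b) = y
      rw [Equiv.swap_apply_left]
    refine ⟨(Ψ.symm t : S), ?_⟩
    change ((Ψ.symm t : S) : G) • ({a, b} : Finset (G ⧸ M)) = _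
    rw [hpair, hΨ, hΨ, e1, e2]
  have h2 := Set.ncard_le_ncard h1 (Set.toFinite _)
  rw [hKi, Set.ncard_coe_finset, Finset.card_powersetCard, Finset.card_univ, hfc, Nat.choose_two_right] at h2
  have h3 : r * 6 ≤ r * (r - 1) := Nat.mul_le_mul_left r (by omega)
  omega

end Cfsg.Agent.H991.NCF
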