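import Cfsg.Agent.H991.FourL4

/-!
# No 2-central four-group: five-dimensional groups (helper991)

Task 283 (for S3102).
-/

set_option autoImplicit false

namespace Cfsg.Agent.H991.FG

open Cfsg Matrix Subgroup Cfsg.Agent.HoltZ Cfsg.Agent.HoltZ.Psl

section emb

variable {F : Type*} [Field F]

/-- the 5 by 5 matrices -/
abbrev M5 (F : Type*) := Matrix (Fin 5) (Fin 5) F

/-- the index equivalence -/
abbrev e5 : Fin 4 ⊕ Fin 1 ≃ Fin 5 := finSumFinEquiv

/-- `SL_4 → SL_5`. -/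
def emb : SpecialLinearGroup (Fin 4) F →* SpecialLinearGroup (Fin 5) F where
  toFun A := ⟨(fromBlocks A.1 0 0 1).submatrix e5.symm e5.symm, by
    rw [det_submatrix_equiv_self, det_fromBlocks_zero₂₁, det_one, mul_one]
    exact A.2⟩
  map_one' := Subtype.ext (by
    show (fromBlocks (1 : Matrix (Fin 4) (Fin 4) F) 0 0 1).submatrix e5.symm e5.symm = 1
    rw [fromBlocks_one, submatrix_one_equiv])
  map_mul' A B := Subtype.ext (by
    show (fromBlocks (A.1 * B.1) 0 0 1).submatrix e5.symm e5.symm =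
      (fromBlocks A.1 0 0 1).submatrix e5.symm e5.symm * (fromBlocks B.1 0 0 1).submatrix e5.symm e5.symm
    rw [submatrix_mul_equiv, fromBlocks_multiply]
    simp)

theorem coe_emb (A : SpecialLinearGroup (Fin 4) F) :
    ((emb A : SpecialLinearGroup (Fin 5) F) : M5 F) = (fromBlocks A.1 0 0 1).submatrix e5.symm e5.symm := rfl

/-- the block swap -/
def sw4 : SpecialLinearGroup (Fin 4) F := ⟨!![0, 0, 1, 0; 0, 0, 0, 1; 1, 0, 0, 0; 0, 1, 0, 0], by
  simp [Matrix.det_succ_row_zero, Fin.sum_univ_succ, Fin.succAbove]⟩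

theorem coe_sw4 : ((sw4 : SpecialLinearGroup (Fin 4) F) : M4 F) =
  !![0, 0, 1, 0; 0, 0, 0, 1; 1, 0, 0, 0; 0, 1, 0, 0] := rfl

theorem sw4_mul_self : (sw4 : SpecialLinearGroup (Fin 4) F) * sw4 = 1 := by
  apply Subtype.ext
  rw [Matrix.SpecialLinearGroup.coe_mul, coe_sw4, Matrix.SpecialLinearGroup.coe_one]
  ext i j
  fin_cases i <;> fin_cases j <;> simp [Matrix.mul_apply, Fin.sum_univ_four]

theorem sw4_up (x y z w : F) (h : x * w - y * z = 1) : sw4 * up x y z w h = lo x y z w h * sw4 := by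
  apply Subtype.ext
  rw [Matrix.SpecialLinearGroup.coe_mul, Matrix.SpecialLinearGroup.coe_mul, coe_sw4, coe_up, coe_lo]
  ext i j
  fin_cases i <;> fin_cases j <;> simp [Matrix.mul_apply, Fin.sum_univ_four]

theorem sw4_lo (x y z w : F) (h : x * w - y * z = 1) : sw4 * lo x y z w h = up x y z w h * sw4 := by
  apply Subtype.ext
  rw [Matrix.SpecialLinearGroup.coe_mul, Matrix.SpecialLinearGroup.coe_mul, coe_sw4, coe_up, coe_lo]
  ext i j
  fin_cases i <;> fin_cases j <;> simp [Matrix.mul_apply, Fin.sum_univ_four]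

variable {r s : F} (hrs : r ^ 2 + s ^ 2 = -1)

/-- the product of two quaternion groups -/
def D0 : Subgroup (SpecialLinearGroup (Fin 4) F) :=
  closure ({up 0 1 (-1) 0 (by ring), up r s s (-r) (by linear_combination -hrs)} : Set _) ⊔
    closure ({lo 0 1 (-1) 0 (by ring), lo r s s (-r) (by linear_combination -hrs)} : Set _)

theorem isPGroup_D0 : IsPGroup 2 (D0 hrs) := by
  refine isPGroup_sup (isPGroup_up hrs) (isPGroup_lo hrs) (commute_closure ?_)
  rintro a (rfl | rfl) b (rfl | rfl) <;> exact up_mul_lo _ _ _ _ _ _ _ _ _ _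

theorem map_conj_D0 : (D0 hrs).map (MulAut.conj (sw4 : SpecialLinearGroup (Fin 4) F)).toMonoidHom ≤ D0 hrs := by
  unfold D0
  rw [Subgroup.map_sup, MonoidHom.map_closure, MonoidHom.map_closure, Set.image_pair, Set.image_pair, sup_comm]
  have e1 : ∀ (x y z w : F) (h : x * w - y * z = 1), (MulAut.conj (sw4 : SpecialLinearGroup (Fin 4) F)).toMonoidHom
      (up x y z w h) = lo x y z w h := fun x y z w h => mul_inv_eq_iff_eq_mul.2 (sw4_up x y z w h)
  have e2 : ∀ (x y z w : F) (h : x * w - y * z = 1), (MulAut.conj (sw4 : SpecialLinearGroup (Fin 4) F)).toMonoidHom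
      (lo x y z w h) = up x y z w h := fun x y z w h => mul_inv_eq_iff_eq_mul.2 (sw4_lo x y z w h)
  rw [e1, e1, e2, e2]

/-- the 2-group -/
def D4 : Subgroup (SpecialLinearGroup (Fin 4) F) := D0 hrs ⊔ zpowers sw4

theorem isPGroup_D4 : IsPGroup 2 (D4 hrs) := by
  refine IsPGroup.to_sup_of_normal_left' (isPGroup_D0 hrs) ?_ ?_
  · rintro ⟨g, k, rfl⟩
    refine ⟨1, Subtype.ext ?_⟩
    change ((sw4 : SpecialLinearGroup (Fin 4) F) ^ k) ^ (2 ^ 1) = 1
    rw [pow_one, ← zpow_natCast, ← _root_.zpow_mul, mul_comm, _root_.zpow_mul, zpow_natCast, pow_two, sw4_mul_self, _root_.one_zpow]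
  · have key : ∀ x ∈ D0 hrs, sw4 * x * sw4⁻¹ ∈ D0 hrs := fun x hx => map_conj_D0 hrs (mem_map_of_mem _ hx)
    rw [zpowers_le, mem_normalizer_iff]
    intro x
    refine ⟨key x, fun h => ?_⟩
    have h1 := key _ h
    have h2 : (sw4 : SpecialLinearGroup (Fin 4) F)⁻¹ = sw4 := inv_eq_of_mul_eq_one_left sw4_mul_self
    have h3 : sw4 * (sw4 * x * sw4⁻¹) * sw4⁻¹ = x := by
      rw [h2]
      calc sw4 * (sw4 * x * sw4) * sw4 = (sw4 * sw4) * x * (sw4 * sw4) := by simp only [mul_assoc]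
        _ = x := by rw [sw4_mul_self, one_mul, mul_one]
    rwa [h3] at h1

theorem up_mem_D4 : (up 0 1 (-1) 0 (by ring) : SpecialLinearGroup (Fin 4) F) ∈ D4 hrs :=
  mem_sup_left (mem_sup_left (subset_closure (by simp)))
theorem up_mem_D4' : (up r s s (-r) (by linear_combination -hrs) : SpecialLinearGroup (Fin 4) F) ∈ D4 hrs :=
  mem_sup_left (mem_sup_left (subset_closure (by simp)))
theorem lo_mem_D4 : (lo 0 1 (-1) 0 (by ring) : SpecialLinearGroup (Fin 4) F) ∈ D4 hrs :=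
  mem_sup_left (mem_sup_right (subset_closure (by simp)))
theorem lo_mem_D4' : (lo r s s (-r) (by linear_combination -hrs) : SpecialLinearGroup (Fin 4) F) ∈ D4 hrs :=
  mem_sup_left (mem_sup_right (subset_closure (by simp)))
theorem sw4_mem_D4 : (sw4 : SpecialLinearGroup (Fin 4) F) ∈ D4 hrs :=
  mem_sup_right (mem_zpowers _)

/-- the matrix `diag(-1, 1)` -/
def tau : M5 F := diagonal ![-1, -1, -1, -1, 1]

/-- the central element -/
def t4 : SpecialLinearGroup (Fin 4) F :=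
  up 0 1 (-1) 0 (by ring) * up 0 1 (-1) 0 (by ring) * (lo 0 1 (-1) 0 (by ring) * lo 0 1 (-1) 0 (by ring))

theorem t4_mem_D4 : (t4 : SpecialLinearGroup (Fin 4) F) ∈ D4 hrs :=
  mul_mem (mul_mem (up_mem_D4 hrs) (up_mem_D4 hrs)) (mul_mem (lo_mem_D4 hrs) (lo_mem_D4 hrs))

theorem coe_t4 : ((t4 : SpecialLinearGroup (Fin 4) F) : M4 F) = -1 := by
  unfold t4
  rw [Matrix.SpecialLinearGroup.coe_mul, Matrix.SpecialLinearGroup.coe_mul, Matrix.SpecialLinearGroup.coe_mul,
    coe_up, coe_lo]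
  ext i j
  fin_cases i <;> fin_cases j <;> simp [Matrix.mul_apply, Fin.sum_univ_four]

theorem coe_emb' (A : SpecialLinearGroup (Fin 4) F) :
    ((emb A : SpecialLinearGroup (Fin 5) F) : M5 F) = !![A.1 0 0, A.1 0 1, A.1 0 2, A.1 0 3, 0;
      A.1 1 0, A.1 1 1, A.1 1 2, A.1 1 3, 0; A.1 2 0, A.1 2 1, A.1 2 2, A.1 2 3, 0;
      A.1 3 0, A.1 3 1, A.1 3 2, A.1 3 3, 0; 0, 0, 0, 0, 1] := by
  rw [coe_emb]
  ext i j
  fin_cases i <;> fin_cases j <;> rfl

theorem emb_cc (A : SpecialLinearGroup (Fin 4) F) (i j : Fin 4) :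
    ((emb A : SpecialLinearGroup (Fin 5) F) : M5 F) (Fin.castSucc i) (Fin.castSucc j) = A.1 i j := by
  rw [coe_emb']
  fin_cases i <;> fin_cases j <;> rfl

theorem emb_lc (A : SpecialLinearGroup (Fin 4) F) (j : Fin 4) :
    ((emb A : SpecialLinearGroup (Fin 5) F) : M5 F) 4 (Fin.castSucc j) = 0 := by
  rw [coe_emb']
  fin_cases j <;> rfl

theorem emb_cl (A : SpecialLinearGroup (Fin 4) F) (j : Fin 4) :
    ((emb A : SpecialLinearGroup (Fin 5) F) : M5 F) (Fin.castSucc j) 4 = 0 := by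
  rw [coe_emb']
  fin_cases j <;> rfl

theorem coe_emb_t4 : ((emb t4 : SpecialLinearGroup (Fin 5) F) : M5 F) = tau := by
  rw [coe_emb', coe_t4]
  ext i j
  unfold tau
  fin_cases i <;> fin_cases j <;> simp

end emb

/-- what commutes with both quaternion groups and the swap is a scalar -/
theorem scalar_of_comm {F : Type*} [Field F] {x y : F} (h2 : (2 : F) ≠ 0) (hxy : x ^ 2 + y ^ 2 = -1) {z : M4 F}
    (h1 : z * uM 0 1 (-1) 0 = uM 0 1 (-1) 0 * z)
    (h1' : z * uM x y y (-x) = uM x y y (-x) * z)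
    (h3 : z * lM 0 1 (-1) 0 = lM 0 1 (-1) 0 * z)
    (h5 : z * !![0, 0, 1, 0; 0, 0, 0, 1; 1, 0, 0, 0; 0, 1, 0, 0] = !![0, 0, 1, 0; 0, 0, 0, 1; 1, 0, 0, 0; 0, 1, 0, 0] * z) :
    ∃ p : F, z = p • 1 := by
  have rot : ∀ {s t : F}, s = t → t = -s → s = 0 := by
    intro s t hs ht
    have : 2 * s = 0 := by linear_combination hs + ht
    exact (mul_eq_zero.1 this).resolve_left h2
  have e1 := fun i j => congrFun (congrFun h1 i) j
  have e2 := fun i j => congrFun (congrFun h1' i) j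
  have e3 := fun i j => congrFun (congrFun h3 i) j
  have e5 := fun i j => congrFun (congrFun h5 i) j
  simp only [uM, lM, Matrix.mul_apply, Fin.sum_univ_four, Fin.isValue, of_apply, cons_val', cons_val_fin_one] at e1 e2 e3 e5
  have a00 := e1 0 0
  have a01 := e1 0 1
  have a02 := e1 0 2
  have a03 := e1 0 3
  have a12 := e1 1 2
  have a13 := e1 1 3
  have c20 := e5 2 0
  have c30 := e5 3 0
  have c21 := e5 2 1
  have c31 := e5 3 1
  have c22 := e5 2 2
  have c23 := e5 2 3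
  have c32 := e5 3 2
  have c33 := e5 3 3
  have b00 := e2 0 0
  have b01 := e2 0 1
  simp at a00 a01 a02 a03 a12 a13 c20 c30 c21 c31 c22 c23 c32 c33 b00 b01
  have z02 : z 0 2 = 0 := rot a02 a12
  have z03 : z 0 3 = 0 := rot a03 a13
  have z12 : z 1 2 = 0 := by rw [← a02, z02]
  have z13 : z 1 3 = 0 := by rw [← a03, z03]
  have z01 : z 0 1 = 0 := by
    have : 2 * z 0 1 = 0 := by
      linear_combination x * b01 - y * b00 + 2 * z 0 1 * hxy - x * y * a01 + y ^ 2 * a00
    exact (mul_eq_zero.1 this).resolve_left h2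
  have z10 : z 1 0 = 0 := by rw [← a00, z01, neg_zero]
  refine ⟨z 0 0, ?_⟩
  rw [← diagonal_one, ← diagonal_smul]
  ext i j
  rw [diagonal_apply]
  fin_cases i <;> fin_cases j <;> simp [z01, z02, z03, z10, z12, z13, c20, c30, c21, c31, c22, c23, c32, c33, a01]

/-- The data: a group of 5 by 5 matrices of determinant one containing the 2-group, and a quotient by scalars. -/
structure Dat5 {F : Type*} [Field F] (X P : Type*) [Group X] [Group P] {r s : F} (hrs : r ^ 2 + s ^ 2 = -1) where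
  /-- the matrices -/
  ρ : X →* SpecialLinearGroup (Fin 5) F
  inj : Function.Injective ρ
  /-- the quotient -/
  π : X →* P
  surj : Function.Surjective π
  ker : ∀ g, π g = 1 ↔ ∃ c : F, c ^ 5 = 1 ∧ (ρ g : M5 F) = c • 1
  h2 : (2 : F) ≠ 0
  hD : ∀ A ∈ D4 hrs, ∃ x : X, ρ x = emb A

namespace Dat5

variable {F : Type*} [Field F] {X P : Type*} [Group X] [Group P] {r s : F} {hrs : r ^ 2 + s ^ 2 = -1}
  (d : Dat5 X P hrs)

/-- the matrix of an element -/
def M (g : X) : M5 F := (d.ρ g : M5 F)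

theorem M_mul (g h : X) : d.M (g * h) = d.M g * d.M h := by
  unfold M; rw [map_mul]; rfl

theorem M_one : d.M 1 = 1 := by
  unfold M; rw [map_one]; rfl

theorem M_inj {g h : X} (e : d.M g = d.M h) : g = h := d.inj (Subtype.ext e)

theorem M_det (g : X) : (d.M g).det = 1 := (d.ρ g).2

theorem π_eq {g h : X} (e : d.π g = d.π h) : ∃ c : F, c ^ 5 = 1 ∧ d.M g = c • d.M h := by
  have h1 : d.π (g * h⁻¹) = 1 := by rw [map_mul, e, map_inv, mul_inv_cancel]
  have h3 : d.M g = d.M (g * h⁻¹) * d.M h := by rw [← M_mul, inv_mul_cancel_right]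
  obtain ⟨c, hc, h2⟩ := (d.ker _).1 h1
  refine ⟨c, hc, ?_⟩
  rw [h3]
  change (d.ρ (g * h⁻¹) : M5 F) * _ = _
  rw [h2, smul_mul_assoc, one_mul]

/-- the 2-group -/
def D : Subgroup X := ((D4 hrs).map emb).comap d.ρ

theorem isPGroup_D : IsPGroup 2 d.D := ((isPGroup_D4 hrs).map emb).comap_of_injective _ d.inj

/-- central commutators with elements of 2-power order are trivial -/
theorem comm_of {g x : X} (hx : x ∈ d.D) (h : d.π x * d.π g = d.π g * d.π x) : d.M g * d.M x = d.M x * d.M g := by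
  rw [← map_mul, ← map_mul] at h
  obtain ⟨c, hc, h1⟩ := d.π_eq h.symm
  rw [M_mul, M_mul] at h1
  obtain ⟨k, hk⟩ := d.isPGroup_D ⟨x, hx⟩
  have hk' : x ^ 2 ^ k = 1 := congrArg Subtype.val hk
  have h2 : ∀ n : ℕ, d.M g * d.M (x ^ n) = c ^ n • (d.M (x ^ n) * d.M g) := by
    intro n
    induction n with
    | zero => rw [pow_zero, pow_zero, M_one, mul_one, one_mul, one_smul]
    | succ n ih =>
      rw [pow_succ, M_mul, ← mul_assoc, ih, smul_mul_assoc, mul_assoc, h1, mul_smul_comm, smul_smul, ← pow_succ,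
        mul_assoc]
  have h3 := h2 (2 ^ k)
  rw [hk', M_one, mul_one, one_mul] at h3
  have h4 : c ^ 2 ^ k = 1 := by
    have h5 : d.M g * d.M g⁻¹ = c ^ 2 ^ k • (d.M g * d.M g⁻¹) := by
      rw [← smul_mul_assoc, ← h3]
    rw [← M_mul, mul_inv_cancel, M_one] at h5
    have h6 := congrFun (congrFun h5 0) 0
    simpa using h6.symm
  have h5 : orderOf c ∣ 1 := by
    have h6 : Nat.Coprime 5 (2 ^ k) := Nat.Coprime.pow_right k (by norm_num)
    rw [← h6]
    exact Nat.dvd_gcd (orderOf_dvd_of_pow_eq_one hc) (orderOf_dvd_of_pow_eq_one h4)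
  have h6 : c = 1 := orderOf_eq_one_iff.1 (Nat.dvd_one.1 h5)
  rw [h1, h6, one_smul]

theorem exists_t : ∃ t : X, t ∈ d.D ∧ d.M t = tau := by
  obtain ⟨t, ht⟩ := d.hD _ (t4_mem_D4 hrs)
  refine ⟨t, ⟨t4, t4_mem_D4 hrs, ht.symm⟩, ?_⟩
  unfold M
  rw [ht, coe_emb_t4]

/-- **Step 1.** -/
theorem step1 {g : X} (hu : orderOf (d.π g) = 2) (hc : ∀ x ∈ d.D, d.π x * d.π g = d.π g * d.π x) :
    ∃ c : F, c ^ 5 = 1 ∧ d.M g = c • tau := by
  have hcomm : ∀ A ∈ D4 hrs, d.M g * (emb A : M5 F) = (emb A : M5 F) * d.M g := by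
    intro A hA
    obtain ⟨x, hx⟩ := d.hD A hA
    have h1 : x ∈ d.D := ⟨A, hA, hx.symm⟩
    have h2 := d.comm_of h1 (hc x h1)
    have h3 : d.M x = (emb A : M5 F) := by unfold M; rw [hx]
    rwa [h3] at h2
  have ht := hcomm _ (t4_mem_D4 hrs)
  rw [coe_emb_t4] at ht
  set z := d.M g with hz
  have two := d.h2
  have half : ∀ {x : F}, -x = x → x = 0 := by
    intro x hx
    have : 2 * x = 0 := by linear_combination -hx
    exact (mul_eq_zero.1 this).resolve_left two
  have hcol : ∀ i : Fin 5, i ≠ 4 → z i 4 = 0 ∧ z 4 i = 0 := by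
    intro i hi
    have h1 := congrFun (congrFun ht i) 4
    have h2 := congrFun (congrFun ht 4) i
    unfold tau at h1 h2
    rw [diagonal_mul, mul_diagonal] at h1 h2
    fin_cases i
    · simp at h1 h2; exact ⟨half h1.symm, half h2⟩
    · simp at h1 h2; exact ⟨half h1.symm, half h2⟩
    · simp at h1 h2; exact ⟨half h1.symm, half h2⟩
    · simp at h1 h2; exact ⟨half h1.symm, half h2⟩
    · exact absurd rfl hi
  -- the upper left block
  obtain ⟨w, hw⟩ : ∃ w : M4 F, w = z.submatrix Fin.castSucc Fin.castSucc := ⟨_, rfl⟩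
  have hwz : ∀ i j, w i j = z (Fin.castSucc i) (Fin.castSucc j) := fun i j => by rw [hw]; rfl
  have hcomm' : ∀ A ∈ D4 hrs, w * (A : M4 F) = (A : M4 F) * w := by
    intro A hA
    ext i j
    have h1 := congrFun (congrFun (hcomm A hA) (Fin.castSucc i)) (Fin.castSucc j)
    have e : ∀ f : Fin 5 → F, ∑ k, f k = ∑ k : Fin 4, f (Fin.castSucc k) + f 4 := fun f => Fin.sum_univ_castSucc f
    rw [Matrix.mul_apply, Matrix.mul_apply, e, e, emb_lc, emb_cl, mul_zero, zero_mul, add_zero, add_zero] at h1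
    simp only [emb_cc] at h1
    rw [Matrix.mul_apply, Matrix.mul_apply]
    simp only [hwz]
    exact h1
  obtain ⟨p, hp⟩ := scalar_of_comm d.h2 hrs (z := w) (hcomm' _ (up_mem_D4 hrs)) (hcomm' _ (up_mem_D4' hrs))
    (hcomm' _ (lo_mem_D4 hrs)) (hcomm' _ (sw4_mem_D4 hrs))
  have hzd : z = diagonal ![p, p, p, p, z 4 4] := by
    ext i j
    induction i using Fin.lastCases with
    | last =>
      induction j using Fin.lastCases with
      | last => rfl
      | cast j =>
        rw [show Fin.last 4 = 4 from rfl, (hcol _ (Fin.castSucc_lt_last j).ne).2, diagonal_apply_ne]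
        exact (Fin.castSucc_lt_last j).ne'
    | cast i =>
      induction j using Fin.lastCases with
      | last =>
        rw [show Fin.last 4 = 4 from rfl, (hcol _ (Fin.castSucc_lt_last i).ne).1, diagonal_apply_ne]
        exact (Fin.castSucc_lt_last i).ne
      | cast j =>
        rw [← hwz, hp]
        fin_cases i <;> fin_cases j <;> simp
  obtain ⟨q, hq⟩ : ∃ q, q = z 4 4 := ⟨_, rfl⟩
  rw [← hq] at hzd
  have hdet := d.M_det g
  rw [← hz, hzd, det_diagonal, Fin.prod_univ_five] at hdet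
  simp at hdet
  have hu2 : d.π (g * g) = 1 := by
    rw [map_mul, ← pow_two, ← hu, pow_orderOf_eq_one]
  obtain ⟨c, hc5, hcc⟩ := (d.ker _).1 hu2
  change d.M (g * g) = _ at hcc
  rw [M_mul, ← hz, hzd, diagonal_mul_diagonal] at hcc
  have h0 := congrFun (congrFun hcc 0) 0
  have h4 := congrFun (congrFun hcc 4) 4
  simp at h0 h4
  have hc0 : c ≠ 0 := by
    rintro rfl
    norm_num at hc5
  have hqc : q = c ^ 3 := by
    have : c ^ 2 * (q - c ^ 3) = 0 := by
      linear_combination hdet - hc5 - q * (p * p + c) * h0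
    rcases mul_eq_zero.1 this with h | h
    · exact absurd h (pow_ne_zero 2 hc0)
    · linear_combination h
  have hpc : (p - c ^ 3) * (p + c ^ 3) = 0 := by
    linear_combination h0 - c * hc5
  refine ⟨c ^ 3, by rw [← pow_mul, mul_comm, pow_mul, hc5, one_pow], ?_⟩
  rcases mul_eq_zero.1 hpc with h | h
  · exfalso
    have hp' : p = c ^ 3 := by linear_combination h
    have h1 : d.π g = 1 := by
      rw [d.ker]
      refine ⟨c ^ 3, by rw [← pow_mul, mul_comm, pow_mul, hc5, one_pow], ?_⟩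
      change z = _
      rw [hzd, hp', hqc, ← diagonal_one, ← diagonal_smul]
      congr 1
      funext i
      fin_cases i <;> simp
    rw [h1, orderOf_one] at hu
    exact absurd hu (by norm_num)
  · have hp' : p = -c ^ 3 := by linear_combination h
    rw [hzd, hp', hqc]
    unfold tau
    rw [← diagonal_smul]
    congr 1
    funext i
    fin_cases i <;> simp

/-- the anti-fixed space -/
theorem two_central [Finite X] {g : X} (hg : IsTwoCentralInvolution (d.π g)) :
    ∃ (c : F) (φ : (Fin 5 → F) →ₗ[F] F), c ^ 5 = 1 ∧ ∀ v, φ v = 0 → d.M g *ᵥ v = -(c • v) := by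
  have : Finite P := Finite.of_surjective d.π d.surj
  obtain ⟨k, hk⟩ := exists_commute hg (d.D.map d.π) (d.isPGroup_D.map _)
  obtain ⟨y, rfl⟩ := d.surj k
  have e : d.π (y * g * y⁻¹) = d.π y * d.π g * (d.π y)⁻¹ := by rw [map_mul, map_mul, map_inv]
  obtain ⟨c, hc, h1⟩ := d.step1 (g := y * g * y⁻¹) (by
    rw [e, ← hg.1]
    exact (MulAut.conj (d.π y)).orderOf_eq (d.π g)) (fun x hx => by rw [e]; exact hk _ (mem_map_of_mem _ hx))
  refine ⟨c, (LinearMap.proj 4).comp (d.M y).mulVecLin, hc, ?_⟩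
  intro v hv
  change (d.M y *ᵥ v) 4 = 0 at hv
  have h2 : d.M g = d.M y⁻¹ * d.M (y * g * y⁻¹) * d.M y := by
    rw [← M_mul, ← M_mul]
    congr 1
    group
  have h3 : (tau : M5 F) *ᵥ (d.M y *ᵥ v) = -(d.M y *ᵥ v) := by
    ext i
    unfold tau
    rw [mulVec_diagonal]
    fin_cases i
    · simp
    · simp
    · simp
    · simp
    · change 1 * (d.M y *ᵥ v) 4 = -(d.M y *ᵥ v) 4
      rw [hv]; ring
  rw [h2, h1, mul_smul_comm, smul_mul_assoc, smul_mulVec, ← mulVec_mulVec, ← mulVec_mulVec, h3, mulVec_neg,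
    mulVec_mulVec, ← M_mul, inv_mul_cancel, M_one, one_mulVec, smul_neg]

include d in
theorem four [Finite X] (U : Subgroup P) (hU4 : Nat.card U = 4)
    (hc : ∀ u ∈ U, u ≠ 1 → IsTwoCentralInvolution u) : False := by
  classical
  have : Finite P := Finite.of_surjective d.π d.surj
  have hex : ∀ w : P, ∃ u ∈ U, u ≠ 1 ∧ u ≠ w := by
    intro w
    by_contra hcon
    push Not at hcon
    have h1 : (U : Set P) ⊆ {1, w} := by
      intro u hu
      by_cases h : u = 1
      · simp [h]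
      · simp [hcon u hu h]
    have h3 := Set.ncard_le_ncard h1 (Set.toFinite _)
    rw [show (U : Set P).ncard = 4 from hU4] at h3
    have h4 := Set.ncard_insert_le 1 ({w} : Set P)
    rw [Set.ncard_singleton] at h4
    omega
  obtain ⟨u1, hu1, h11, -⟩ := hex 1
  obtain ⟨u2, hu2, h21, h2u⟩ := hex u1
  obtain ⟨g1, rfl⟩ := d.surj u1
  obtain ⟨g2, rfl⟩ := d.surj u2
  have h3 : d.π (g1 * g2) ≠ 1 := by
    intro h
    rw [map_mul] at h
    have h4 : d.π g1 * d.π g1 = 1 := by rw [← pow_two, ← (hc _ hu1 h11).1, pow_orderOf_eq_one]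
    apply h2u
    calc d.π g2 = d.π g1 * d.π g1 * d.π g2 := by rw [h4, one_mul]
      _ = d.π g1 * (d.π g1 * d.π g2) := mul_assoc _ _ _
      _ = d.π g1 := by rw [h, mul_one]
  obtain ⟨c1, φ1, hc1, e1⟩ := d.two_central (hc _ hu1 h11)
  obtain ⟨c2, φ2, hc2, e2⟩ := d.two_central (hc _ hu2 h21)
  obtain ⟨c3, φ3, hc3, e3⟩ := d.two_central (g := g1 * g2) (hc _ (by rw [map_mul]; exact mul_mem hu1 hu2) h3)
  obtain ⟨v, hv, hv0⟩ : ∃ v : Fin 5 → F, v ∈ LinearMap.ker (LinearMap.pi ![φ1, φ2, φ3]) ∧ v ≠ 0 := by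
    apply Submodule.exists_mem_ne_zero_of_ne_bot
    apply LinearMap.ker_ne_bot_of_finrank_lt
    simp
  rw [LinearMap.mem_ker] at hv
  have f1 : φ1 v = 0 := congrFun hv 0
  have f2 : φ2 v = 0 := congrFun hv 1
  have f3 : φ3 v = 0 := congrFun hv 2
  have h5 := e3 v f3
  rw [M_mul, ← mulVec_mulVec, e2 v f2, mulVec_neg, mulVec_smul, e1 v f1, smul_neg, neg_neg, smul_smul] at h5
  have h6 : (c2 * c1 + c3) • v = 0 := by
    rw [add_smul, h5, neg_add_cancel]
  have h7 : c2 * c1 = -c3 := by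
    rcases smul_eq_zero.1 h6 with h | h
    · linear_combination h
    · exact absurd h hv0
  have h8 : (c2 * c1) ^ 5 = (-c3) ^ 5 := by rw [h7]
  rw [mul_pow, hc1, hc2, Odd.neg_pow (by decide), hc3] at h8
  apply d.h2
  linear_combination h8

end Dat5

end Cfsg.Agent.H991.FG
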