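import Cfsg.Agent.GTwoRows.Rows
import Cfsg.Agent.GTwoRows.ON

/-!
# Involution centralizers of the simple groups of 2-rank 3 which are not 2-constrained (helper991)

`TwoConstr G` : all 2-local subgroups of `G` are 2-constrained. `not_twoConstr_*` for `G₂(q)` (`q > 3` odd), `³D₄(q)`
(`q` odd), `²G₂(q)`, `J₁`, `M₁₂`, `O'N`.
-/

set_option autoImplicit false

namespace Cfsg.Agent.H991

open Subgroup Cfsg
open Cfsg.Agent.SignalizersComponents.Components

universe u v

/-- A group with a component of even order is not 2-constrained. -/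
theorem not_pConstrained_of_component {N : Type u} [Group N] [Finite N] {L : Subgroup N} (hL : IsComponent L)
    (h2 : 2 ∣ Nat.card L) : ¬ IsPConstrained 2 N := by
  intro hc
  have : Fact (Nat.Prime 2) := ⟨Nat.prime_two⟩
  have hRn : (pPrimePCore 2 N).Normal := by
    unfold pPrimePCore
    have := Lib.Cores.pCore_normal (G := N ⧸ pPrimeCore 2 N) 2
    infer_instance
  have hnR : ¬ L ≤ pPrimePCore 2 N := by
    intro h
    have h1 : L.map (QuotientGroup.mk' (pPrimeCore 2 N)) ≤ pCore 2 (N ⧸ pPrimeCore 2 N) :=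
      Subgroup.map_le_iff_le_comap.2 h
    have h3 : IsPGroup 2 ↥(L.map (QuotientGroup.mk' (pPrimeCore 2 N))) :=
      (Lib.Cores.pCore_isPGroup (G := N ⧸ pPrimeCore 2 N) 2).to_le h1
    have h4 : ⁅L.map (QuotientGroup.mk' (pPrimeCore 2 N)), L.map (QuotientGroup.mk' (pPrimeCore 2 N))⁆ =
        L.map (QuotientGroup.mk' (pPrimeCore 2 N)) := by
      rw [← Subgroup.map_commutator, component_commutator_self hL]
    have h5 : L.map (QuotientGroup.mk' (pPrimeCore 2 N)) = ⊥ := by
      by_contra hne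
      have h6 : Nontrivial ↥(L.map (QuotientGroup.mk' (pPrimeCore 2 N))) :=
        (Subgroup.nontrivial_iff_ne_bot _).2 hne
      have h7 : commutator ↥(L.map (QuotientGroup.mk' (pPrimeCore 2 N))) = ⊤ := by
        apply Subgroup.map_injective (Subgroup.subtype_injective _)
        rw [Subgroup.map_subtype_commutator, h4, ← MonoidHom.range_eq_map, Subgroup.range_subtype]
      have h8 := h3.isNilpotent
      have h9 : Group.IsSolvable ↥(L.map (QuotientGroup.mk' (pPrimeCore 2 N))) := inferInstance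
      exact (Group.IsSolvable.commutator_lt_top_of_nontrivial _).ne h7
    rw [Subgroup.map_eq_bot_iff, QuotientGroup.ker_mk'] at h5
    have h6 := Lib.Cores.pPrimeCore_coprime (G := N) 2
    have h7 : 2 ∣ Nat.card ↥(pPrimeCore 2 N) := h2.trans (Subgroup.card_dvd_of_le h5)
    have h8 := Nat.Coprime.eq_one_of_dvd h6.symm h7
    omega
  have hcom : ⁅L, pPrimePCore 2 N⁆ = ⊥ :=
    (component_le_or_commutator_eq_bot hL hRn.isSubnormal).resolve_left hnR
  obtain ⟨P⟩ : Nonempty (Sylow 2 ↥(pPrimePCore 2 N)) := inferInstance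
  refine hnR (le_trans ?_ (hc P))
  rw [commutator_eq_bot_iff_le_centralizer] at hcom
  refine hcom.trans (Subgroup.centralizer_le ?_)
  rintro _ ⟨x, -, rfl⟩
  exact x.2

/-- The hypothesis: all 2-local subgroups are 2-constrained. -/
def TwoConstr (G : Type u) [Group G] : Prop :=
  ∀ T : Subgroup G, IsPGroup 2 ↥T → T ≠ ⊥ → IsPConstrained 2 ↥(normalizer (T : Set G))

theorem normalizer_zpowers_of_two {G : Type u} [Group G] {t : G} (ht : orderOf t = 2) :
    normalizer ((zpowers t : Subgroup G) : Set G) = centralizer ({t} : Set G) := by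
  have hmem : ∀ x : G, x ∈ zpowers t ↔ x = 1 ∨ x = t := by
    intro x
    constructor
    · rintro ⟨k, rfl⟩
      rcases Int.even_or_odd' k with ⟨m, rfl | rfl⟩
      · left
        have : t ^ (2 : ℤ) = 1 := by
          have := pow_orderOf_eq_one t
          rw [ht] at this
          exact_mod_cast this
        change t ^ (2 * m) = 1
        rw [zpow_mul, this, one_zpow]
      · right
        have : t ^ (2 : ℤ) = 1 := by
          have := pow_orderOf_eq_one t
          rw [ht] at this
          exact_mod_cast this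
        change t ^ (2 * m + 1) = t
        rw [zpow_add, zpow_mul, this, one_zpow, one_mul, zpow_one]
    · rintro (rfl | rfl)
      · exact one_mem _
      · exact mem_zpowers _
  have ht1 : t ≠ 1 := by
    rintro rfl
    rw [orderOf_one] at ht
    omega
  ext g
  rw [mem_normalizer_iff, mem_centralizer_singleton_iff]
  constructor
  · intro h
    have h1 := (h t).1 (mem_zpowers t)
    rw [hmem] at h1
    rcases h1 with h1 | h1
    · exact absurd (conj_eq_one_iff.1 h1) ht1
    · exact mul_inv_eq_iff_eq_mul.1 h1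
  · intro h x
    have h2 : g * t * g⁻¹ = t := by rw [h, mul_inv_cancel_right]
    rw [hmem, hmem]
    constructor
    · rintro (rfl | rfl)
      · left; group
      · right; exact h2
    · rintro (h3 | h3)
      · left; exact conj_eq_one_iff.1 h3
      · right
        have h4 : g * x * g⁻¹ = g * t * g⁻¹ := by rw [h3, h2]
        exact mul_left_cancel (mul_right_cancel h4)

/-- An involution whose centralizer has a component of even order. -/
def HasComp (G : Type u) [Group G] : Prop :=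
  ∃ t : G, orderOf t = 2 ∧ ∃ L : Subgroup ↥(centralizer ({t} : Set G)), IsComponent L ∧ 2 ∣ Nat.card L

theorem HasComp.not_constr {G : Type u} [Group G] [Finite G] (h : HasComp G) : ¬ TwoConstr G := by
  intro hc
  obtain ⟨t, ht, L, hL, h2⟩ := h
  have h1 : IsPGroup 2 ↥(zpowers t) := IsPGroup.of_card (n := 1) (by rw [Nat.card_zpowers, ht, pow_one])
  have h3 : zpowers t ≠ ⊥ := by
    rw [Ne, zpowers_eq_bot]
    rintro rfl
    rw [orderOf_one] at ht
    omega
  have h4 := hc _ h1 h3
  rw [normalizer_zpowers_of_two ht] at h4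
  exact not_pConstrained_of_component hL h2 h4

theorem HasComp.congr {G : Type u} {H : Type v} [Group G] [Group H] (e : G ≃* H) (h : HasComp H) : HasComp G := by
  obtain ⟨t, ht, L, hL, h2⟩ := h
  refine ⟨e.symm t, by rw [MulEquiv.orderOf_eq, ht], L.map (GTwoRows.centEquiv e.symm t).toMonoidHom,
    isComponent_map_equiv _ hL, ?_⟩
  rwa [Subgroup.card_map_of_injective (GTwoRows.centEquiv e.symm t).injective]

/-- From a normal quasisimple subgroup. -/
theorem hasComp_of_normal {G : Type u} [Group G] (t : G) (ht : orderOf t = 2)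
    (L : Subgroup ↥(centralizer ({t} : Set G))) (hn : L.Normal) (hq : IsQuasisimple ↥L) (h2 : 2 ∣ Nat.card L) :
    HasComp G :=
  ⟨t, ht, L, ⟨hn.isSubnormal, hq⟩, h2⟩

/-- From an injective homomorphism with normal range. -/
theorem hasComp_of_hom {G : Type u} [Group G] (t : G) (ht : orderOf t = 2) {A : Type v} [Group A]
    (f : A →* ↥(centralizer ({t} : Set G))) (hf : Function.Injective f) (hn : f.range.Normal)
    (hq : IsQuasisimple A) (h2 : 2 ∣ Nat.card A) : HasComp G := by
  refine hasComp_of_normal t ht f.range hn (isQuasisimple_of_mulEquiv (MonoidHom.ofInjective hf) hq) ?_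
  rwa [← Nat.card_congr (MonoidHom.ofInjective hf).toEquiv]

/-! ### `G₂(q)`, `³D₄(q)` -/

theorem two_dvd_sl {K : Type} [Field K] (h2 : (2 : K) ≠ 0) :
    2 ∣ Nat.card (Matrix.SpecialLinearGroup (Fin 2) K) := by
  have h1 : (-1 : Matrix.SpecialLinearGroup (Fin 2) K) ^ 2 = 1 := by
    rw [pow_two, neg_mul_neg, one_mul]
  have h3 : (-1 : Matrix.SpecialLinearGroup (Fin 2) K) ≠ 1 := by
    intro h
    have h1 := congrArg (fun g : Matrix.SpecialLinearGroup (Fin 2) K => (g : Matrix (Fin 2) (Fin 2) K) 0 0) h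
    simp at h1
    apply h2
    linear_combination -h1
  have h4 := orderOf_eq_prime h1 h3
  have h5 := orderOf_dvd_natCard (-1 : Matrix.SpecialLinearGroup (Fin 2) K)
  rwa [h4] at h5

section hex

open Cfsg.Agent.Cit.HexBase

variable {E : Type} [Field E] [Finite E] {σ : E ≃+* E} {L : Type u} [Group L]

theorem hasComp_hex (c : HexGrp σ L) (h2 : (2 : E) ≠ 0) (h3 : 3 < Nat.card E) : HasComp L := by
  have := Fintype.ofFinite E
  rw [Nat.card_eq_fintype_card] at h3
  have hle : c.K1 ≤ centralizer ({c.z} : Set L) := c.K1_le_CZ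
  have e : Matrix.SpecialLinearGroup (Fin 2) E ≃* ↥(GTwoRows.Hex.fac c true) :=
    (c.equivK1 h2).trans (subgroupOfEquivOfLe hle).symm
  refine hasComp_of_normal c.z (orderOf_eq_prime (by rw [sq]; exact c.z_sq) (c.z_ne h2)) (GTwoRows.Hex.fac c true)
    (GTwoRows.Hex.fac_normal c h2 true) ?_ ?_
  · exact isQuasisimple_of_mulEquiv e (GTwoRows.isQuasisimple_sl h3)
  · rw [← Nat.card_congr e.toEquiv]
    exact two_dvd_sl h2

end hex

theorem hasComp_g2 {F : Type} [Field F] [Fintype F] (ho : Odd (Fintype.card F)) (h3 : 3 < Fintype.card F)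
    {G : Type u} [Group G] (e : G ≃* ↥(Lie.chevG2.group F)) : HasComp G := by
  have h2 := GTwoRows.two_ne ho
  exact HasComp.congr e (hasComp_hex (Cit.HexG2.g2 F h2) h2 (by rwa [Nat.card_eq_fintype_card]))

theorem hasComp_d4 {K : Type} [Field K] [Fintype K] {q : ℕ} (ho : Odd q) (hK : Fintype.card K = q ^ 3) {G : Type u}
    [Group G] (e : G ≃* ↥(Lie.twistedD4 K q)) : HasComp G := by
  have h2 : (2 : K) ≠ 0 := GTwoRows.two_ne (by rw [hK]; exact ho.pow)
  obtain ⟨σ, -, ⟨c⟩⟩ := Cit.HexD4.exists_d4 hK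
  refine HasComp.congr e (hasComp_hex c h2 ?_)
  rw [Nat.card_eq_fintype_card, hK]
  have h1 : 1 < Fintype.card K := Fintype.one_lt_card
  rw [hK] at h1
  have hq : 1 < q := by
    by_contra h
    have : q ^ 3 ≤ 1 ^ 3 := Nat.pow_le_pow_left (by omega) 3
    omega
  calc 3 < 2 ^ 3 := by norm_num
    _ ≤ q ^ 3 := Nat.pow_le_pow_left hq 3

/-! ### `²G₂(q)` -/

theorem two_dvd_psl {K : Type} [Field K] [Fintype K] (ho : Odd (Fintype.card K)) (h3 : 3 < Fintype.card K) :
    2 ∣ Nat.card (Matrix.ProjectiveSpecialLinearGroup (Fin 2) K) := by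
  have h1 := SmallSimple.PSLTwoPart.card_psl_two_odd (F := K) ho
  obtain ⟨k, hk⟩ := ho
  have h4 : 2 * Nat.card (Matrix.ProjectiveSpecialLinearGroup (Fin 2) K) = 2 * (2 * ((2 * k + 1) * (k * (k + 1)))) := by
    rw [h1, hk]
    have : (2 * k + 1) ^ 2 - 1 = 4 * (k * (k + 1)) := by
      have h5 : (2 * k + 1) ^ 2 = 4 * (k * (k + 1)) + 1 := by ring
      omega
    rw [this]
    ring
  exact ⟨(2 * k + 1) * (k * (k + 1)), by omega⟩

theorem hasComp_ree {G : Type u} [Group G] (h : Lie.IsoRee G) : HasComp G := by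
  obtain ⟨K, i1, i2, m, hm, hK, ⟨e0⟩⟩ := h
  refine HasComp.congr e0 ?_
  obtain ⟨a, haH, ha1, ha2⟩ := S1157.exists_involution hK
  obtain ⟨⟨e⟩, -⟩ := Cfsg.Agent.S1152.result hK a haH ha1 ha2
  have ho : Odd (Fintype.card K) := by
    rw [hK]
    exact Odd.pow (by decide)
  have h3 : 3 < Fintype.card K := by
    rw [hK]
    calc 3 < 3 ^ 3 := by norm_num
      _ ≤ 3 ^ (2 * m + 1) := Nat.pow_le_pow_right (by norm_num) (by omega)
  have hna := GTwoRows.not_comm_psl (F := K) h3
  have hs := TwoFusion.SLTwoFacts.isSimpleGroup_psl (F := K) h3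
  let i : Matrix.ProjectiveSpecialLinearGroup (Fin 2) K →*
      Multiplicative (ZMod 2) × Matrix.ProjectiveSpecialLinearGroup (Fin 2) K := MonoidHom.inr _ _
  refine hasComp_of_hom a (orderOf_eq_prime (by rw [sq]; exact ha2) ha1) (e.symm.toMonoidHom.comp i) ?_ ?_
    (CTwoTab.isQuasisimple_of_simple hna) (two_dvd_psl ho h3)
  · exact e.symm.injective.comp (fun a b h => congrArg Prod.snd h)
  · constructor
    rintro _ ⟨x, rfl⟩ g
    refine ⟨(e g).2 * x * ((e g).2)⁻¹, ?_⟩
    apply e.injective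
    have h5 : e (e.symm (i ((e g).2 * x * ((e g).2)⁻¹))) = e (g * e.symm (i x) * g⁻¹) := by
      rw [e.apply_symm_apply, map_mul e, map_mul e, map_inv e, e.apply_symm_apply]
      refine Prod.ext ?_ rfl
      change 1 = (e g).1 * 1 * ((e g).1)⁻¹
      rw [mul_one, mul_inv_cancel]
    exact h5

/-! ### `M₁₂` -/

theorem two_dvd_alt : 2 ∣ Nat.card (alternatingGroup (Fin 5)) := by
  have h := two_mul_nat_card_alternatingGroup (α := Fin 5)
  rw [Nat.card_perm, Nat.card_fin] at h
  have h5 : Nat.factorial 5 = 120 := rfl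
  exact ⟨30, by omega⟩

open GTwoRows.MTwelve Cfsg.Agent.CoThreeStd.MTwelve in
theorem hasComp_m12 {G : Type u} [Group G] (h : Spor.IsoM12 G) : HasComp G := by
  obtain ⟨e⟩ := h
  refine HasComp.congr e ?_
  refine hasComp_of_hom (G := H) y (orderOf_eq_prime (by rw [sq]; exact y_sq) y_ne_one) f f_inj ?_
    GTwoRows.alt_five.1 two_dvd_alt
  constructor
  intro c hc g
  rw [mem_f] at hc ⊢
  obtain ⟨τ, hτ, h⟩ := hc
  obtain ⟨σ, hσ⟩ := cent g
  refine ⟨σ * τ * σ⁻¹, (inferInstance : (alternatingGroup (Fin 5)).Normal).conj_mem τ hτ σ, ?_⟩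
  rw [Subgroup.coe_mul, Subgroup.coe_mul, Subgroup.coe_inv, ← h]
  exact (conj_w hσ τ).symm

/-! ### `J₁` -/

section j1

open Cfsg.Agent.UGT.EndJ1.Abs Cfsg.Agent.Lib.AltCarmichael
open Cfsg.Agent.OddHalf.Quat.NoThreeSpor.J1

theorem hasComp_of_card {K : Type u} [Group K] {t : K} (ht : orderOf t = 2)
    (hC : Nat.card ↥(centralizer ({t} : Set K)) = 120) {y : ℕ → ↥(centralizer ({t} : Set K))} (hy : Rel 3 y)
    (hne : y 0 ≠ 1) : HasComp K := by
  have hfin : Finite ↥(centralizer ({t} : Set K)) := Nat.finite_of_card_ne_zero (by rw [hC]; norm_num)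
  obtain ⟨f⟩ := nonempty_gen_equiv (m := 3) le_rfl hy ⟨0, by norm_num, hne⟩
  have h60 : Nat.card (alternatingGroup (Fin 5)) = 60 := by
    have h := two_mul_nat_card_alternatingGroup (α := Fin 5)
    rw [Nat.card_perm, Nat.card_fin] at h
    have h5 : Nat.factorial 5 = 120 := rfl
    omega
  let ψ : alternatingGroup (Fin 5) →* ↥(centralizer ({t} : Set K)) :=
    (gen 3 y).subtype.comp f.symm.toMonoidHom
  have hψ : Function.Injective ψ := (Subgroup.subtype_injective _).comp f.symm.injective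
  have hcr : Nat.card ↥ψ.range = 60 := by
    rw [← h60]
    exact (Nat.card_congr (MonoidHom.ofInjective hψ).toEquiv).symm
  have hi : ψ.range.index = 2 := by
    have h := ψ.range.card_mul_index
    rw [hcr, hC] at h
    omega
  exact hasComp_of_hom t ht ψ hψ (normal_of_index_eq_two hi) GTwoRows.alt_five.1 two_dvd_alt

theorem hasComp_of_rel {K : Type u} [Group K] {t : K} (ht : orderOf t = 2)
    (hC : Nat.card ↥(centralizer ({t} : Set K)) = 120) {y : ℕ → K} (hy : Rel 3 y)
    (hc : ∀ i, y i * t = t * y i) (hne : y 0 ≠ 1) : HasComp K :=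
  hasComp_of_card ht hC (y := fun i => ⟨y i, mem_centralizer_singleton_iff.2 (hc i)⟩)
    ⟨fun i hi => Subtype.ext (hy.cube i hi), fun i hi j hj hij => Subtype.ext (hy.sq i hi j hj hij)⟩
    (fun h => hne (congrArg Subtype.val h))

theorem orderOf_two {K : Type u} [Group K] {t : K} (h : t * t = 1) (h1 : t ≠ 1) : orderOf t = 2 :=
  orderOf_eq_prime (by rw [pow_two, h]) h1

theorem hasComp_j1 {G : Type u} [Group G] (h : Spor.IsoJ1 G) : HasComp G := by
  obtain ⟨e⟩ := h
  refine HasComp.congr e ?_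
  obtain ⟨D⟩ := Cfsg.Agent.UGT.EndJ1.Data.exists_dat
  obtain ⟨g', hg'⟩ := D.conj_t (u := SporadicB.J1.Main.e 1) (Cfsg.Agent.UGT.EndJ1.Data.e_sq 1) GTwoRows.JOne.e1_ne
  have hcard : Nat.card ↥(centralizer ({SporadicB.J1.Main.e 1} : Set Spor.J1)) = 120 := by
    have h3 := Nat.card_congr (GTwoRows.centEquiv (MulAut.conj g') D.t).toEquiv
    rw [D.card_C, MulAut.conj_apply, hg'] at h3
    exact h3.symm
  exact hasComp_of_rel (orderOf_two (Cfsg.Agent.UGT.EndJ1.Data.e_sq 1) GTwoRows.JOne.e1_ne) hcard rel comm y0_ne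

end j1

/-! ### `O'N` -/

section on

open Cfsg.Agent.KFacts.ON.Struct Cfsg.Agent.KFacts.ON.Qs
open Cfsg.Agent.SporadicB.ON45Word (on)

theorem hasComp_on {G : Type u} [Group G] (h : Spor.IsoON G) : HasComp G := by
  obtain ⟨e⟩ := h
  refine HasComp.congr e ?_
  have hcJ := card_J
  refine hasComp_of_normal (on .f) (orderOf_eq_prime (by rw [sq, ff]) f_ne_one)
    (J.subgroupOf (centralizer ({on .f} : Set Spor.ON))) GTwoRows.ONRow.normal_C
    (isQuasisimple_of_mulEquiv (subgroupOfEquivOfLe GTwoRows.ONRow.J_le_C).symm qs) ?_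
  rw [Nat.card_congr (subgroupOfEquivOfLe GTwoRows.ONRow.J_le_C).toEquiv, hcJ]
  norm_num

end on

end Cfsg.Agent.H991
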