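import Cfsg.Agent.H991.StrongTwo

/-!
# Simple 2-fusion systems: `N_G(S) = S C_G(S)` (helper991)

* `isSimple_of_odd` : `G` simple, `3 ∣ |G|`, two noncommuting involutions in `S`, the elements of odd order of
  `N_G(S)` centralize `S`: the 2-fusion system is simple;
* `isSimple_of_aut` : the same if `S` has no automorphism of odd order.
-/

set_option autoImplicit false

namespace Cfsg.Agent.H991

open Cfsg Cfsg.FusionSystem Cfsg.Agent.H802

variable {G : Type*} [Group G]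

/-- A `p`-element normalizing a Sylow `p`-subgroup lies in it. -/
theorem mem_sylow_of_normalizes [Finite G] {p : ℕ} [Fact p.Prime] (S : Sylow p G) {g : G}
    (hg : g ∈ Subgroup.normalizer ((S : Subgroup G) : Set G)) {k : ℕ} (hk : g ^ p ^ k = 1) : g ∈ S := by
  have hpg : IsPGroup p (Subgroup.zpowers g) := by
    obtain ⟨j, -, hj⟩ := (Nat.dvd_prime_pow Fact.out).1 (orderOf_dvd_of_pow_eq_one hk)
    refine IsPGroup.of_card (n := j) ?_
    rw [Nat.card_zpowers, hj]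
  have h1 := hpg.inf_normalizer_sylow S
  have h2 : g ∈ Subgroup.zpowers g ⊓ Subgroup.normalizer ((S : Subgroup G) : Set G) :=
    ⟨Subgroup.mem_zpowers g, hg⟩
  have h3 : g ∈ Subgroup.zpowers g ⊓ (S : Subgroup G) := h1 ▸ h2
  exact h3.2

/-- An element of a finite group is the product of two of its powers, a `2`-element and an element of odd order. -/
theorem exists_two_odd [Finite G] (g : G) : ∃ (a b : ℤ) (k m : ℕ), (g ^ a) ^ 2 ^ k = 1 ∧
    Odd m ∧ (g ^ b) ^ m = 1 ∧ g = g ^ a * g ^ b := by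
  obtain ⟨k, m, hm, hn⟩ := Nat.exists_eq_two_pow_mul_odd (orderOf_pos g).ne'
  have hcop : Nat.Coprime (2 ^ k) m := Nat.Coprime.pow_left k (Nat.coprime_two_left.2 hm)
  have hb : ((2 ^ k : ℕ) : ℤ) * Nat.gcdA (2 ^ k) m + (m : ℤ) * Nat.gcdB (2 ^ k) m = 1 := by
    have h := Nat.gcd_eq_gcd_ab (2 ^ k) m
    rw [hcop.gcd_eq_one] at h
    rw [← h]
    rfl
  have hg : g ^ (2 ^ k * m) = 1 := by rw [← hn, pow_orderOf_eq_one]
  refine ⟨(m : ℤ) * Nat.gcdB (2 ^ k) m, ((2 ^ k : ℕ) : ℤ) * Nat.gcdA (2 ^ k) m, k, m, ?_, hm, ?_, ?_⟩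
  · rw [← zpow_natCast, ← zpow_mul,
      show (m : ℤ) * Nat.gcdB (2 ^ k) m * ((2 ^ k : ℕ) : ℤ) = ((2 ^ k * m : ℕ) : ℤ) * Nat.gcdB (2 ^ k) m by
        push_cast; ring, zpow_mul, zpow_natCast, hg, one_zpow]
  · rw [← zpow_natCast, ← zpow_mul,
      show ((2 ^ k : ℕ) : ℤ) * Nat.gcdA (2 ^ k) m * (m : ℤ) = ((2 ^ k * m : ℕ) : ℤ) * Nat.gcdA (2 ^ k) m by
        push_cast; ring, zpow_mul, zpow_natCast, hg, one_zpow]
  · rw [← zpow_add, add_comm, hb, zpow_one]

theorem autInducedBy_top_le [Finite G] (S : Sylow 2 G)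
    (hodd : ∀ g ∈ Subgroup.normalizer ((S : Subgroup G) : Set G), Odd (orderOf g) →
      ∀ s ∈ (S : Subgroup G), g * s = s * g) :
    autInducedBy ⊤ (S : Subgroup G) ≤ autInducedBy (S : Subgroup G) (S : Subgroup G) := by
  intro α hα
  obtain ⟨g, -, hg⟩ := (mem_autInducedBy_iff _ _ _).1 hα
  have hN := mem_normalizer_of_aut hg
  obtain ⟨a, b, k, m, h1, h2, h3, h4⟩ := exists_two_odd g
  have ha : g ^ a ∈ (S : Subgroup G) :=
    mem_sylow_of_normalizes S ((Subgroup.normalizer ((S : Subgroup G) : Set G)).zpow_mem hN a) h1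
  have hb := hodd (g ^ b) ((Subgroup.normalizer ((S : Subgroup G) : Set G)).zpow_mem hN b)
    (h2.of_dvd_nat (orderOf_dvd_of_pow_eq_one h3))
  rw [mem_autInducedBy_iff]
  refine ⟨g ^ a, ha, fun x => ?_⟩
  rw [hg]
  conv_lhs => rw [h4]
  have h5 := hb x x.2
  rw [mul_inv_rev, mul_assoc (g ^ a), h5]
  group

theorem isSimple_of_odd [Finite G] [IsSimpleGroup G] (S : Sylow 2 G) (h3 : 3 ∣ Nat.card G)
    (hnc : ∃ x y : (S : Subgroup G), x * x = 1 ∧ y * y = 1 ∧ x * y ≠ y * x)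
    (hodd : ∀ g ∈ Subgroup.normalizer ((S : Subgroup G) : Set G), Odd (orderOf g) →
      ∀ s ∈ (S : Subgroup G), g * s = s * g) :
    (groupFusionSystem (S : Subgroup G)).IsSimple 2 := by
  refine isSimple_of_inner S.isPGroup' (groupFusionSystem_isSaturated S) ?_
    ((autGroup_group le_rfl).le.trans (autInducedBy_top_le S hodd)) (closed_or S h3 hnc)
  intro h
  obtain ⟨x, y, -, -, hxy⟩ := hnc
  apply hxy
  have h1 : ∀ z : (S : Subgroup G), z = 1 := fun z =>
    Subtype.ext ((Subgroup.mem_bot).1 (h ▸ z.2 : (z : G) ∈ (⊥ : Subgroup G)))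
  rw [h1 x, h1 y]

theorem isSimple_of_aut [Finite G] [IsSimpleGroup G] (S : Sylow 2 G) (h3 : 3 ∣ Nat.card G)
    (hnc : ∃ x y : (S : Subgroup G), x * x = 1 ∧ y * y = 1 ∧ x * y ≠ y * x)
    (hA : ∀ α : MulAut (S : Subgroup G), Odd (orderOf α) → α = 1) :
    (groupFusionSystem (S : Subgroup G)).IsSimple 2 := by
  refine isSimple_of_odd S h3 hnc fun g hg ho s hs => ?_
  obtain ⟨α, hα⟩ := exists_conjAut hg
  have hpow : ∀ (n : ℕ) (x : (S : Subgroup G)), (((α ^ n) x : (S : Subgroup G)) : G) =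
      g ^ n * (x : G) * (g ^ n)⁻¹ := by
    intro n
    induction n with
    | zero => intro x; simp
    | succ n ih =>
      intro x
      rw [pow_succ, MulAut.mul_apply, ih, hα, pow_succ]
      group
  have h1 : α ^ orderOf g = 1 := by
    refine MulEquiv.ext fun x => Subtype.ext ?_
    rw [hpow, pow_orderOf_eq_one]
    simp
  have h2 := hA α (ho.of_dvd_nat (orderOf_dvd_of_pow_eq_one h1))
  have h4 := hα ⟨s, hs⟩
  rw [h2] at h4
  have h5 : s = g * s * g⁻¹ := h4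
  conv_rhs => rw [h5]
  group

end Cfsg.Agent.H991
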