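import Cfsg.Agent.H991.OddNorm
import Cfsg.Agent.Classification.QDW.AutSylow

/-!
# Simple 2-fusion systems with quasi-dihedral, wreathed or dihedral Sylow 2-subgroups (helper991)
-/

set_option autoImplicit false

namespace Cfsg.Agent.H991

open Cfsg

theorem noncomm_qd {S : Type*} [Group S] (h : IsQuasiDihedral S) :
    ∃ x y : S, x * x = 1 ∧ y * y = 1 ∧ x * y ≠ y * x := by
  obtain ⟨n, hn, -, x, y, hx, hy, he⟩ := h
  have hyy : y * y = 1 := by rw [← pow_two, ← hy, pow_orderOf_eq_one]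
  have hyi : y⁻¹ = y := inv_eq_of_mul_eq_one_right hyy
  refine ⟨y, x * y * x⁻¹, hyy, ?_, fun hc => ?_⟩
  · calc x * y * x⁻¹ * (x * y * x⁻¹) = x * (y * y) * x⁻¹ := by group
      _ = 1 := by rw [hyy]; group
  · -- `y` commutes with `x y x⁻¹`: `(x (y x⁻¹ y⁻¹)) ^ 2 = 1`
    obtain ⟨k, rfl⟩ : ∃ k, n = k + 3 := ⟨n - 3, by omega⟩
    have e1 : k + 3 - 1 = k + 2 := rfl
    rw [e1] at he
    set m : ℕ := 2 ^ (k + 2) with hm
    have hm4 : 4 ≤ m := by
      rw [hm, pow_add]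
      have : 1 ≤ 2 ^ k := Nat.one_le_two_pow
      omega
    have hox : orderOf x = 2 * m := by rw [hx, hm]; ring
    -- `c = x y x⁻¹ y⁻¹ = x * x ^ (-(m-1))`
    have hinv : y * x⁻¹ * y⁻¹ = (x ^ (m - 1))⁻¹ := by rw [← he]; group
    have hc1 : x * y * x⁻¹ = x * (x ^ (m - 1))⁻¹ * y := by rw [← hinv]; group
    -- the element `u = x (x ^ (m-1))⁻¹` satisfies `y u y⁻¹ = u`
    have hu : y * (x * (x ^ (m - 1))⁻¹) * y⁻¹ = x * (x ^ (m - 1))⁻¹ := by
      have h1 : y * (x * (x ^ (m - 1))⁻¹ * y) = x * (x ^ (m - 1))⁻¹ * y * y := by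
        rw [← hc1]; exact hc
      calc y * (x * (x ^ (m - 1))⁻¹) * y⁻¹ = y * (x * (x ^ (m - 1))⁻¹ * y) * y⁻¹ * y⁻¹ := by group
        _ = x * (x ^ (m - 1))⁻¹ * y * y * y⁻¹ * y⁻¹ := by rw [h1]
        _ = x * (x ^ (m - 1))⁻¹ := by group
    -- as a power of `x`
    have hz : x * (x ^ (m - 1))⁻¹ = x ^ ((2 : ℤ) - m) := by
      rw [← zpow_natCast, ← zpow_neg]
      nth_rewrite 1 [← zpow_one x]
      rw [← zpow_add]
      congr 1
      rw [Nat.cast_sub (by omega)]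
      push_cast
      ring
    rw [hz, ← conj_zpow, he, ← zpow_natCast, ← zpow_mul] at hu
    have h2 : x ^ ((((m - 1 : ℕ) : ℤ) * (2 - m)) - (2 - m)) = 1 := by
      rw [zpow_sub, hu, mul_inv_cancel]
    have h3 := orderOf_dvd_iff_zpow_eq_one.2 h2
    rw [hox, Nat.cast_sub (by omega)] at h3
    -- `2 m ∣ (m - 2) (2 - m) = - (m-2)^2`
    have h4 : ((2 * m : ℕ) : ℤ) ∣ ((m : ℤ) - 2) ^ 2 := by
      have h5 : ((m : ℤ) - 1) * (2 - m) - (2 - m) = -(((m : ℤ) - 2) ^ 2) := by ring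
      push_cast at h3
      rw [h5] at h3
      push_cast
      exact (dvd_neg.1 h3)
    have h6 : (8 : ℤ) ∣ ((2 * m : ℕ) : ℤ) := by
      rw [hm, pow_add]
      push_cast
      exact ⟨2 ^ k, by ring⟩
    have h7 : (4 : ℤ) ∣ (m : ℤ) := by
      rw [hm, pow_add]
      push_cast
      exact ⟨2 ^ k, by ring⟩
    obtain ⟨c, hc'⟩ := h7
    obtain ⟨d, hd⟩ := h6.trans h4
    rw [hc'] at hd
    have h8 : (4 * c - 2) ^ 2 = 16 * c ^ 2 - 16 * c + 4 := by ring
    rw [h8] at hd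
    omega

theorem noncomm_wr {S : Type*} [Group S] (h : IsWreathed S) :
    ∃ x y : S, x * x = 1 ∧ y * y = 1 ∧ x * y ≠ y * x := by
  obtain ⟨n, hn, -, x, y, z, hx, hxy, hd, hz, he⟩ := h
  have hzz : z * z = 1 := by rw [← pow_two, ← hz, pow_orderOf_eq_one]
  have hzi : z⁻¹ = z := inv_eq_of_mul_eq_one_right hzz
  refine ⟨z, x * z * x⁻¹, hzz, ?_, fun hc => ?_⟩
  · calc x * z * x⁻¹ * (x * z * x⁻¹) = x * (z * z) * x⁻¹ := by group
      _ = 1 := by rw [hzz]; group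
  · have h1 : x * z * x⁻¹ = x * y⁻¹ * z := by rw [← he]; group
    have h2 : z * y * z⁻¹ = x := by
      rw [← he]
      calc z * (z * x * z⁻¹) * z⁻¹ = (z * z) * x * (z * z)⁻¹ := by group
        _ = x := by rw [hzz]; group
    have h3 : z * (x * y⁻¹) * z⁻¹ = y * x⁻¹ := by
      rw [← he]
      calc z * (x * (z * x * z⁻¹)⁻¹) * z⁻¹ = (z * x * z⁻¹) * ((z * z) * x * (z * z)⁻¹)⁻¹ := by group
        _ = z * x * z⁻¹ * x⁻¹ := by rw [hzz]; group
    rw [h1] at hc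
    have h4 : z * (x * y⁻¹) * z⁻¹ = x * y⁻¹ := by
      calc z * (x * y⁻¹) * z⁻¹ = (z * (x * y⁻¹ * z)) * z⁻¹ * z⁻¹ := by group
        _ = (x * y⁻¹ * z * z) * z⁻¹ * z⁻¹ := by rw [hc]
        _ = x * y⁻¹ := by group
    rw [h3] at h4
    -- `y x⁻¹ = x y⁻¹`, so `x ^ 2 = y ^ 2`
    have h5 : x ^ 2 = y ^ 2 := by
      have h6 : y = x * y⁻¹ * x := by rw [← h4]; group
      have h7 : x * y⁻¹ * x = x * x * y⁻¹ := by
        have h8 : y⁻¹ * x = x * y⁻¹ := by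
          calc y⁻¹ * x = y⁻¹ * (x * y) * y⁻¹ := by group
            _ = y⁻¹ * (y * x) * y⁻¹ := by rw [hxy]
            _ = x * y⁻¹ := by group
        rw [mul_assoc, h8, mul_assoc]
      rw [h7] at h6
      rw [pow_two, pow_two]
      calc x * x = x * x * y⁻¹ * y := by group
        _ = y * y := by rw [← h6]
    have h6 : x ^ 2 ∈ Subgroup.zpowers x ⊓ Subgroup.zpowers y :=
      ⟨Subgroup.pow_mem _ (Subgroup.mem_zpowers x) 2, h5 ▸ Subgroup.pow_mem _ (Subgroup.mem_zpowers y) 2⟩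
    rw [hd, Subgroup.mem_bot] at h6
    have h7 := orderOf_dvd_of_pow_eq_one h6
    rw [hx] at h7
    have h8 := Nat.le_of_dvd (by norm_num) h7
    have h9 : 2 ^ 2 ≤ 2 ^ n := Nat.pow_le_pow_right (by norm_num) hn
    omega

theorem noncomm_of_qdw {S : Type*} [Group S] (h : IsQuasiDihedral S ∨ IsWreathed S) :
    ∃ x y : S, x * x = 1 ∧ y * y = 1 ∧ x * y ≠ y * x :=
  h.elim noncomm_qd noncomm_wr

/-- An element of odd order of a 2-group is trivial. -/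
theorem eq_one_of_odd {A : Type*} [Group A] (h : IsPGroup 2 A) {a : A} (ha : Odd (orderOf a)) : a = 1 := by
  obtain ⟨k, hk⟩ := h a
  obtain ⟨j, -, hj⟩ := (Nat.dvd_prime_pow Nat.prime_two).1 (orderOf_dvd_of_pow_eq_one hk)
  rw [hj] at ha
  rcases Nat.eq_zero_or_pos j with rfl | h0
  · rwa [pow_zero, orderOf_eq_one_iff] at hj
  · exact absurd ha (by
      rw [Nat.not_odd_iff_even, even_iff_two_dvd]
      exact dvd_pow_self 2 h0.ne')

/-- **Simple groups with quasi-dihedral or wreathed Sylow 2-subgroups** have simple 2-fusion systems. -/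
theorem isSimple_of_qdw {G : Type*} [Group G] [Finite G] [IsSimpleGroup G] (S : Sylow 2 G)
    (h3 : 3 ∣ Nat.card G) (h : IsQuasiDihedral (S : Subgroup G) ∨ IsWreathed (S : Subgroup G)) :
    (groupFusionSystem (S : Subgroup G)).IsSimple 2 :=
  isSimple_of_aut S h3 (noncomm_of_qdw h) fun _ hα =>
    eq_one_of_odd (Cfsg.Agent.Classification.QDW.AutSylow.isPGroup_mulAut h) hα

end Cfsg.Agent.H991
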