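import Cfsg.Agent.H991.Sp4Quat
import Cfsg.Agent.Sigma.Symp
import Cfsg.Agent.LieClassical.SympCenter

/-!
# Double covers of `PSp_4(K)` in `Sp_4(F)`: lifts (helper991)

Task 45 (for S5788, S5786).
-/

set_option autoImplicit false

namespace Cfsg.Agent.H991.Sp4

open Cfsg Cfsg.Geo Matrix Module
open Cfsg.Agent.ClassicalGeometry.SympBasic Cfsg.Agent.H909

variable {F : Type*} [Field F]

/-- `L g s`: the elements `g` of `P` and `s` of `S` have the same image in a common quotient `P / ±1 = S / Z(S)`. -/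
structure Cov (P : Subgroup (GL I4 F)) {S : Type*} [Group S] (L : GL I4 F → S → Prop) : Prop where
  mem : ∀ {g s}, L g s → g ∈ P
  one : L 1 1
  mul : ∀ {g s h t}, L g s → L h t → L (g * h) (s * t)
  inv : ∀ {g s}, L g s → L g⁻¹ s⁻¹
  ex : ∀ s, ∃ g, L g s
  surj : ∀ g ∈ P, ∃ s, L g s
  uniq : ∀ {g h s}, L g s → L h s → g = h ∨ g = -h
  neg : ∀ {g s}, L g s → L (-g) s
  ker : ∀ {s}, L 1 s → s ∈ Subgroup.center S
  cen : ∀ {s}, s ∈ Subgroup.center S → L 1 s

namespace Cov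

variable {P : Subgroup (GL I4 F)} {S : Type*} [Group S] {L : GL I4 F → S → Prop} (c : Cov P L)
include c

theorem pow {g : GL I4 F} {s : S} (h : L g s) (n : ℕ) : L (g ^ n) (s ^ n) := by
  induction n with
  | zero => rw [pow_zero, pow_zero]; exact c.one
  | succ n ih => rw [pow_succ, pow_succ]; exact c.mul ih h

omit [Group S] c in
theorem one_ne (h2 : (2 : F) ≠ 0) : (1 : GL I4 F) ≠ -1 := by
  intro h
  have h1 := congrArg (fun g : GL I4 F => (g : Matrix I4 I4 F) (Sum.inl 0) (Sum.inl 0)) h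
  simp at h1
  apply h2
  have h3 : (1 : F) + 1 = 0 := by nth_rewrite 2 [h1]; exact add_neg_cancel 1
  rw [← h3]; norm_num

theorem exists_odd {r : ℕ} (hr : Odd r) {s : S} (hs : s ^ r = 1) : ∃ g, L g s ∧ g ^ r = 1 := by
  obtain ⟨g, hg⟩ := c.ex s
  have h1 := c.pow hg r
  rw [hs] at h1
  rcases c.uniq h1 c.one with h | h
  · exact ⟨g, hg, h⟩
  · exact ⟨-g, c.neg hg, by rw [hr.neg_pow, h, neg_neg]⟩

theorem odd_eq (h2 : (2 : F) ≠ 0) {r : ℕ} (hr : Odd r) {g h : GL I4 F} {s : S} (hg : L g s) (hh : L h s)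
    (hgr : g ^ r = 1) (hhr : h ^ r = 1) : g = h := by
  rcases c.uniq hg hh with e | e
  · exact e
  · exfalso
    apply one_ne h2
    calc (1 : GL I4 F) = g ^ r := hgr.symm
      _ = -1 := by rw [e, hr.neg_pow, hhr]

theorem odd_conj (h2 : (2 : F) ≠ 0) {r : ℕ} (hr : Odd r) {g h k : GL I4 F} {s t : S} (hg : L g s) (hk : L k t)
    (hh : L h (t * s * t⁻¹)) (hgr : g ^ r = 1) (hhr : h ^ r = 1) : k * g * k⁻¹ = h := by
  refine c.odd_eq h2 hr (c.mul (c.mul hk hg) (c.inv hk)) hh ?_ hhr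
  rw [conj_pow, hgr, mul_one, mul_inv_cancel]

theorem odd_comm (h2 : (2 : F) ≠ 0) {r : ℕ} (hr : Odd r) {g h : GL I4 F} {s t : S} (hg : L g s) (hh : L h t)
    (hst : s * t = t * s) (hgr : g ^ r = 1) : g * h = h * g := by
  have h1 : h * g * h⁻¹ = g := by
    refine c.odd_conj h2 hr hg hh ?_ hgr hgr
    rw [← hst, mul_inv_cancel_right]
    exact hg
  rw [mul_inv_eq_iff_eq_mul] at h1
  exact h1.symm

/-- squares in a quaternion group lift to involutions -/
theorem li {i j z : S} (hi : i * i = z) (hj : j * j = z) (hji : j * i * j⁻¹ = i⁻¹) {g : GL I4 F}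
    (hg : L g z) : g * g = 1 := by
  obtain ⟨I, hI⟩ := c.ex i
  obtain ⟨J, hJ⟩ := c.ex j
  have h1 : L (I * I) z := hi ▸ c.mul hI hI
  have h2 : L (J * J) z := hj ▸ c.mul hJ hJ
  have h3 : L (J * I * J⁻¹) i⁻¹ := hji ▸ c.mul (c.mul hJ hI) (c.inv hJ)
  have e1 : J * (I * I) * J⁻¹ = I * I := by
    rcases c.uniq h1 h2 with e | e
    · rw [e]; group
    · rw [e, mul_neg, neg_mul]; group
  have e2 : J * (I * I) * J⁻¹ = I⁻¹ * I⁻¹ := by
    have : J * (I * I) * J⁻¹ = (J * I * J⁻¹) * (J * I * J⁻¹) := by group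
    rw [this]
    rcases c.uniq h3 (c.inv hI) with e | e
    · rw [e]
    · rw [e, neg_mul_neg]
  have e3 : (I * I) * (I * I) = 1 := by
    rw [e1] at e2
    calc (I * I) * (I * I) = (I * I) * (I⁻¹ * I⁻¹) := by rw [← e2]
      _ = 1 := by group
  rcases c.uniq hg h1 with e | e
  · rw [e, e3]
  · rw [e, neg_mul_neg, e3]

end Cov

section K

variable {K : Type*} [Field K]

/-- root elements of `SL₂` -/
def X2 (a : K) : SpecialLinearGroup (Fin 2) K := ⟨!![1, a; 0, 1], by simp [det_fin_two]⟩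

/-- root elements of `SL₂` -/
def Y2 (a : K) : SpecialLinearGroup (Fin 2) K := ⟨!![1, 0; a, 1], by simp [det_fin_two]⟩

theorem X2_mul (a b : K) : X2 a * X2 b = X2 (a + b) := by
  apply Subtype.ext
  show !![1, a; 0, 1] * !![1, b; 0, 1] = !![1, a + b; 0, 1]
  ext i j
  fin_cases i <;> fin_cases j <;> simp [Matrix.mul_apply, Fin.sum_univ_two, add_comm]

theorem Y2_mul (a b : K) : Y2 a * Y2 b = Y2 (a + b) := by
  apply Subtype.ext
  show !![1, 0; a, 1] * !![1, 0; b, 1] = !![1, 0; a + b, 1]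
  ext i j
  fin_cases i <;> fin_cases j <;> simp [Matrix.mul_apply, Fin.sum_univ_two]

theorem X2_zero : X2 (0 : K) = 1 := by
  apply Subtype.ext
  show !![1, 0; 0, 1] = (1 : Matrix (Fin 2) (Fin 2) K)
  exact Matrix.one_fin_two.symm

theorem Y2_zero : Y2 (0 : K) = 1 := by
  apply Subtype.ext
  show !![1, 0; 0, 1] = (1 : Matrix (Fin 2) (Fin 2) K)
  exact Matrix.one_fin_two.symm

theorem X2_pow (a : K) (n : ℕ) : X2 a ^ n = X2 (n * a) := by
  induction n with
  | zero => rw [pow_zero, Nat.cast_zero, zero_mul, X2_zero]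
  | succ n ih => rw [pow_succ, ih, X2_mul, Nat.cast_succ, add_mul, one_mul]

theorem Y2_pow (a : K) (n : ℕ) : Y2 a ^ n = Y2 (n * a) := by
  induction n with
  | zero => rw [pow_zero, Nat.cast_zero, zero_mul, Y2_zero]
  | succ n ih => rw [pow_succ, ih, Y2_mul, Nat.cast_succ, add_mul, one_mul]

/-- quaternion elements -/
def i2 : SpecialLinearGroup (Fin 2) K := ⟨!![0, 1; -1, 0], by simp [det_fin_two]⟩

/-- quaternion elements -/
def j2 (a b : K) (h : a ^ 2 + b ^ 2 = -1) : SpecialLinearGroup (Fin 2) K :=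
  ⟨!![a, b; b, -a], by
    rw [det_fin_two]
    simp
    linear_combination -h⟩

theorem i2_mul : (i2 : SpecialLinearGroup (Fin 2) K) * i2 = -1 := by
  apply Subtype.ext
  show !![0, 1; -1, 0] * !![0, 1; -1, 0] = (-1 : Matrix (Fin 2) (Fin 2) K)
  ext i j
  fin_cases i <;> fin_cases j <;> simp [Matrix.mul_apply, Fin.sum_univ_two]

theorem j2_mul {a b : K} (h : a ^ 2 + b ^ 2 = -1) : j2 a b h * j2 a b h = -1 := by
  apply Subtype.ext
  show !![a, b; b, -a] * !![a, b; b, -a] = (-1 : Matrix (Fin 2) (Fin 2) K)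
  ext i j
  fin_cases i <;> fin_cases j <;> simp [Matrix.mul_apply, Fin.sum_univ_two]
  · linear_combination h
  · ring
  · ring
  · linear_combination h

theorem i2_j2 {a b : K} (h : a ^ 2 + b ^ 2 = -1) : i2 * j2 a b h = -1 * (j2 a b h * i2) := by
  rw [neg_one_mul]
  apply Subtype.ext
  show !![0, 1; -1, 0] * !![a, b; b, -a] = - (!![a, b; b, -a] * !![0, 1; -1, 0])
  ext i j
  fin_cases i <;> fin_cases j <;> simp [Matrix.mul_apply, Fin.sum_univ_two]

theorem i2_eq : (i2 : SpecialLinearGroup (Fin 2) K) = X2 1 * Y2 (-1) * X2 1 := by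
  apply Subtype.ext
  show !![0, 1; -1, 0] = !![1, 1; 0, 1] * !![1, 0; -1, 1] * !![1, 1; 0, (1 : K)]
  ext i j
  fin_cases i <;> fin_cases j <;> simp [Matrix.mul_apply, Fin.sum_univ_two]

theorem j2_eq {a b : K} (h : a ^ 2 + b ^ 2 = -1) (hb : b ≠ 0) :
    j2 a b h = Y2 (-(1 + a) / b) * X2 b * Y2 ((a - 1) / b) := by
  apply Subtype.ext
  show !![a, b; b, -a] = !![1, 0; -(1 + a) / b, 1] * !![1, b; 0, 1] * !![1, 0; (a - 1) / b, (1 : K)]
  ext i j
  fin_cases i <;> fin_cases j <;> simp [Matrix.mul_apply, Fin.sum_univ_two]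
  · field_simp
    ring
  · field_simp
    linear_combination h
  · field_simp
    ring

open Cfsg.Agent.Sigma.Symp

/-- first factor -/
def in0 : SpecialLinearGroup (Fin 2) K →* symplecticGroup (Fin 2) K :=
  (emb 2 K).comp (MonoidHom.mulSingle (fun _ => SpecialLinearGroup (Fin 2) K) 0)

/-- second factor -/
def in1 : SpecialLinearGroup (Fin 2) K →* symplecticGroup (Fin 2) K :=
  (emb 2 K).comp (MonoidHom.mulSingle (fun _ => SpecialLinearGroup (Fin 2) K) 1)

theorem in_comm (A B : SpecialLinearGroup (Fin 2) K) : in0 A * in1 B = in1 B * in0 A := by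
  unfold in0 in1
  rw [MonoidHom.comp_apply, MonoidHom.comp_apply, ← map_mul, ← map_mul]
  congr 1
  exact (Pi.mulSingle_commute (f := fun _ => SpecialLinearGroup (Fin 2) K) (i := (0 : Fin 2)) (j := 1) (by decide) A B).eq

theorem emb_inl_inl (g : Fin 2 → SpecialLinearGroup (Fin 2) K) :
    (emb 2 K g).1 = fromBlocks (diagonal fun i => g i 0 0) (diagonal fun i => g i 0 1) (diagonal fun i => g i 1 0)
    (diagonal fun i => g i 1 1) := rfl

theorem in0_val (A : SpecialLinearGroup (Fin 2) K) : (in0 A).1 =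
    fromBlocks (diagonal ![A 0 0, 1]) (diagonal ![A 0 1, 0]) (diagonal ![A 1 0, 0]) (diagonal ![A 1 1, 1]) := by
  unfold in0
  rw [MonoidHom.comp_apply, emb_inl_inl]
  congr 1 <;> congr 1 <;> funext i <;> fin_cases i <;> simp [MonoidHom.mulSingle_apply]

theorem in1_val (A : SpecialLinearGroup (Fin 2) K) : (in1 A).1 =
    fromBlocks (diagonal ![1, A 0 0]) (diagonal ![0, A 0 1]) (diagonal ![0, A 1 0]) (diagonal ![1, A 1 1]) := by
  unfold in1
  rw [MonoidHom.comp_apply, emb_inl_inl]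
  congr 1 <;> congr 1 <;> funext i <;> fin_cases i <;> simp [MonoidHom.mulSingle_apply]

theorem in_neg : in0 (-1 : SpecialLinearGroup (Fin 2) K) * in1 (-1) ∈
    Subgroup.center (symplecticGroup (Fin 2) K) := by
  rw [Cfsg.Agent.LieClassical.SympCenter.mem_center_iff]
  refine ⟨-1, ?_⟩
  show (in0 (-1 : SpecialLinearGroup (Fin 2) K)).1 * (in1 (-1)).1 = _
  rw [in0_val, in1_val, fromBlocks_multiply]
  ext i j
  rcases i with i | i <;> rcases j with j | j <;> fin_cases i <;> fin_cases j <;>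
    simp

theorem in0_neg_notMem (h2 : (2 : K) ≠ 0) : in0 (-1 : SpecialLinearGroup (Fin 2) K) ∉
    Subgroup.center (symplecticGroup (Fin 2) K) := by
  rw [Cfsg.Agent.LieClassical.SympCenter.mem_center_iff]
  rintro ⟨a, ha⟩
  rw [in0_val] at ha
  have h3 := congrFun (congrFun ha (Sum.inl 0)) (Sum.inl 0)
  have h4 := congrFun (congrFun ha (Sum.inl 1)) (Sum.inl 1)
  simp at h3 h4
  apply h2
  linear_combination -h3 + h4

theorem in0_X2 (a : K) : in0 (X2 a) = transv (Pi.single (Sum.inl 0) 1) a := by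
  apply Subtype.ext
  rw [in0_val, coe_transv, ← Matrix.mulVec_injective.eq_iff]
  funext x
  rw [sympTransvection_mulVec, sympForm_single_inl_right]
  ext i
  rcases i with i | i <;> fin_cases i <;> simp [fromBlocks_mulVec, X2]

end K

end Cfsg.Agent.H991.Sp4
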