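import Cfsg.Agent.H991.Sp4Root
import Cfsg.Agent.H991.QuatFour

/-!
# The field of definition of a double cover of `PSp_4(K)` in `Sp_4(F)` (helper991)

Task 45 (for S5788, S5786).
-/

set_option autoImplicit false

namespace Cfsg.Agent.H991.Sp4

open Cfsg Cfsg.Geo Matrix Module
open Cfsg.Agent.ClassicalGeometry.SympBasic Cfsg.Agent.H909

section F

variable {F : Type*} [Field F]

/-- transvections -/
abbrev tr (v : I4 → F) (c : F) : Matrix I4 I4 F := sympTransvection 2 v c

theorem tr_mulVec (v x : I4 → F) (c : F) : tr v c *ᵥ x = x + (c * sympForm 2 F x v) • v :=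
  sympTransvection_mulVec v x c

theorem exists_form_ne {v : I4 → F} (hv : v ≠ 0) : ∃ w, sympForm 2 F w v ≠ 0 := by
  by_contra hcon
  push Not at hcon
  exact hv (eq_zero_of_forall_sympForm_left hcon)

theorem tr_eq {v w : I4 → F} {a b : F} (hv : v ≠ 0) (ha : a ≠ 0) (h : tr v a = tr w b) :
    ∃ t : F, v = t • w := by
  obtain ⟨x, hx⟩ := exists_form_ne hv
  have h1 : tr v a *ᵥ x = tr w b *ᵥ x := by rw [h]
  rw [tr_mulVec, tr_mulVec, add_right_inj] at h1
  have h3 : a * sympForm 2 F x v ≠ 0 := mul_ne_zero ha hx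
  refine ⟨(a * sympForm 2 F x v)⁻¹ * (b * sympForm 2 F x w), ?_⟩
  rw [mul_smul, ← h1, smul_smul, inv_mul_cancel₀ h3, one_smul]

theorem tr_inj {v : I4 → F} {a b : F} (hv : v ≠ 0) (h : tr v a = tr v b) : a = b := by
  obtain ⟨x, hx⟩ := exists_form_ne hv
  have h1 : tr v a *ᵥ x = tr v b *ᵥ x := by rw [h]
  rw [tr_mulVec, tr_mulVec, add_right_inj] at h1
  have h2 : (a * sympForm 2 F x v - b * sympForm 2 F x v) • v = 0 := by rw [sub_smul, h1, sub_self]
  have h3 := (smul_eq_zero.1 h2).resolve_right hv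
  rw [← sub_mul] at h3
  exact sub_eq_zero.1 ((mul_eq_zero.1 h3).resolve_right hx)

/-- commuting transvections have orthogonal centres -/
theorem orth_of_comm {v w : I4 → F} {a b : F} (ha : a ≠ 0) (hb : b ≠ 0) (h : tr v a * tr w b = tr w b * tr v a) :
    sympForm 2 F v w = 0 := by
  by_contra hvw
  have hw : w ≠ 0 := by
    rintro rfl
    apply hvw
    simp
  have h1 : (tr v a * tr w b) *ᵥ v = (tr w b * tr v a) *ᵥ v := by rw [h]
  rw [← mulVec_mulVec, ← mulVec_mulVec, tr_mulVec w, tr_mulVec v v, sympForm_self, mul_zero, zero_smul, add_zero,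
    tr_mulVec w, tr_mulVec, sympForm_add_left, sympForm_smul_left, sympForm_self, zero_add] at h1
  have h2 : (a * (b * sympForm 2 F v w * sympForm 2 F w v)) • v = 0 := by
    have := add_eq_left.1 h1
    exact this
  have h3 : sympForm 2 F w v ≠ 0 := by rw [sympForm_swap]; exact neg_ne_zero.2 hvw
  have hv : v ≠ 0 := by
    rintro rfl
    apply hvw
    simp
  rcases smul_eq_zero.1 h2 with h4 | h4
  · exact mul_ne_zero ha (mul_ne_zero (mul_ne_zero hb hvw) h3) h4
  · exact hv h4

end F

variable {F : Type*} [Field F] {K : Type*} [Field K]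

section main

variable {P : Subgroup (GL I4 F)} {L : GL I4 F → SK K → Prop} (c : Cov P L)
include c

theorem exists_field [Finite K] (hP : P ≤ spGL 2 F) (h2 : (2 : F) ≠ 0) {r : ℕ} [CharP K r] (hr : Odd r) :
    ∃ (φ : K →+* F) (e : I4 → F) (κ : F), e ≠ 0 ∧ κ ≠ 0 ∧
      ∀ g ∈ P, κ * sympForm 2 F (ac g e) e ∈ φ.fieldRange := by
  classical
  have h2K : (2 : K) ≠ 0 := by
    intro h
    have h3 : r ∣ 2 := (CharP.cast_eq_zero_iff K r 2).1 (by exact_mod_cast h)
    have h4 : r ≠ 1 := CharP.char_ne_one K r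
    have h5 : r = 2 := (Nat.dvd_prime Nat.prime_two).1 h3 |>.resolve_left h4
    rw [h5] at hr
    exact absurd hr (by decide)
  have hr0 : (r : K) = 0 := CharP.cast_eq_zero K r
  have htr : ∀ (v : I4 → K) (a : K), (transv v a : SK K) ^ r = 1 := fun v a => by
    rw [transv_pow, hr0, zero_mul, transv_zero]
  choose T hT hTr using fun (v : I4 → K) (a : K) => c.exists_odd hr (htr v a)
  have T_conj : ∀ {g : GL I4 F} {s : SK K}, L g s → ∀ v a, g * T v a * g⁻¹ = T (s.1 *ᵥ v) a := by
    intro g s hg v a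
    refine c.odd_conj h2 hr (hT v a) hg ?_ (hTr _ _) (hTr _ _)
    rw [conj_transv]
    exact hT _ _
  have T_comm : ∀ {v w : I4 → K}, sympForm 2 K w v = 0 → ∀ a b, T v a * T w b = T w b * T v a :=
    fun {v w} h a b => c.odd_comm h2 hr (hT v a) (hT w b) (transv_comm h a b) (hTr _ _)
  have T_mul : ∀ (v : I4 → K) (a b : K), T v a * T v b = T v (a + b) := by
    intro v a b
    refine c.odd_eq h2 hr (s := transv v (a + b)) ?_ (hT _ _) ?_ (hTr _ _)
    · rw [← transv_mul]; exact c.mul (hT _ _) (hT _ _)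
    · have : Commute (T v a) (T v b) := T_comm (sympForm_self v) a b
      rw [this.mul_pow, hTr, hTr, one_mul]
  have T_smul : ∀ (v : I4 → K) (l a : K), T (l • v) a = T v (l ^ 2 * a) := by
    intro v l a
    refine c.odd_eq h2 hr (s := transv v (l ^ 2 * a)) ?_ (hT _ _) (hTr _ _) (hTr _ _)
    rw [← transv_smul]; exact hT _ _
  have T_ne : ∀ {v : I4 → K} {a : K}, v ≠ 0 → a ≠ 0 → T v a ≠ 1 := by
    intro v a hv ha h
    have h3 := hT v a
    rw [h] at h3
    obtain ⟨b, hb⟩ := (Cfsg.Agent.LieClassical.SympCenter.mem_center_iff 2 _).1 (c.ker h3)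
    -- `b = 1` and then `transv v a = 1`
    have hb1 : b = 1 := by
      have h4 : (transv v a : SK K).1 *ᵥ v = b • v := by rw [hb, Matrix.smul_mulVec, Matrix.one_mulVec]
      rw [transv_mulVec, sympForm_self, mul_zero, zero_smul, add_zero] at h4
      have h5 : (b - 1) • v = 0 := by rw [sub_smul, one_smul, ← h4, sub_self]
      exact sub_eq_zero.1 ((smul_eq_zero.1 h5).resolve_right hv)
    obtain ⟨x, hx⟩ := exists_form_ne hv
    have h4 : (transv v a : SK K).1 *ᵥ x = x := by rw [hb, hb1, one_smul, Matrix.one_mulVec]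
    rw [transv_mulVec, add_eq_left, smul_eq_zero] at h4
    rcases h4 with h4 | h4
    · exact mul_ne_zero ha hx h4
    · exact hv h4
  obtain ⟨u, huS, huu, hu1, hu1', hroot⟩ := root_transv c hP h2 (K := K) (r := r) hr
  have hE0 : (E0 : I4 → K) ≠ 0 := by
    intro h
    have := congrFun h (Sum.inl 0)
    simp [E0] at this
  obtain ⟨e, κ, he0, hκ0, hue, heq⟩ := hroot 1 (T E0 1) one_ne_zero (hT _ _) (hTr _ _) (T_ne hE0 one_ne_zero)
  have hnS : SA (-u) := huS.neg
  have hnn : (-u) * (-u) = 1 := by rw [neg_mul_neg, huu]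
  have hn1 : (-u) ≠ 1 := fun h => hu1' (by rw [← neg_neg u, h])
  have hn1' : (-u) ≠ -1 := fun h => hu1 (neg_injective h)
  have T_zero : ∀ v : I4 → K, T v 0 = 1 := by
    intro v
    refine c.odd_eq h2 hr (s := 1) ?_ c.one (hTr _ _) (one_pow r)
    have := hT v 0
    rwa [transv_zero] at this
  -- all elements of the root group have the same centre
  have hs : ∀ a : K, ∃ s : F, (T E0 a : Matrix I4 I4 F) = tr e s := by
    intro a
    by_cases ha : a = 0
    · refine ⟨0, ?_⟩
      rw [ha, T_zero, Units.val_one]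
      exact (sympTransvection_zero e).symm
    · obtain ⟨v, l, hv0, hl0, huv, hva⟩ := hroot a (T E0 a) ha (hT _ _) (hTr _ _) (T_ne hE0 ha)
      have h3 : sympForm 2 F e v = 0 := by
        apply orth_of_comm hκ0 hl0
        rw [show tr e κ = (T E0 1 : Matrix I4 I4 F) from heq.symm, show tr v l = (T E0 a : Matrix I4 I4 F) from hva.symm,
          ← Units.val_mul, ← Units.val_mul, T_comm (sympForm_self _)]
      obtain ⟨t, ht⟩ := prop_of_orth h2 hnS hnn hn1 hn1' (v := e) (w := v) (by rw [Matrix.neg_mulVec, hue]) he0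
        (by rw [Matrix.neg_mulVec, huv]) h3
      refine ⟨t ^ 2 * l, ?_⟩
      rw [hva, ht]
      exact sympTransvection_smul e t l
  choose s hs using hs
  have hs1 : s 1 = κ := tr_inj he0 (by rw [← hs, heq])
  have hs_add : ∀ a b, s (a + b) = s a + s b := by
    intro a b
    apply tr_inj he0
    rw [← hs, ← T_mul, Units.val_mul, hs, hs]
    exact sympTransvection_mul e (s a) (s b)
  have hs_zero : s 0 = 0 := by
    have := hs_add 0 0
    rw [add_zero] at this
    exact left_eq_add.1 this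
  -- conjugation
  have hconj : ∀ {g : GL I4 F} {y : SK K}, L g y → ∀ a, (T (y.1 *ᵥ E0) a : Matrix I4 I4 F) = tr (ac g e) (s a) := by
    intro g y hg a
    rw [← T_conj hg, Units.val_mul, Units.val_mul, hs]
    have h3 : (g : Matrix I4 I4 F) ∈ symplecticGroup (Fin 2) F := mem_spGL_iff_symplectic.1 (hP (c.mem hg))
    have h4 : (g : Matrix I4 I4 F) * tr e (s a) = tr (ac g e) (s a) * (g : Matrix I4 I4 F) :=
      mul_sympTransvection h3 e (s a)
    rw [h4, mul_assoc, ← Units.val_mul, mul_inv_cancel, Units.val_one, mul_one]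
  -- squares
  have hsq : ∀ (l a : K), κ * s (l ^ 2 * a) = s (l ^ 2) * s a := by
    intro l a
    by_cases hl : l = 0
    · rw [hl]
      simp [hs_zero]
    · obtain ⟨y, -, hy⟩ := exists_transvGroup_mulVec_eq (m := 2) (x := (E0 : I4 → K)) (y := l • E0) hE0
        (smul_ne_zero hl hE0)
      obtain ⟨g, hg⟩ := c.ex y
      have h3 : ∀ a, tr (ac g e) (s a) = tr e (s (l ^ 2 * a)) := by
        intro a
        rw [← hconj hg, hy, T_smul, hs]
      have hge : ac g e ≠ 0 := by
        intro h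
        apply he0
        rw [← ac_inv_ac g e, h]
        exact Matrix.mulVec_zero _
      obtain ⟨t, ht⟩ := tr_eq hge (by rw [hs1]; exact hκ0) (h3 1)
      have h4 : ∀ a, s (l ^ 2 * a) = t ^ 2 * s a := by
        intro a
        apply tr_inj he0
        rw [← h3, ht]
        exact sympTransvection_smul e t (s a)
      have h5 := h4 1
      rw [mul_one, hs1] at h5
      rw [h4 a, h5]; ring
  have hmul : ∀ a b : K, κ * s (a * b) = s a * s b := by
    intro a b
    obtain ⟨l, m, hlm⟩ := exists_sq_add_sq h2K a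
    rw [← hlm, add_mul, hs_add, hs_add, mul_add, add_mul, hsq, hsq]
  let φ : K →+* F :=
    { toFun := fun a => κ⁻¹ * s a
      map_one' := by rw [hs1, inv_mul_cancel₀ hκ0]
      map_mul' := fun a b => by
        have := hmul a b
        field_simp
        linear_combination this
      map_zero' := by rw [hs_zero, mul_zero]
      map_add' := fun a b => by rw [hs_add, mul_add] }
  have hφ : ∀ a, s a = κ * φ a := fun a => by
    show s a = κ * (κ⁻¹ * s a)
    rw [mul_inv_cancel_left₀ hκ0]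
  have hmemφ : ∀ a, φ a ∈ φ.fieldRange := fun a => ⟨a, rfl⟩
  refine ⟨φ, e, κ, he0, hκ0, ?_⟩
  intro g hgP
  obtain ⟨y, hy⟩ := c.surj g hgP
  have h1ne : s 1 ≠ 0 := by rw [hs1]; exact hκ0
  by_cases hd : sympForm 2 K E0 (y.1 *ᵥ E0) = 0
  · have h3 : sympForm 2 F (ac g e) e = 0 := by
      apply orth_of_comm h1ne h1ne
      rw [← hconj hy, ← hs, ← Units.val_mul, ← Units.val_mul, T_comm hd]
    rw [h3, mul_zero]
    exact zero_mem _
  · by_cases hf : sympForm 2 F e (ac g e) = 0
    · rw [sympForm_swap, hf, neg_zero, mul_zero]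
      exact zero_mem _
    set d := sympForm 2 K E0 (y.1 *ᵥ E0) with hd_def
    set b : K := (d ^ 2)⁻¹ with hb
    -- the element swapping the two root groups
    set n : SK K := transv E0 1 * transv (y.1 *ᵥ E0) b * transv E0 1 with hn
    set N : GL I4 F := T E0 1 * T (y.1 *ᵥ E0) b * T E0 1 with hN
    have hL : L N n := c.mul (c.mul (hT _ _) (hT _ _)) (hT _ _)
    have hnE : n.1 *ᵥ E0 = d⁻¹ • (y.1 *ᵥ E0) := by
      show ((transv E0 1 : SK K).1 * (transv (y.1 *ᵥ E0) b : SK K).1 * (transv E0 1 : SK K).1) *ᵥ E0 = _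
      rw [← mulVec_mulVec, ← mulVec_mulVec, transv_mulVec E0 E0, sympForm_self, mul_zero, zero_smul, add_zero,
        transv_mulVec, transv_mulVec, sympForm_add_left, sympForm_smul_left, sympForm_self,
        sympForm_swap (y.1 *ᵥ E0) E0, ← hd_def, hb]
      have e1 : (d ^ 2)⁻¹ * d = d⁻¹ := by field_simp
      have e2 : (1 : K) * (0 + (d ^ 2)⁻¹ * d * -d) = -1 := by
        rw [e1, one_mul, zero_add, mul_neg, inv_mul_cancel₀ hd]
      rw [e1] at e2 ⊢
      rw [e2]
      module
    have h3 := hconj hL 1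
    rw [hnE, T_smul, mul_one] at h3
    have h4 := hconj hy (d⁻¹ ^ 2)
    rw [h3] at h4
    -- `N e` is a multiple of `g e`
    have hNe0 : ac N e ≠ 0 := by
      intro h
      apply he0
      rw [← ac_inv_ac N e, h]
      exact Matrix.mulVec_zero _
    obtain ⟨ν, hν⟩ := tr_eq hNe0 h1ne h4
    have h5 : ν ^ 2 * s 1 = s (d⁻¹ ^ 2) := by
      have hge : ac g e ≠ 0 := by
        intro h
        apply he0
        rw [← ac_inv_ac g e, h]
        exact Matrix.mulVec_zero _
      apply tr_inj hge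
      rw [← h4, hν]
      exact (sympTransvection_smul _ _ _).symm
    have h6 : ν ^ 2 = φ d⁻¹ ^ 2 := by
      rw [hφ 1, hφ (d⁻¹ ^ 2), map_one, map_pow] at h5
      have : κ * (ν ^ 2) = κ * φ d⁻¹ ^ 2 := by linear_combination h5
      exact mul_left_cancel₀ hκ0 this
    have hνm : ν ∈ φ.fieldRange := by
      rcases sq_eq_sq_iff_eq_or_eq_neg.1 h6 with h | h
      · rw [h]; exact hmemφ _
      · rw [h]; exact neg_mem (hmemφ _)
    -- compute `N e`
    have h7 : ac N e = ac (T E0 1) (ac (T (y.1 *ᵥ E0) b) (ac (T E0 1) e)) := by rw [hN, ac_mul, ac_mul]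
    have h8 : ∀ x, ac (T E0 1) x = x + (κ * sympForm 2 F x e) • e := by
      intro x
      unfold ac
      rw [hs, hs1, tr_mulVec]
    have h9 : ∀ x, ac (T (y.1 *ᵥ E0) b) x = x + (s b * sympForm 2 F x (ac g e)) • ac g e := by
      intro x
      show (T (y.1 *ᵥ E0) b : Matrix I4 I4 F) *ᵥ x = _
      rw [hconj hy, tr_mulVec]
    rw [h8 e, sympForm_self, mul_zero, zero_smul, add_zero, h9, h8] at h7
    have h10 : sympForm 2 F (ac N e) e = ν * sympForm 2 F (ac g e) e := by rw [hν, sympForm_smul_left]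
    rw [h7] at h10
    simp only [sympForm_add_left, sympForm_smul_left, sympForm_self, mul_zero, add_zero, zero_add] at h10
    have hge' : sympForm 2 F (ac g e) e ≠ 0 := by
      rw [sympForm_swap]; exact neg_ne_zero.2 hf
    have h11 : ν = s b * sympForm 2 F e (ac g e) := (mul_right_cancel₀ hge' h10).symm
    have hφb : φ b ≠ 0 := by
      rw [Ne, map_eq_zero, hb, inv_eq_zero, pow_eq_zero_iff two_ne_zero]
      exact hd
    have h12 : κ * sympForm 2 F (ac g e) e = - (ν * (φ b)⁻¹) := by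
      rw [h11, hφ b, sympForm_swap (ac g e) e]
      field_simp
    rw [h12]
    exact neg_mem (mul_mem hνm (inv_mem (hmemφ b)))

end main

end Cfsg.Agent.H991.Sp4
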