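import Cfsg.Agent.H909.SpInvol

/-!
# Linear algebra in a 4-dimensional symplectic space (helper991)

Task 45 (for S5788, S5786).
-/

set_option autoImplicit false

namespace Cfsg.Agent.H991.Sp4

open Cfsg Cfsg.Geo Matrix Module
open Cfsg.Agent.ClassicalGeometry.SympBasic Cfsg.Agent.H909

variable {F : Type*} [Field F]

/-- the 4-dimensional index type -/
abbrev I4 : Type := Fin 2 ⊕ Fin 2

/-- the `-1`-eigenspace -/
def Eig (u : Matrix I4 I4 F) : Submodule F (I4 → F) := LinearMap.ker (u + 1).mulVecLin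

theorem mem_Eig {u : Matrix I4 I4 F} {v : I4 → F} : v ∈ Eig u ↔ u *ᵥ v = -v := by
  rw [Eig, LinearMap.mem_ker, mulVecLin_apply, Matrix.add_mulVec, Matrix.one_mulVec, add_eq_zero_iff_eq_neg]

theorem finrank_Eig (h2 : (2 : F) ≠ 0) {u : Matrix I4 I4 F} (hu : SA u) (huu : u * u = 1) (h1 : u ≠ 1)
    (h1' : u ≠ -1) : finrank F (Eig u) = 2 := by
  have hh : (2 : F)⁻¹ * 2 = 1 := inv_mul_cancel₀ h2
  set E : Matrix I4 I4 F := (2 : F)⁻¹ • (1 - u) with hE
  have hSA : SA E := (SA.one.sub hu).smul _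
  have hid : E * E = E := by
    rw [hE, smul_mul_smul_comm]
    have h5 : (1 - u) * (1 - u) = (2 : F) • (1 - u) := by
      rw [two_smul]
      calc (1 - u) * (1 - u) = 1 - u + (u * u - u) := by noncomm_ring
        _ = _ := by rw [huu]
    rw [h5, smul_smul, mul_assoc, hh, mul_one]
  have hr : LinearMap.range E.mulVecLin = Eig u := by
    ext v
    rw [mem_Eig]
    constructor
    · rintro ⟨y, rfl⟩
      rw [mulVecLin_apply, mulVec_mulVec, hE, mul_smul_comm, mul_sub, mul_one, huu, ← Matrix.neg_mulVec, ← smul_neg,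
        neg_sub]
    · intro hv
      refine ⟨v, ?_⟩
      rw [mulVecLin_apply, hE, Matrix.smul_mulVec, Matrix.sub_mulVec, Matrix.one_mulVec, hv, sub_neg_eq_add,
        ← two_smul F v, smul_smul, hh, one_smul]
  have hE0 : E ≠ 0 := by
    intro h
    apply h1
    rw [hE, smul_eq_zero, or_iff_right (inv_ne_zero h2), sub_eq_zero] at h
    exact h.symm
  have hE1 : E ≠ 1 := by
    intro h
    apply h1'
    have h3 : (1 - u : Matrix I4 I4 F) = (2 : F) • E := by
      rw [hE, smul_smul, mul_inv_cancel₀ h2, one_smul]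
    rw [h, two_smul] at h3
    calc u = 1 - (1 - u) := by abel
      _ = 1 - (1 + 1) := by rw [h3]
      _ = -1 := by abel
  obtain ⟨k, hk⟩ := rank_even hSA hid
  have hle4 : E.rank ≤ 4 := by
    have := E.rank_le_card_width
    simpa using this
  have hk2 : E.rank = 2 := by
    have hk0 : E.rank ≠ 0 := fun h => hE0 (eq_zero_of_rank h)
    have hk4 : E.rank ≠ 2 + 2 := fun h => hE1 (eq_one_of_rank hid h)
    omega
  rw [← hr]
  exact hk2

theorem mulVec_Eig {u A : Matrix I4 I4 F} (hA : A * u = u * A) {v : I4 → F} (hv : v ∈ Eig u) :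
    A *ᵥ v ∈ Eig u := by
  rw [mem_Eig] at hv ⊢
  rw [mulVec_mulVec, ← hA, ← mulVec_mulVec, hv, Matrix.mulVec_neg]

/-- a 2-dimensional space is spanned by two independent vectors -/
theorem span_pair {W : Submodule F (I4 → F)} (hW : finrank F W = 2) {x y : I4 → F} (hx : x ∈ W) (hy : y ∈ W)
    (hx0 : x ≠ 0) (hxy : ∀ c : F, y ≠ c • x) {v : I4 → F} (hv : v ∈ W) : ∃ a b : F, v = a • x + b • y := by
  have hli : LinearIndependent F ![x, y] := by
    rw [LinearIndependent.pair_iff]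
    intro s t hst
    have ht : t = 0 := by
      by_contra ht
      apply hxy (-(t⁻¹ * s))
      have : t⁻¹ • (s • x + t • y) = 0 := by rw [hst, smul_zero]
      rw [smul_add, smul_smul, smul_smul, inv_mul_cancel₀ ht, one_smul] at this
      rw [neg_smul]
      exact eq_neg_of_add_eq_zero_right this
    rw [ht, zero_smul, add_zero] at hst
    exact ⟨(smul_eq_zero.1 hst).resolve_right hx0, ht⟩
  have hle : Submodule.span F (Set.range ![x, y]) ≤ W := by
    rw [Submodule.span_le]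
    rintro _ ⟨i, rfl⟩
    fin_cases i
    · exact hx
    · exact hy
  have heq : Submodule.span F (Set.range ![x, y]) = W := by
    apply Submodule.eq_of_le_of_finrank_eq hle
    rw [finrank_span_eq_card hli, hW, Fintype.card_fin]
  rw [← heq] at hv
  rw [show Set.range ![x, y] = {x, y} by simp [Matrix.range_cons, Set.pair_comm], Submodule.mem_span_pair] at hv
  obtain ⟨a, b, h⟩ := hv
  exact ⟨a, b, h.symm⟩

/-- `C` is a scalar on an eigenspace of a non-central involution, or its centralizer is commutative there. -/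
theorem comm_or_scalar {W : Submodule F (I4 → F)} (hW : finrank F W = 2) {A B C : Matrix I4 I4 F}
    (hAW : ∀ v ∈ W, A *ᵥ v ∈ W) (hBW : ∀ v ∈ W, B *ᵥ v ∈ W) (hCW : ∀ v ∈ W, C *ᵥ v ∈ W)
    (hAC : ∀ v ∈ W, A *ᵥ (C *ᵥ v) = C *ᵥ (A *ᵥ v)) (hBC : ∀ v ∈ W, B *ᵥ (C *ᵥ v) = C *ᵥ (B *ᵥ v)) :
    (∃ c : F, ∀ v ∈ W, C *ᵥ v = c • v) ∨ (∀ v ∈ W, A *ᵥ (B *ᵥ v) = B *ᵥ (A *ᵥ v)) := by
  classical
  by_cases hs : ∀ v ∈ W, ∃ c : F, C *ᵥ v = c • v
  · left
    obtain ⟨x, hx, hx0⟩ : ∃ x ∈ W, x ≠ 0 := by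
      by_contra hcon
      push Not at hcon
      have : W = ⊥ := (Submodule.eq_bot_iff _).2 hcon
      rw [this, finrank_bot] at hW
      omega
    obtain ⟨c, hc⟩ := hs x hx
    refine ⟨c, fun v hv => ?_⟩
    by_cases hvx : ∃ d : F, v = d • x
    · obtain ⟨d, rfl⟩ := hvx
      rw [Matrix.mulVec_smul, hc, smul_comm]
    · push Not at hvx
      obtain ⟨d, hd⟩ := hs v hv
      obtain ⟨e, he⟩ := hs (x + v) (W.add_mem hx hv)
      rw [Matrix.mulVec_add, hc, hd, smul_add] at he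
      have h1 : (d - e) • v = (e - c) • x := by
        rw [sub_smul, sub_smul]
        have : d • v - e • v - (e • x - c • x) = c • x + d • v - (e • x + e • v) := by abel
        rw [← sub_eq_zero, this, he, sub_self]
      have h2 : d = e := by
        by_contra hne
        have h3 : d - e ≠ 0 := sub_ne_zero.2 hne
        apply hvx ((d - e)⁻¹ * (e - c))
        rw [mul_smul, ← h1, smul_smul, inv_mul_cancel₀ h3, one_smul]
      rw [h2, sub_self, zero_smul, eq_comm, smul_eq_zero, or_iff_left hx0, sub_eq_zero] at h1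
      rw [hd, h2, h1]
  · right
    push Not at hs
    obtain ⟨x, hx, hxc⟩ := hs
    have hx0 : x ≠ 0 := fun h => hxc 0 (by rw [h, Matrix.mulVec_zero, smul_zero])
    obtain ⟨a, a', ha⟩ := span_pair hW hx (hCW x hx) hx0 hxc (hAW x hx)
    obtain ⟨b, b', hb⟩ := span_pair hW hx (hCW x hx) hx0 hxc (hBW x hx)
    have key : ∀ v ∈ W, ∃ s t : F, v = s • x + t • (C *ᵥ x) := fun v hv =>
      span_pair hW hx (hCW x hx) hx0 hxc hv
    have h1 : A *ᵥ (B *ᵥ x) = B *ᵥ (A *ᵥ x) := by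
      have e1 : A *ᵥ (B *ᵥ x) = b • (A *ᵥ x) + b' • (C *ᵥ (A *ᵥ x)) := by
        rw [hb, Matrix.mulVec_add, Matrix.mulVec_smul, Matrix.mulVec_smul, hAC x hx]
      have e2 : B *ᵥ (A *ᵥ x) = a • (B *ᵥ x) + a' • (C *ᵥ (B *ᵥ x)) := by
        rw [ha, Matrix.mulVec_add, Matrix.mulVec_smul, Matrix.mulVec_smul, hBC x hx]
      rw [e1, e2, ha, hb]
      simp only [Matrix.mulVec_add, Matrix.mulVec_smul, smul_add, smul_smul]
      rw [mul_comm a b, mul_comm a b', mul_comm a' b, mul_comm a' b']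
      abel
    intro v hv
    obtain ⟨s, t, rfl⟩ := key v hv
    simp only [Matrix.mulVec_add, Matrix.mulVec_smul]
    rw [h1]
    congr 2
    rw [hBC x hx, hAC _ (hBW x hx), hAC x hx, hBC _ (hAW x hx), h1]

/-- preserving the form -/
def Iso (A : Matrix I4 I4 F) : Prop := ∀ u v, sympForm 2 F (A *ᵥ u) (A *ᵥ v) = sympForm 2 F u v

/-- eigenspaces are orthogonal -/
theorem orth {u : Matrix I4 I4 F} (h2 : (2 : F) ≠ 0) (hu : SA u) {v w : I4 → F} (hv : u *ᵥ v = -v)
    (hw : u *ᵥ w = w) : sympForm 2 F v w = 0 := by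
  have h := hu v w
  rw [hv, hw, sympForm_neg_left] at h
  have : (2 : F) * sympForm 2 F v w = 0 := by rw [two_mul]; nth_rewrite 1 [← h]; ring
  exact (mul_eq_zero.1 this).resolve_left h2

theorem decomp {u : Matrix I4 I4 F} (h2 : (2 : F) ≠ 0) (huu : u * u = 1) (v : I4 → F) :
    ∃ x y : I4 → F, u *ᵥ x = -x ∧ u *ᵥ y = y ∧ v = x + y := by
  refine ⟨(2 : F)⁻¹ • (v - u *ᵥ v), (2 : F)⁻¹ • (v + u *ᵥ v), ?_, ?_, ?_⟩
  · rw [Matrix.mulVec_smul, Matrix.mulVec_sub, mulVec_mulVec, huu, Matrix.one_mulVec, ← smul_neg, neg_sub]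
  · rw [Matrix.mulVec_smul, Matrix.mulVec_add, mulVec_mulVec, huu, Matrix.one_mulVec, add_comm]
  · rw [← smul_add, sub_add_add_cancel, ← two_smul F v, smul_smul, inv_mul_cancel₀ h2, one_smul]

/-- the form is non-degenerate on an eigenspace -/
theorem eig_nondeg {u : Matrix I4 I4 F} (h2 : (2 : F) ≠ 0) (hu : SA u) (huu : u * u = 1) {v : I4 → F}
    (hv : u *ᵥ v = -v) (hv0 : v ≠ 0) : ∃ w, u *ᵥ w = -w ∧ sympForm 2 F w v ≠ 0 := by
  by_contra hcon
  push Not at hcon
  apply hv0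
  apply eq_zero_of_forall_sympForm_left
  intro w
  obtain ⟨x, y, hx, hy, rfl⟩ := decomp h2 huu w
  rw [sympForm_add_left, hcon x hx, zero_add, sympForm_swap, orth h2 hu hv hy, neg_zero]

theorem exists_eig {u : Matrix I4 I4 F} (h2 : (2 : F) ≠ 0) (huu : u * u = 1) (h1 : u ≠ 1) :
    ∃ v, u *ᵥ v = -v ∧ v ≠ 0 := by
  by_contra hcon
  push Not at hcon
  apply h1
  rw [← Matrix.mulVec_injective.eq_iff]
  funext v
  obtain ⟨x, y, hx, hy, rfl⟩ := decomp h2 huu v
  rw [hcon x hx, zero_add, hy, Matrix.one_mulVec]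

/-- a scalar symplectic element of odd order is trivial -/
theorem scalar_trivial {u C : Matrix I4 I4 F} (h2 : (2 : F) ≠ 0) (hu : SA u) (huu : u * u = 1) (h1 : u ≠ 1)
    (hC : Iso C) {r : ℕ} (hr : Odd r) (hCr : C ^ r = 1) {c : F} (hc : ∀ v, u *ᵥ v = -v → C *ᵥ v = c • v) :
    ∀ v, u *ᵥ v = -v → C *ᵥ v = v := by
  obtain ⟨x, hx, hx0⟩ := exists_eig h2 huu h1
  obtain ⟨y, hy, hxy⟩ := eig_nondeg h2 hu huu hx hx0
  have h3 := hC y x
  rw [hc x hx, hc y hy, sympForm_smul_left, sympForm_smul_right, ← mul_assoc] at h3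
  have h4 : c * c = 1 := mul_right_cancel₀ hxy (by rw [h3, one_mul])
  have h5 : ∀ n : ℕ, C ^ n *ᵥ x = c ^ n • x := by
    intro n
    induction n with
    | zero => rw [pow_zero, pow_zero, Matrix.one_mulVec, one_smul]
    | succ n ih => rw [pow_succ', ← mulVec_mulVec, ih, Matrix.mulVec_smul, hc x hx, smul_smul, pow_succ]
  have h6 := h5 r
  rw [hCr, Matrix.one_mulVec] at h6
  have h7 : c ^ r = 1 := by
    have : (c ^ r - 1) • x = 0 := by rw [sub_smul, ← h6, one_smul, sub_self]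
    exact sub_eq_zero.1 ((smul_eq_zero.1 this).resolve_right hx0)
  have h8 : c = 1 := by
    obtain ⟨k, rfl⟩ := hr
    rw [pow_succ, pow_mul, pow_two, h4, one_pow, one_mul] at h7
    exact h7
  intro v hv
  rw [hc v hv, h8, one_smul]

end Cfsg.Agent.H991.Sp4
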