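import Cfsg.Agent.H991.Sp4Tr

/-!
# Two commuting pairs of quaternions in `Sp_4` (helper991)

Task 45 (for S5788, S5786).
-/

set_option autoImplicit false

namespace Cfsg.Agent.H991.Sp4

open Cfsg Cfsg.Geo Matrix Module
open Cfsg.Agent.ClassicalGeometry.SympBasic Cfsg.Agent.H909

variable {F : Type*} [Field F]

/-- the action of a matrix group element -/
def ac (g : GL I4 F) (v : I4 → F) : I4 → F := (g : Matrix I4 I4 F) *ᵥ v

theorem ac_def (g : GL I4 F) (v : I4 → F) : (g : Matrix I4 I4 F) *ᵥ v = ac g v := rfl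

theorem ac_mul (g h : GL I4 F) (v : I4 → F) : ac (g * h) v = ac g (ac h v) := by
  unfold ac; rw [Units.val_mul, mulVec_mulVec]

theorem ac_one (v : I4 → F) : ac (1 : GL I4 F) v = v := by
  unfold ac; rw [Units.val_one, Matrix.one_mulVec]

theorem ac_neg_one (v : I4 → F) : ac (-1 : GL I4 F) v = -v := by
  unfold ac; rw [Units.val_neg, Units.val_one, Matrix.neg_mulVec, Matrix.one_mulVec]

theorem ac_smul (g : GL I4 F) (c : F) (v : I4 → F) : ac g (c • v) = c • ac g v := Matrix.mulVec_smul _ _ _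

theorem ac_neg (g : GL I4 F) (v : I4 → F) : ac g (-v) = - ac g v := Matrix.mulVec_neg _ _

theorem ac_inv_ac (g : GL I4 F) (v : I4 → F) : ac g⁻¹ (ac g v) = v := by
  rw [← ac_mul, inv_mul_cancel, ac_one]

theorem ac_ac_inv (g : GL I4 F) (v : I4 → F) : ac g (ac g⁻¹ v) = v := by
  rw [← ac_mul, mul_inv_cancel, ac_one]

theorem ac_inj {g : GL I4 F} {v w : I4 → F} (h : ac g v = ac g w) : v = w := by
  rw [← ac_inv_ac g v, h, ac_inv_ac]

theorem ac_ext {g h : GL I4 F} (e : ∀ v, ac g v = ac h v) : g = h := by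
  apply Units.ext
  rw [← Matrix.mulVec_injective.eq_iff]
  exact funext e

theorem ac_Eig {w g : GL I4 F} (h : g * w = w * g) {v : I4 → F} (hv : ac w v = -v) :
    ac w (ac g v) = - ac g v := by
  rw [← ac_mul, ← h, ac_mul, hv, ac_neg]

/-- The two quaternion groups: one is trivial where the other one is not. -/
theorem quat_ne (h2 : (2 : F) ≠ 0) {i j i' j' w : GL I4 F} (hw : i * j = w * (j * i))
    (hw' : i' * j' = w * (j' * i')) (hwS : SA (w : Matrix I4 I4 F)) (hww : w * w = 1) (hw1 : w ≠ 1)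
    (hw1' : w ≠ -1) (h1 : i * i' = i' * i) (h2' : i * j' = j' * i) (h3 : j * i' = i' * j)
    (h4 : j * j' = j' * j) : False := by
  -- everything commutes with `w`
  have hwe : w = i * j * (j * i)⁻¹ := eq_mul_inv_of_mul_eq hw.symm
  have hwe' : w = i' * j' * (j' * i')⁻¹ := eq_mul_inv_of_mul_eq hw'.symm
  have c1 : Commute i i' := h1
  have c2 : Commute i j' := h2'
  have c3 : Commute j i' := h3
  have c4 : Commute j j' := h4
  have ci : Commute i w := by
    rw [hwe']; exact (c1.mul_right c2).mul_right (c2.mul_right c1).inv_right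
  have cj : Commute j w := by
    rw [hwe']; exact (c3.mul_right c4).mul_right (c4.mul_right c3).inv_right
  have ci' : Commute i' w := by
    rw [hwe]; exact (c1.symm.mul_right c3.symm).mul_right (c3.symm.mul_right c1.symm).inv_right
  have cj' : Commute j' w := by
    rw [hwe]; exact (c2.symm.mul_right c4.symm).mul_right (c4.symm.mul_right c2.symm).inv_right
  have hwm : (w : Matrix I4 I4 F) * w = 1 := by rw [← Units.val_mul, hww, Units.val_one]
  have hm1 : (w : Matrix I4 I4 F) ≠ 1 := fun h => hw1 (Units.ext h)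
  have hm1' : (w : Matrix I4 I4 F) ≠ -1 := fun h => hw1' (Units.ext (by rw [h, Units.val_neg, Units.val_one]))
  obtain ⟨x, hx, hx0⟩ := exists_eig h2 hwm hm1
  have hxe : ac w x = -x := hx
  -- a non-zero vector is not its negative
  have hne : ∀ y : I4 → F, y ≠ 0 → y ≠ -y := by
    intro y hy h
    apply hy
    have : (2 : F) • y = 0 := by rw [two_smul]; nth_rewrite 1 [h]; exact neg_add_cancel y
    exact (smul_eq_zero.1 this).resolve_left h2
  have hE : ∀ {g : GL I4 F}, Commute g w → ∀ v ∈ Eig (w : Matrix I4 I4 F), (g : Matrix I4 I4 F) *ᵥ v ∈ Eig (w : Matrix I4 I4 F) :=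
    fun {g} hg v hv => mem_Eig.2 (ac_Eig hg (mem_Eig.1 hv))
  rcases comm_or_scalar (finrank_Eig h2 hwS hwm hm1 hm1') (A := (i' : Matrix I4 I4 F))
    (B := (j' : Matrix I4 I4 F)) (C := (i : Matrix I4 I4 F)) (hE ci') (hE cj') (hE ci)
    (fun v _ => by rw [ac_def, ac_def, ac_def, ac_def, ← ac_mul, ← h1, ac_mul])
    (fun v _ => by rw [ac_def, ac_def, ac_def, ac_def, ← ac_mul, ← h2', ac_mul]) with ⟨c, hc⟩ | hcom
  · have e1 : ac i (ac j x) = c • ac j x := hc _ (hE cj x (mem_Eig.2 hx))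
    have e2 : ac i x = c • x := hc x (mem_Eig.2 hx)
    have e3 : ac i (ac j x) = - ac j (ac i x) := by
      rw [← ac_mul, hw, ac_mul, ac_mul]
      exact ac_Eig cj (ac_Eig ci hxe)
    rw [e1, e2, ac_smul] at e3
    refine hne (c • ac j x) ?_ e3
    rw [← e1]
    intro h0
    apply hx0
    have h5 : ac i (ac j x) = ac i (ac j 0) := by
      rw [h0]
      unfold ac
      rw [Matrix.mulVec_zero, Matrix.mulVec_zero]
    exact ac_inj (ac_inj h5)
  · have e1 : ac i' (ac j' x) = ac j' (ac i' x) := hcom x (mem_Eig.2 hx)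
    have e3 : ac i' (ac j' x) = - ac j' (ac i' x) := by
      rw [← ac_mul, hw', ac_mul, ac_mul]
      exact ac_Eig cj' (ac_Eig ci' hxe)
    rw [e1] at e3
    refine hne (ac j' (ac i' x)) ?_ e3
    intro h0
    apply hx0
    have h5 : ac j' (ac i' x) = ac j' (ac i' 0) := by
      rw [h0]
      unfold ac
      rw [Matrix.mulVec_zero, Matrix.mulVec_zero]
    exact ac_inj (ac_inj h5)

/-- An element of odd order commuting with a quaternion pair `i', j'` is trivial where `i', j'` anticommute. -/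
theorem quat_fix (h2 : (2 : F) ≠ 0) {i' j' w C : GL I4 F} (hC : C ∈ spGL 2 F)
    (hw' : i' * j' = w * (j' * i')) (hwS : SA (w : Matrix I4 I4 F)) (hww : w * w = 1) (hw1 : w ≠ 1)
    (hw1' : w ≠ -1) (hiw : i' * w = w * i') (hjw : j' * w = w * j') (h1 : C * i' = i' * C)
    (h3 : C * j' = j' * C) {r : ℕ} (hr : Odd r) (hCr : C ^ r = 1) {v : I4 → F} (hv : ac w v = -v) :
    ac C v = v := by
  have hwe' : w = i' * j' * (j' * i')⁻¹ := eq_mul_inv_of_mul_eq hw'.symm
  have c1 : Commute C i' := h1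
  have c3 : Commute C j' := h3
  have cC : Commute C w := by
    rw [hwe']; exact (c1.mul_right c3).mul_right (c3.mul_right c1).inv_right
  have hwm : (w : Matrix I4 I4 F) * w = 1 := by rw [← Units.val_mul, hww, Units.val_one]
  have hm1 : (w : Matrix I4 I4 F) ≠ 1 := fun h => hw1 (Units.ext h)
  have hm1' : (w : Matrix I4 I4 F) ≠ -1 := fun h => hw1' (Units.ext (by rw [h, Units.val_neg, Units.val_one]))
  obtain ⟨x, hx, hx0⟩ := exists_eig h2 hwm hm1
  have hxe : ac w x = -x := hx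
  have hE : ∀ {g : GL I4 F}, Commute g w → ∀ v ∈ Eig (w : Matrix I4 I4 F), (g : Matrix I4 I4 F) *ᵥ v ∈ Eig (w : Matrix I4 I4 F) :=
    fun {g} hg v hv => mem_Eig.2 (ac_Eig hg (mem_Eig.1 hv))
  rcases comm_or_scalar (finrank_Eig h2 hwS hwm hm1 hm1') (A := (i' : Matrix I4 I4 F))
    (B := (j' : Matrix I4 I4 F)) (C := (C : Matrix I4 I4 F)) (hE hiw) (hE hjw) (hE cC)
    (fun v _ => by rw [ac_def, ac_def, ac_def, ac_def, ← ac_mul, ← h1, ac_mul])
    (fun v _ => by rw [ac_def, ac_def, ac_def, ac_def, ← ac_mul, ← h3, ac_mul]) with ⟨c, hc⟩ | hcom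
  · exact scalar_trivial h2 hwS hwm hm1 (Iso.of_mem hC) hr
      (by rw [← Units.val_pow_eq_pow_val, hCr, Units.val_one]) (fun v hv => hc v (mem_Eig.2 hv)) v hv
  · exfalso
    have e1 : ac i' (ac j' x) = ac j' (ac i' x) := hcom x (mem_Eig.2 hx)
    have e3 : ac i' (ac j' x) = - ac j' (ac i' x) := by
      rw [← ac_mul, hw', ac_mul, ac_mul]
      exact ac_Eig hjw (ac_Eig hiw hxe)
    rw [e1] at e3
    have h4 : (2 : F) • ac j' (ac i' x) = 0 := by rw [two_smul]; nth_rewrite 1 [e3]; exact neg_add_cancel _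
    have h0 := (smul_eq_zero.1 h4).resolve_left h2
    apply hx0
    have h5 : ac j' (ac i' x) = ac j' (ac i' 0) := by
      rw [h0]
      unfold ac
      rw [Matrix.mulVec_zero, Matrix.mulVec_zero]
    exact ac_inj (ac_inj h5)

end Cfsg.Agent.H991.Sp4
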