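import Cfsg.Agent.H991.Sp4Cov

/-!
# Long root elements lift to transvections (helper991)

Task 45 (for S5788, S5786).
-/

set_option autoImplicit false

namespace Cfsg.Agent.H991.Sp4

open Cfsg Cfsg.Geo Matrix Module
open Cfsg.Agent.ClassicalGeometry.SympBasic Cfsg.Agent.H909

section K

variable {K : Type*} [Field K]

/-- the symplectic group over `K` -/
abbrev SK (K : Type*) [Field K] : Type _ := symplecticGroup (Fin 2) K

theorem SK_ext {s t : SK K} (h : ∀ v, s.1 *ᵥ v = t.1 *ᵥ v) : s = t := by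
  apply Subtype.ext
  rw [← Matrix.mulVec_injective.eq_iff]
  exact funext h

theorem transv_mulVec (v x : I4 → K) (c : K) :
    (transv v c : SK K).1 *ᵥ x = x + (c * sympForm 2 K x v) • v := sympTransvection_mulVec v x c

theorem transv_mul (v : I4 → K) (a b : K) : (transv v a : SK K) * transv v b = transv v (a + b) :=
  Subtype.ext (sympTransvection_mul v a b)

theorem transv_zero (v : I4 → K) : (transv v 0 : SK K) = 1 := Subtype.ext (sympTransvection_zero v)

theorem transv_pow (v : I4 → K) (a : K) (n : ℕ) : (transv v a : SK K) ^ n = transv v (n * a) := by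
  induction n with
  | zero => rw [pow_zero, Nat.cast_zero, zero_mul, transv_zero]
  | succ n ih => rw [pow_succ, ih, transv_mul, Nat.cast_succ, add_mul, one_mul]

theorem transv_smul (v : I4 → K) (a c : K) : (transv (a • v) c : SK K) = transv v (a ^ 2 * c) :=
  Subtype.ext (sympTransvection_smul v a c)

theorem mul_transv (s : SK K) (v : I4 → K) (c : K) : s * transv v c = transv (s.1 *ᵥ v) c * s :=
  Subtype.ext (mul_sympTransvection s.2 v c)

theorem conj_transv (s : SK K) (v : I4 → K) (c : K) : s * transv v c * s⁻¹ = transv (s.1 *ᵥ v) c := by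
  rw [mul_transv, mul_inv_cancel_right]

theorem transv_comm {v w : I4 → K} (h : sympForm 2 K w v = 0) (a b : K) :
    (transv v a : SK K) * transv w b = transv w b * transv v a := by
  rw [mul_transv, transv_mulVec, h, mul_zero, zero_smul, add_zero]

/-- Siegel elements -/
def se (e u : I4 → K) : SK K := transv (e + u) 1 * transv e (-1) * transv u (-1)

theorem se_mulVec {e u : I4 → K} (h : sympForm 2 K e u = 0) (v : I4 → K) :
    (se e u).1 *ᵥ v = v + sympForm 2 K v e • u + sympForm 2 K v u • e := by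
  have h' : sympForm 2 K u e = 0 := by rw [sympForm_swap, h, neg_zero]
  show ((transv (e + u) 1 : SK K).1 * (transv e (-1) : SK K).1 * (transv u (-1) : SK K).1) *ᵥ v = _
  rw [← mulVec_mulVec, ← mulVec_mulVec, transv_mulVec, transv_mulVec, transv_mulVec]
  simp only [sympForm_add_left, sympForm_add_right, sympForm_smul_left, sympForm_self, h, h']
  ext i
  simp only [Pi.add_apply, Pi.smul_apply, smul_eq_mul]
  ring

/-- basis vectors -/
def E0 : I4 → K := Pi.single (Sum.inl 0) 1
/-- basis vectors -/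
def E1 : I4 → K := Pi.single (Sum.inl 1) 1
/-- basis vectors -/
def F1 : I4 → K := Pi.single (Sum.inr 1) 1

theorem form_E0_E1 : sympForm 2 K E0 E1 = 0 := by
  rw [E1, sympForm_single_inl_right, E0]; simp

theorem form_E0_F1 : sympForm 2 K E0 F1 = 0 := by
  rw [F1, sympForm_single_inr_right, E0]; simp

theorem form_F1_E1 : sympForm 2 K F1 E1 = 1 := by
  rw [E1, sympForm_single_inl_right, F1]; simp

theorem form_E1_F1 : sympForm 2 K E1 F1 = -1 := by
  rw [sympForm_swap, form_F1_E1]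

theorem form_F1_E0 : sympForm 2 K F1 E0 = 0 := by
  rw [sympForm_swap, form_E0_F1, neg_zero]

theorem form_E1_E0 : sympForm 2 K E1 E0 = 0 := by
  rw [sympForm_swap, form_E0_E1, neg_zero]

theorem heis (b : K) : se (E0 : I4 → K) E1 * se E0 (b • F1) =
    transv E0 (2 * b) * (se E0 (b • F1) * se E0 E1) := by
  have h1 : sympForm 2 K E0 (b • F1) = 0 := by rw [sympForm_smul_right, form_E0_F1, mul_zero]
  apply SK_ext
  intro v
  show ((se (E0 : I4 → K) E1).1 * (se E0 (b • F1)).1) *ᵥ v =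
    ((transv E0 (2 * b) : SK K).1 * ((se E0 (b • F1)).1 * (se (E0 : I4 → K) E1).1)) *ᵥ v
  rw [← mulVec_mulVec, ← mulVec_mulVec, ← mulVec_mulVec]
  simp only [se_mulVec h1, se_mulVec form_E0_E1, transv_mulVec]
  simp only [sympForm_add_left, sympForm_smul_left, sympForm_smul_right, sympForm_self, form_E0_E1, form_E0_F1,
    form_F1_E1, form_E1_F1, form_F1_E0, form_E1_E0]
  ext i
  simp only [Pi.add_apply, Pi.smul_apply, smul_eq_mul]
  ring

theorem se_comm {e u : I4 → K} (h : sympForm 2 K e u = 0) (a : K) :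
    se e u * transv e a = transv e a * se e u := by
  rw [mul_transv, se_mulVec h, sympForm_self, h, zero_smul, zero_smul, add_zero, add_zero]

/-- `a ^ 2 + b ^ 2 = -1` with `b ≠ 0` -/
theorem exists_ab [Finite K] (h2 : (2 : K) ≠ 0) : ∃ a b : K, a ^ 2 + b ^ 2 = -1 ∧ b ≠ 0 := by
  have := Fintype.ofFinite K
  have hodd : Fintype.card K % 2 = 1 := by
    have h := FiniteField.odd_card_of_char_ne_two (F := K) (fun h => h2 (by
      have := ringChar.of_eq h
      exact CharP.cast_eq_zero K 2 ▸ by norm_num))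
    omega
  obtain ⟨a, b, hab⟩ := FiniteField.exists_root_sum_quadratic (R := K)
    (f := Polynomial.X ^ 2) (g := Polynomial.X ^ 2 - Polynomial.C (-1))
    (Polynomial.degree_X_pow 2) (Polynomial.degree_X_pow_sub_C (by norm_num) (-1)) hodd
  have h : a ^ 2 + b ^ 2 = -1 := by
    simp at hab
    linear_combination hab
  by_cases hb : b = 0
  · refine ⟨b, a, by rw [add_comm]; exact h, ?_⟩
    rintro rfl
    rw [hb] at h
    apply (neg_ne_zero.2 (one_ne_zero (α := K)))
    rw [← h]; ring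
  · exact ⟨a, b, h, hb⟩

end K

variable {F : Type*} [Field F] {K : Type*} [Field K]

section main

variable {P : Subgroup (GL I4 F)} {L : GL I4 F → SK K → Prop} (c : Cov P L)
include c

/-- Long root elements lift to transvections. -/
theorem root_transv [Finite K] (hP : P ≤ spGL 2 F) (h2 : (2 : F) ≠ 0) {r : ℕ} [CharP K r] (hr : Odd r) :
    ∃ u : Matrix I4 I4 F, SA u ∧ u * u = 1 ∧ u ≠ 1 ∧ u ≠ -1 ∧
      ∀ (a : K) (C : GL I4 F), a ≠ 0 → L C (transv E0 a) → C ^ r = 1 → C ≠ 1 →
        ∃ (v : I4 → F) (κ : F), v ≠ 0 ∧ κ ≠ 0 ∧ u *ᵥ v = v ∧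
          (C : Matrix I4 I4 F) = sympTransvection 2 v κ := by
  have h2K : (2 : K) ≠ 0 := by
    intro h
    have h3 : r ∣ 2 := (CharP.cast_eq_zero_iff K r 2).1 (by exact_mod_cast h)
    have h4 : r ≠ 1 := CharP.char_ne_one K r
    have h5 : r = 2 := (Nat.dvd_prime Nat.prime_two).1 h3 |>.resolve_left h4
    rw [h5] at hr
    exact absurd hr (by decide)
  have hr0 : (r : K) = 0 := CharP.cast_eq_zero K r
  obtain ⟨a₀, b₀, hab, hb⟩ := exists_ab h2K
  -- the elements
  have hX : ∀ a : K, (in0 (X2 a)) ^ r = 1 := fun a => by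
    rw [← map_pow, X2_pow, hr0, zero_mul, X2_zero, map_one]
  have hY : ∀ a : K, (in0 (Y2 a)) ^ r = 1 := fun a => by
    rw [← map_pow, Y2_pow, hr0, zero_mul, Y2_zero, map_one]
  choose TX hTX hTXr using fun a => c.exists_odd hr (hX a)
  choose TY hTY hTYr using fun a => c.exists_odd hr (hY a)
  obtain ⟨i', hi'⟩ := c.ex (in1 (i2 : SpecialLinearGroup (Fin 2) K))
  obtain ⟨j', hj'⟩ := c.ex (in1 (j2 a₀ b₀ hab))
  set i := TX 1 * TY (-1) * TX 1 with hi_def
  set j := TY (-(1 + a₀) / b₀) * TX b₀ * TY ((a₀ - 1) / b₀) with hj_def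
  have hi : L i (in0 i2) := by
    rw [i2_eq, map_mul, map_mul]
    exact c.mul (c.mul (hTX _) (hTY _)) (hTX _)
  have hj : L j (in0 (j2 a₀ b₀ hab)) := by
    rw [j2_eq hab hb, map_mul, map_mul]
    exact c.mul (c.mul (hTY _) (hTX _)) (hTY _)
  -- commutation
  have cX : ∀ (a : K) (B : SpecialLinearGroup (Fin 2) K) (g : GL I4 F), L g (in1 B) → Commute (TX a) g :=
    fun a B g hg => c.odd_comm h2 hr (hTX a) hg (in_comm _ _) (hTXr a)
  have cY : ∀ (a : K) (B : SpecialLinearGroup (Fin 2) K) (g : GL I4 F), L g (in1 B) → Commute (TY a) g :=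
    fun a B g hg => c.odd_comm h2 hr (hTY a) hg (in_comm _ _) (hTYr a)
  have ci : ∀ (B : SpecialLinearGroup (Fin 2) K) (g : GL I4 F), L g (in1 B) → i * g = g * i :=
    fun B g hg => (((cX 1 B g hg).mul_left (cY (-1) B g hg)).mul_left (cX 1 B g hg)).eq
  have cj : ∀ (B : SpecialLinearGroup (Fin 2) K) (g : GL I4 F), L g (in1 B) → j * g = g * j :=
    fun B g hg => (((cY _ B g hg).mul_left (cX _ B g hg)).mul_left (cY _ B g hg)).eq
  -- the involutions
  set w := i * j * (j * i)⁻¹ with hw_def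
  set w' := i' * j' * (j' * i')⁻¹ with hw'_def
  have hzK : (i2 : SpecialLinearGroup (Fin 2) K) * j2 a₀ b₀ hab * (j2 a₀ b₀ hab * i2)⁻¹ = -1 := by
    rw [i2_j2, mul_inv_cancel_right]
  have hw : L w (in0 (-1)) := by
    rw [← hzK, map_mul, map_mul, map_inv, map_mul]
    exact c.mul (c.mul hi hj) (c.inv (c.mul hj hi))
  have hw' : L w' (in1 (-1)) := by
    rw [← hzK, map_mul, map_mul, map_inv, map_mul]
    exact c.mul (c.mul hi' hj') (c.inv (c.mul hj' hi'))
  have hji : ∀ φ : SpecialLinearGroup (Fin 2) K →* SK K,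
      φ (j2 a₀ b₀ hab) * φ i2 * (φ (j2 a₀ b₀ hab))⁻¹ = (φ i2)⁻¹ := by
    intro φ
    rw [← map_mul, ← map_inv, ← map_mul, ← map_inv]
    congr 1
    rw [mul_inv_eq_iff_eq_mul, eq_inv_mul_iff_mul_eq, ← mul_assoc, i2_j2, neg_one_mul, neg_mul, mul_assoc,
      i2_mul, mul_neg, mul_one, neg_neg]
  have hii : ∀ φ : SpecialLinearGroup (Fin 2) K →* SK K, φ i2 * φ i2 = φ (-1) := fun φ => by
    rw [← map_mul, i2_mul]
  have hjj : ∀ φ : SpecialLinearGroup (Fin 2) K →* SK K,
      φ (j2 a₀ b₀ hab) * φ (j2 a₀ b₀ hab) = φ (-1) := fun φ => by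
    rw [← map_mul, j2_mul]
  have hww : w * w = 1 := c.li (hii in0) (hjj in0) (hji in0) hw
  have hww' : w' * w' = 1 := c.li (hii in1) (hjj in1) (hji in1) hw'
  have hw1 : w ≠ 1 := by
    intro h
    rw [h] at hw
    exact in0_neg_notMem h2K (c.ker hw)
  have hw1' : w ≠ -1 := by
    intro h
    rw [h] at hw
    have := c.neg hw
    rw [neg_neg] at this
    exact in0_neg_notMem h2K (c.ker this)
  have hwS : SA (w : Matrix I4 I4 F) := SA.of_invol (hP (c.mem hw)) hww
  have hrel : w' = w ∨ w' = -w := by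
    have h5 : L (1 * w') (in0 (-1) * in1 (-1) * in1 (-1)) := c.mul (c.cen in_neg) hw'
    have h6 : (in0 (-1) * in1 (-1) * in1 (-1) : SK K) = in0 (-1) := by
      rw [mul_assoc, ← map_mul, neg_one_mul, neg_neg, map_one, mul_one]
    rw [h6, one_mul] at h5
    exact c.uniq h5 hw
  have hij : i * j = w * (j * i) := by rw [hw_def, inv_mul_cancel_right]
  have hij' : i' * j' = w' * (j' * i') := by rw [hw'_def, inv_mul_cancel_right]
  have hneg : w' = -w := by
    rcases hrel with h | h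
    · exfalso
      rw [h] at hij'
      exact quat_ne h2 hij hij' hwS hww hw1 hw1' (ci _ _ hi') (ci _ _ hj') (cj _ _ hi') (cj _ _ hj')
    · exact h
  have hw1n : w' ≠ 1 := by rw [hneg]; intro h; exact hw1' (by rw [← neg_neg w, h])
  have hw1n' : w' ≠ -1 := by rw [hneg]; intro h; exact hw1 (neg_injective h)
  have hwS' : SA (w' : Matrix I4 I4 F) := SA.of_invol (hP (c.mem hw')) hww'
  have hwm : (w' : Matrix I4 I4 F) * w' = 1 := by rw [← Units.val_mul, hww', Units.val_one]
  have hm1 : (w' : Matrix I4 I4 F) ≠ 1 := fun h => hw1n (Units.ext h)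
  have hm1' : (w' : Matrix I4 I4 F) ≠ -1 := fun h => hw1n' (Units.ext (by rw [h, Units.val_neg, Units.val_one]))
  have ciw : Commute i' w' := by
    have e1 : w' = -(i * j * (j * i)⁻¹) := hneg
    have c1 : Commute i' i := (ci _ _ hi').symm
    have c2 : Commute i' j := (cj _ _ hi').symm
    rw [e1]
    exact (((c1.mul_right c2).mul_right (c2.mul_right c1).inv_right)).neg_right
  have cjw : Commute j' w' := by
    have e1 : w' = -(i * j * (j * i)⁻¹) := hneg
    have c1 : Commute j' i := (ci _ _ hj').symm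
    have c2 : Commute j' j := (cj _ _ hj').symm
    rw [e1]
    exact (((c1.mul_right c2).mul_right (c2.mul_right c1).inv_right)).neg_right
  refine ⟨w', hwS', hwm, hm1, hm1', ?_⟩
  intro a C ha hC hCr hC1
  have hCin : L C (in0 (X2 a)) := by rw [in0_X2]; exact hC
  have hCS : C ∈ spGL 2 F := hP (c.mem hC)
  have hfix : ∀ v, (w' : Matrix I4 I4 F) *ᵥ v = -v → (C : Matrix I4 I4 F) *ᵥ v = v := fun v hv =>
    quat_fix h2 hCS hij' hwS' hww' hw1n hw1n' ciw cjw (c.odd_comm h2 hr hCin hi' (in_comm _ _) hCr)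
      (c.odd_comm h2 hr hCin hj' (in_comm _ _) hCr) hr hCr hv
  -- the Heisenberg group
  obtain ⟨A, hA⟩ := c.ex (se (E0 : I4 → K) E1)
  obtain ⟨B, hB⟩ := c.ex (se (E0 : I4 → K) ((a / 2) • F1))
  have h1 : sympForm 2 K E0 ((a / 2) • F1) = 0 := by rw [sympForm_smul_right, form_E0_F1, mul_zero]
  have hAC : C * A = A * C := c.odd_comm h2 hr hC hA (se_comm form_E0_E1 a).symm hCr
  have hBC : C * B = B * C := c.odd_comm h2 hr hC hB (se_comm h1 a).symm hCr
  have hAB : A * B = C * (B * A) ∨ A * B = -(C * (B * A)) := by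
    refine c.uniq (s := se (E0 : I4 → K) E1 * se E0 ((a / 2) • F1)) (c.mul hA hB) ?_
    rw [heis, mul_div_cancel₀ _ h2K]
    exact c.mul hC (c.mul hB hA)
  have hcoe : ∀ {x y : GL I4 F}, x = y → (x : Matrix I4 I4 F) = y := fun h => by rw [h]
  have key : ∃ ε : F, ε ≠ 0 ∧ (A : Matrix I4 I4 F) * B = ε • ((C : Matrix I4 I4 F) * ((B : Matrix I4 I4 F) * A)) := by
    rcases hAB with h | h
    · refine ⟨1, one_ne_zero, ?_⟩
      rw [one_smul, ← Units.val_mul, h, Units.val_mul, Units.val_mul]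
    · refine ⟨-1, neg_ne_zero.2 one_ne_zero, ?_⟩
      rw [neg_one_smul, ← Units.val_mul, h, Units.val_neg, Units.val_mul, Units.val_mul]
  obtain ⟨ε, hε, hABε⟩ := key
  exact transv_of h2 hwS' hwm hm1 hm1' (Iso.of_mem hCS) hr
    (by rw [← Units.val_pow_eq_pow_val, hCr, Units.val_one])
    (fun h => hC1 (Units.ext h)) hfix (hP (c.mem hA)) (hP (c.mem hB))
    (by rw [← Units.val_mul, ← hAC, Units.val_mul]) (by rw [← Units.val_mul, ← hBC, Units.val_mul]) hABε hε

end main

end Cfsg.Agent.H991.Sp4
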