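import Cfsg.Agent.H991.Sp4Lin

/-!
# Recognising transvections of a 4-dimensional symplectic space (helper991)

Task 45 (for S5788, S5786).
-/

set_option autoImplicit false

namespace Cfsg.Agent.H991.Sp4

open Cfsg Cfsg.Geo Matrix Module
open Cfsg.Agent.ClassicalGeometry.SympBasic Cfsg.Agent.H909

variable {F : Type*} [Field F]

theorem Iso.of_mem {g : GL I4 F} (hg : g ∈ spGL 2 F) : Iso (g : Matrix I4 I4 F) := mem_spGL_iff.1 hg

theorem iso_inv_left {g : GL I4 F} (hg : g ∈ spGL 2 F) (u v : I4 → F) :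
    sympForm 2 F u ((g : Matrix I4 I4 F) *ᵥ v) =
      sympForm 2 F (((g⁻¹ : GL I4 F) : Matrix I4 I4 F) *ᵥ u) v := by
  have h := sympForm_inv_right (inv_mem hg) u v
  rw [inv_inv] at h
  exact h.symm

theorem sub_Eig {u : Matrix I4 I4 F} {v : I4 → F} : v ∈ Eig (-u) ↔ u *ᵥ v = v := by
  rw [mem_Eig, Matrix.neg_mulVec, neg_inj]

/-- in a 2-dimensional non-degenerate eigenspace, orthogonal vectors are proportional -/
theorem prop_of_orth {u : Matrix I4 I4 F} (h2 : (2 : F) ≠ 0) (hu : SA u) (huu : u * u = 1) (h1 : u ≠ 1)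
    (h1' : u ≠ -1) {v w : I4 → F} (hv : u *ᵥ v = -v) (hv0 : v ≠ 0) (hw : u *ᵥ w = -w)
    (hvw : sympForm 2 F v w = 0) : ∃ c : F, w = c • v := by
  by_contra hcon
  push Not at hcon
  obtain ⟨y, hy, hyv⟩ := eig_nondeg h2 hu huu hv hv0
  obtain ⟨a, b, hab⟩ := span_pair (finrank_Eig h2 hu huu h1 h1') (mem_Eig.2 hv) (mem_Eig.2 hw) hv0 hcon
    (mem_Eig.2 hy)
  apply hyv
  rw [hab, sympForm_add_left, sympForm_smul_left, sympForm_smul_left, sympForm_self, sympForm_swap, hvw]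
  ring

theorem neg_SA {u : Matrix I4 I4 F} (hu : SA u) : SA (-u) := hu.neg

/-- an isometry fixing the `-1`-eigenspace pointwise preserves the `1`-eigenspace -/
theorem preserves_plus {u C : Matrix I4 I4 F} (h2 : (2 : F) ≠ 0) (hu : SA u) (huu : u * u = 1) (hC : Iso C)
    (hfix : ∀ v, u *ᵥ v = -v → C *ᵥ v = v) {y : I4 → F} (hy : u *ᵥ y = y) : u *ᵥ (C *ᵥ y) = C *ᵥ y := by
  obtain ⟨a, b, ha, hb, hab⟩ := decomp h2 huu (C *ᵥ y)
  have ha0 : a = 0 := by
    by_contra hne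
    obtain ⟨x, hx, hxa⟩ := eig_nondeg h2 hu huu ha hne
    apply hxa
    have h3 := hC x y
    rw [hfix x hx, hab, sympForm_add_right, orth h2 hu hx hb, add_zero, orth h2 hu hx hy] at h3
    exact h3
  rw [hab, ha0, zero_add, hb]

/-- the recognition of transvections -/
theorem transv_of {u C : Matrix I4 I4 F} (h2 : (2 : F) ≠ 0) (hu : SA u) (huu : u * u = 1) (h1 : u ≠ 1)
    (h1' : u ≠ -1) (hC : Iso C) {r : ℕ} (hr : Odd r) (hCr : C ^ r = 1) (hC1 : C ≠ 1)
    (hfix : ∀ v, u *ᵥ v = -v → C *ᵥ v = v) {A B : GL I4 F} (hA : A ∈ spGL 2 F) (hB : B ∈ spGL 2 F)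
    (hAC : (A : Matrix I4 I4 F) * C = C * A) (hBC : (B : Matrix I4 I4 F) * C = C * B) {ε : F}
    (hAB : (A : Matrix I4 I4 F) * B = ε • (C * (B * A))) (hε : ε ≠ 0) :
    ∃ (v : I4 → F) (κ : F), v ≠ 0 ∧ κ ≠ 0 ∧ u *ᵥ v = v ∧ C = sympTransvection 2 v κ := by
  have hnu : SA (-u) := hu.neg
  have hnuu : (-u) * (-u) = 1 := by rw [neg_mul_neg, huu]
  have hn1 : (-u) ≠ 1 := fun h => h1' (by rw [← neg_neg u, h])
  have hn1' : (-u) ≠ -1 := fun h => h1 (neg_injective h)
  have hpre : ∀ y, u *ᵥ y = y → u *ᵥ (C *ᵥ y) = C *ᵥ y := fun y hy => preserves_plus h2 hu huu hC hfix hy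
  -- `C` is not the identity on the `1`-eigenspace
  have hne : ¬ ∀ y, u *ᵥ y = y → C *ᵥ y = y := by
    intro h
    apply hC1
    rw [← Matrix.mulVec_injective.eq_iff]
    funext v
    obtain ⟨x, y, hx, hy, rfl⟩ := decomp h2 huu v
    rw [Matrix.mulVec_add, hfix x hx, h y hy, Matrix.one_mulVec]
  have hns : ¬ ∃ c : F, ∀ y, u *ᵥ y = y → C *ᵥ y = c • y := by
    rintro ⟨c, hc⟩
    apply hne
    intro y hy
    exact scalar_trivial h2 hnu hnuu hn1 hC hr hCr (c := c)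
      (fun v hv => hc v (by rwa [Matrix.neg_mulVec, neg_inj] at hv)) y (by rw [Matrix.neg_mulVec, hy])
  by_cases hex : ∃ v, u *ᵥ v = v ∧ v ≠ 0 ∧ C *ᵥ v = v
  · obtain ⟨v, hv, hv0, hCv⟩ := hex
    have hv' : (-u) *ᵥ v = -v := by rw [Matrix.neg_mulVec, hv]
    -- images of `C - 1` are multiples of `v`
    have him : ∀ w, ∃ c : F, C *ᵥ w = w + c • v := by
      intro w
      obtain ⟨x, y, hx, hy, rfl⟩ := decomp h2 huu w
      have h3 : (-u) *ᵥ (C *ᵥ y - y) = -(C *ᵥ y - y) := by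
        rw [Matrix.neg_mulVec, Matrix.mulVec_sub, hpre y hy, hy]
      have h4 : sympForm 2 F v (C *ᵥ y - y) = 0 := by
        have h5 := hC v y
        rw [hCv] at h5
        rw [sympForm_sub_right, h5, sub_self]
      obtain ⟨c, hc⟩ := prop_of_orth h2 hnu hnuu hn1 hn1' hv' hv0 h3 h4
      refine ⟨c, ?_⟩
      rw [Matrix.mulVec_add, hfix x hx, ← hc]
      abel
    obtain ⟨y₀, hyv⟩ : ∃ y₀ : I4 → F, sympForm 2 F y₀ v = 1 := by
      obtain ⟨y₁, -, hy₁⟩ := eig_nondeg h2 hnu hnuu hv' hv0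
      exact ⟨(sympForm 2 F y₁ v)⁻¹ • y₁, by rw [sympForm_smul_left, inv_mul_cancel₀ hy₁]⟩
    obtain ⟨κ, hκ⟩ := him y₀
    have hperp : ∀ w, sympForm 2 F w v = 0 → C *ᵥ w = w := by
      intro w hw
      obtain ⟨c, hc⟩ := him w
      have h5 := hC w y₀
      rw [hc, hκ, sympForm_add_left, sympForm_add_right, sympForm_add_right, sympForm_smul_left,
        sympForm_smul_left, sympForm_smul_right, sympForm_smul_right, sympForm_self, hw, sympForm_swap v y₀,
        hyv] at h5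
      have h6 : c = 0 := by linear_combination -h5
      rw [hc, h6, zero_smul, add_zero]
    have hCt : C = sympTransvection 2 v κ := by
      rw [← Matrix.mulVec_injective.eq_iff]
      funext w
      rw [sympTransvection_mulVec]
      have h7 : sympForm 2 F (w - sympForm 2 F w v • y₀) v = 0 := by
        rw [sympForm_sub_left, sympForm_smul_left, hyv, mul_one, sub_self]
      have h8 := hperp _ h7
      rw [Matrix.mulVec_sub, Matrix.mulVec_smul, hκ, smul_add, smul_smul, sub_eq_iff_eq_add] at h8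
      rw [h8, mul_comm κ, mul_smul]
      abel
    refine ⟨v, κ, hv0, ?_, hv, hCt⟩
    rintro rfl
    exact hC1 (by rw [hCt, sympTransvection_zero])
  · push Not at hex
    exfalso
    -- the fixed space of `C` is the `-1`-eigenspace
    have hfx : ∀ w, C *ᵥ w = w → u *ᵥ w = -w := by
      intro w hw
      obtain ⟨x, y, hx, hy, rfl⟩ := decomp h2 huu w
      rw [Matrix.mulVec_add, hfix x hx, add_right_inj] at hw
      have hy0 : y = 0 := by
        by_contra hne
        exact hex y hy hne hw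
      rw [hy0, add_zero, hx]
    -- elements commuting with `C` preserve both eigenspaces
    have hminus : ∀ {g : GL I4 F}, (g : Matrix I4 I4 F) * C = C * g → ∀ x, u *ᵥ x = -x →
        u *ᵥ ((g : Matrix I4 I4 F) *ᵥ x) = -((g : Matrix I4 I4 F) *ᵥ x) := by
      intro g hg x hx
      apply hfx
      rw [mulVec_mulVec, ← hg, ← mulVec_mulVec, hfix x hx]
    have hinv : ∀ {g : GL I4 F}, (g : Matrix I4 I4 F) * C = C * g →
        ((g⁻¹ : GL I4 F) : Matrix I4 I4 F) * C = C * ((g⁻¹ : GL I4 F) : Matrix I4 I4 F) := by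
      intro g hg
      have e1 : ((g⁻¹ : GL I4 F) : Matrix I4 I4 F) * g = 1 := by
        rw [← Units.val_mul, inv_mul_cancel, Units.val_one]
      have e2 : (g : Matrix I4 I4 F) * ((g⁻¹ : GL I4 F) : Matrix I4 I4 F) = 1 := by
        rw [← Units.val_mul, mul_inv_cancel, Units.val_one]
      calc ((g⁻¹ : GL I4 F) : Matrix I4 I4 F) * C
          = ((g⁻¹ : GL I4 F) : Matrix I4 I4 F) * C * ((g : Matrix I4 I4 F) * ((g⁻¹ : GL I4 F) : Matrix I4 I4 F)) := by
            rw [e2, mul_one]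
        _ = ((g⁻¹ : GL I4 F) : Matrix I4 I4 F) * (C * (g : Matrix I4 I4 F)) * ((g⁻¹ : GL I4 F) : Matrix I4 I4 F) := by
            simp only [mul_assoc]
        _ = (((g⁻¹ : GL I4 F) : Matrix I4 I4 F) * (g : Matrix I4 I4 F)) * C * ((g⁻¹ : GL I4 F) : Matrix I4 I4 F) := by
            rw [← hg]; simp only [mul_assoc]
        _ = _ := by rw [e1, one_mul]
    have hplus : ∀ {g : GL I4 F}, g ∈ spGL 2 F → (g : Matrix I4 I4 F) * C = C * g → ∀ y, u *ᵥ y = y →
        u *ᵥ ((g : Matrix I4 I4 F) *ᵥ y) = (g : Matrix I4 I4 F) *ᵥ y := by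
      intro g hg hgC y hy
      obtain ⟨a, b, ha, hb, hab⟩ := decomp h2 huu ((g : Matrix I4 I4 F) *ᵥ y)
      have ha0 : a = 0 := by
        by_contra hne
        obtain ⟨x, hx, hxa⟩ := eig_nondeg h2 hu huu ha hne
        apply hxa
        have h3 := iso_inv_left hg x y
        rw [hab, sympForm_add_right, orth h2 hu hx hb, add_zero,
          orth h2 hu (hminus (hinv hgC) x hx) hy] at h3
        exact h3
      rw [hab, ha0, zero_add, hb]
    rcases comm_or_scalar (finrank_Eig h2 hnu hnuu hn1 hn1') (A := (A : Matrix I4 I4 F))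
      (B := (B : Matrix I4 I4 F)) (C := C)
      (fun v hv => sub_Eig.2 (hplus hA hAC v (sub_Eig.1 hv)))
      (fun v hv => sub_Eig.2 (hplus hB hBC v (sub_Eig.1 hv)))
      (fun v hv => sub_Eig.2 (hpre v (sub_Eig.1 hv)))
      (fun v _ => by rw [mulVec_mulVec, mulVec_mulVec, hAC])
      (fun v _ => by rw [mulVec_mulVec, mulVec_mulVec, hBC]) with ⟨c, hc⟩ | hcom
    · exact hns ⟨c, fun y hy => hc y (sub_Eig.2 hy)⟩
    · apply hns
      refine ⟨ε⁻¹, fun z hz => ?_⟩
      -- `z = B (A y)`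
      set y := ((A⁻¹ : GL I4 F) : Matrix I4 I4 F) *ᵥ (((B⁻¹ : GL I4 F) : Matrix I4 I4 F) *ᵥ z) with hy
      have hyp : u *ᵥ y = y := hplus (inv_mem hA) (hinv hAC) _ (hplus (inv_mem hB) (hinv hBC) _ hz)
      have hzy : (B : Matrix I4 I4 F) *ᵥ ((A : Matrix I4 I4 F) *ᵥ y) = z := by
        rw [hy, mulVec_mulVec _ (A : Matrix I4 I4 F), ← Units.val_mul, mul_inv_cancel, Units.val_one,
          Matrix.one_mulVec, mulVec_mulVec, ← Units.val_mul, mul_inv_cancel, Units.val_one, Matrix.one_mulVec]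
      have h9 := hcom y (sub_Eig.2 hyp)
      rw [hzy, mulVec_mulVec, hAB, Matrix.smul_mulVec, ← mulVec_mulVec, ← mulVec_mulVec, hzy] at h9
      calc C *ᵥ z = ε⁻¹ • (ε • (C *ᵥ z)) := by rw [smul_smul, inv_mul_cancel₀ hε, one_smul]
        _ = ε⁻¹ • z := by rw [h9]

end Cfsg.Agent.H991.Sp4
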