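import Cfsg.Agent.S1252
import Cfsg.Agent.BenderType.Inv
import Cfsg.Agent.H991.GroupGen

/-!
# Strongly closed 2-subgroups of simple groups (helper991)

`closed_or`: `G` finite simple of order divisible by 3, with two noncommuting involutions in a Sylow 2-subgroup `S`:
the strongly closed subgroups of `S` are `1` and `S` (from S1252).
-/

set_option autoImplicit false

namespace Cfsg.Agent.H991

open Cfsg Cfsg.FusionSystem Cfsg.Agent.H802

variable {G : Type*} [Group G]

theorem isStronglyClosed_of {S T : Subgroup G} (hT : (groupFusionSystem S).StronglyClosed T) :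
    IsStronglyClosed T S := by
  refine ⟨hT.1, fun x hx g hg => ?_⟩
  have hz : Subgroup.zpowers x ≤ T := (Subgroup.zpowers_le).2 hx
  have hm : conjHom (Subgroup.zpowers x) g ∈ (groupFusionSystem S).Hom (Subgroup.zpowers x) := by
    refine ⟨hz.trans hT.1, ?_, g, fun _ => rfl⟩
    rintro ⟨y, k, rfl⟩
    show g * x ^ k * g⁻¹ ∈ S
    rw [← conj_zpow]
    exact S.zpow_mem hg k
  exact hT.2 _ hz _ hm ⟨x, Subgroup.mem_zpowers x⟩

theorem stronglyClosed_of {S T : Subgroup G} (hT : IsStronglyClosed T S) :
    (groupFusionSystem S).StronglyClosed T := by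
  refine ⟨hT.1, fun R hR φ hφ x => ?_⟩
  obtain ⟨-, h1, g, hg⟩ := hφ
  rw [hg x]
  exact hT.2 _ (hR x.2) g ((hg x).symm ▸ h1 x)

/-- A field of order `q ^ 2`, `q` even: `q` is a power of two. -/
theorem exists_two_pow {F : Type*} [Field F] [Fintype F] {q : ℕ} (hF : Fintype.card F = q ^ 2)
    (hq : Even q) (hq0 : q ≠ 0) : ∃ n : ℕ, q = 2 ^ n := by
  have hpp : IsPrimePow (Fintype.card F) := Fintype.isPrimePow_card_of_field
  rw [hF] at hpp
  obtain ⟨p, k, hp, hk, hpk⟩ := hpp
  have hp' : p.Prime := hp.nat_prime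
  have h2 : 2 ∣ p ^ k := by
    rw [hpk]
    exact dvd_pow (even_iff_two_dvd.1 hq) two_ne_zero
  have h2p : 2 = p := (Nat.prime_dvd_prime_iff_eq Nat.prime_two hp').1 (Nat.prime_two.dvd_of_dvd_pow h2)
  subst h2p
  have hqd : q ∣ 2 ^ k := by
    rw [hpk]
    exact dvd_pow_self q two_ne_zero
  obtain ⟨n, -, hn⟩ := (Nat.dvd_prime_pow Nat.prime_two).1 hqd
  exact ⟨n, hn⟩

theorem closed_or [Finite G] [IsSimpleGroup G] (S : Sylow 2 G) (h3 : 3 ∣ Nat.card G)
    (hnc : ∃ x y : (S : Subgroup G), x * x = 1 ∧ y * y = 1 ∧ x * y ≠ y * x)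
    (T : Subgroup G) (hT : (groupFusionSystem (S : Subgroup G)).StronglyClosed T) :
    T = ⊥ ∨ T = (S : Subgroup G) := by
  by_contra hcon
  rw [not_or] at hcon
  obtain ⟨hT1, hTS⟩ := hcon
  have hsc := isStronglyClosed_of hT
  have hlt : T < (S : Subgroup G) := lt_of_le_of_ne hT.1 hTS
  -- the index of `T` is even
  have heven : Even T.index := by
    have h1 : (T.relIndex (S : Subgroup G)) * (S : Subgroup G).index = T.index :=
      Subgroup.relIndex_mul_index hT.1
    have h2 : 2 ∣ T.relIndex (S : Subgroup G) := by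
      have h3' : T.relIndex (S : Subgroup G) ≠ 1 := fun h =>
        hTS (le_antisymm hT.1 (Subgroup.relIndex_eq_one.1 h))
      have h4 : T.relIndex (S : Subgroup G) ∣ Nat.card (S : Subgroup G) :=
        Subgroup.relIndex_dvd_card T (S : Subgroup G)
      obtain ⟨n, hn⟩ := (IsPGroup.iff_card (p := 2)).1 S.isPGroup'
      rw [hn] at h4
      obtain ⟨j, -, hj⟩ := (Nat.dvd_prime_pow Nat.prime_two).1 h4
      rw [hj]
      refine dvd_pow_self 2 ?_
      rintro rfl
      exact h3' (by rw [hj, pow_zero])
    rw [← h1]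
    exact (even_iff_two_dvd.2 h2).mul_right _
  have htop : ∀ N : Subgroup G, N.Normal → N ≠ ⊥ → N = ⊤ := fun N hN hN1 =>
    (hN.eq_bot_or_eq_top).resolve_left hN1
  have hncl : Subgroup.normalClosure (T : Set G) = ⊤ := by
    refine htop _ inferInstance fun h => hT1 ?_
    have h5 : T ≤ Subgroup.normalClosure (T : Set G) := Subgroup.le_normalClosure
    rw [h] at h5
    exact (le_bot_iff).1 h5
  obtain ⟨-, r, L, hcomm, -, hsup, hL, -⟩ := Cfsg.Agent.S1252.result S T hsc
    (by rw [hncl, Subgroup.relIndex_top_right]; exact heven)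
    (fun N hN hN1 => by
      rw [htop N hN hN1, inf_top_eq, Subgroup.relIndex_top_right]
      exact heven)
  rw [hncl] at hsup
  -- some `L i` is everything
  obtain ⟨i, hi⟩ : ∃ i, L i = ⊤ := by
    by_contra hno
    push Not at hno
    have hbot : ∀ i, L i = ⊥ := by
      intro i
      by_contra hne
      refine hno i (htop (L i) ?_ hne)
      have h6 : (⊤ : Subgroup G) ≤ Subgroup.normalizer (L i : Set G) := by
        rw [← hsup]
        refine iSup_le fun j => ?_
        by_cases hij : j = i
        · subst hij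
          exact Subgroup.le_normalizer
        · intro b hb
          rw [Subgroup.mem_normalizer_iff]
          intro a
          constructor
          · intro ha
            have h7 := hcomm i j (Ne.symm hij) a ha b hb
            rw [show b * a * b⁻¹ = a by rw [← h7]; group]
            exact ha
          · intro ha
            have h7 := hcomm i j (Ne.symm hij) _ ha b hb
            have h8 : b * a * b⁻¹ = a := by
              have : b * (b * a * b⁻¹) = b * a * b⁻¹ * b := h7.symm
              have h9 : b * a * b⁻¹ = a * b * b⁻¹ := by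
                have h10 : b * (b * a * b⁻¹) = b * a := by rw [this]; group
                have h11 := mul_left_cancel h10
                rw [h11]
                group
              rw [h9]
              group
            rw [h8] at ha
            exact ha
      exact ⟨fun a ha g => (Subgroup.mem_normalizer_iff.1 (h6 (Subgroup.mem_top g)) a).1 ha⟩
    have h7 : (⨆ i, L i) = ⊥ := by
      rw [iSup_eq_bot]
      exact hbot
    rw [hsup] at h7
    exact top_ne_bot h7
  obtain ⟨-, hL⟩ := hL i
  have e0 : G ≃* ↥(L i) := (Subgroup.topEquiv.symm).trans (MulEquiv.subgroupCongr hi.symm)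
  rcases hL with ⟨F, _, _, q, hF, hq, hq4, ⟨e⟩⟩ | ⟨-, m, -, hm⟩
  · obtain ⟨n, rfl⟩ := exists_two_pow hF hq (by omega)
    have hn : 1 ≤ n := by
      rcases Nat.eq_zero_or_pos n with rfl | h
      · omega
      · exact h
    have hfin : Finite (PSU 3 F (2 ^ n)) := Finite.of_equiv _ (e0.trans e).toEquiv
    let P : Sylow 2 (PSU 3 F (2 ^ n)) := S.comapOfInjective (e0.trans e).symm.toMonoidHom
      (e0.trans e).symm.injective (by
        rw [MonoidHom.range_eq_top.2 (e0.trans e).symm.surjective]
        exact le_top)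
    have hty := Cfsg.Agent.BenderType.Inv.ty_psu hn hF P
    obtain ⟨x, y, hx, hy, hxy⟩ := hnc
    have hmem : ∀ s : (S : Subgroup G), (e0.trans e) s ∈ (P : Subgroup (PSU 3 F (2 ^ n))) := by
      intro s
      show (e0.trans e).symm ((e0.trans e) s) ∈ (S : Subgroup G)
      rw [MulEquiv.symm_apply_apply]
      exact s.2
    apply hxy
    have h1 := hty.comm ⟨_, hmem x⟩ ⟨_, hmem y⟩
      (Subtype.ext (by
        show (e0.trans e) x * (e0.trans e) x = 1
        rw [← map_mul, ← Subgroup.coe_mul, hx, Subgroup.coe_one, map_one]))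
      (Subtype.ext (by
        show (e0.trans e) y * (e0.trans e) y = 1
        rw [← map_mul, ← Subgroup.coe_mul, hy, Subgroup.coe_one, map_one]))
    have h2 := congrArg Subtype.val h1
    change (e0.trans e) x * (e0.trans e) y = (e0.trans e) y * (e0.trans e) x at h2
    rw [← map_mul, ← map_mul] at h2
    exact Subtype.ext ((e0.trans e).injective h2)
  · rw [← Nat.card_congr e0.toEquiv] at hm
    rw [hm] at h3
    have h4 : 2 ^ (2 * m + 1) % 3 = 2 := by
      rw [pow_succ, pow_mul]
      norm_num [Nat.mul_mod, Nat.pow_mod]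
    generalize hQ : 2 ^ (2 * m + 1) = Q at h3 h4
    have h5 : 1 ≤ Q := by omega
    have h6 : (Q - 1) % 3 = 1 := by omega
    have h7 : (Q ^ 2 * (Q ^ 2 + 1) * (Q - 1)) % 3 = 2 := by
      rw [Nat.mul_mod, Nat.mul_mod (Q ^ 2), Nat.add_mod, Nat.pow_mod, h4, h6]
    omega

end Cfsg.Agent.H991
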